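import Cfsg.Agent.Lib.Char.RelMcKay.Mackey

/-!
# Invariant extensions and linear characters

Over a `p`-quotient a group of order prime to `p` fixes an extension, and the extensions of two
linked characters correspond equivariantly.
-/

set_option autoImplicit false
set_option linter.unusedSectionVars false
set_option linter.style.haveILetI false

namespace CfsgLib.Char.RelMcKay

open scoped ComplexConjugate
open Cfsg CfsgLib CfsgLib.Char

universe u

variable {G : Type u} [Group G] [Finite G]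

noncomputable local instance instFinSub10 (A : Subgroup G) : Fintype A := Fintype.ofFinite _

noncomputable local instance instFinIrr10 (A : Subgroup G) : Fintype (IrrCharacter A) :=
  Fintype.ofFinite _

theorem res_subgroupOf_eq {U V : Subgroup G} (hVU : V ≤ U) {χ : IrrCharacter U}
    {φ : IrrCharacter V} (h : Ext χ φ) :
    (fun n : V.subgroupOf U => (χ : U → ℂ) n) = (toSub hVU φ : V.subgroupOf U → ℂ) :=
  funext fun n => by
    rw [show (toSub hVU φ : V.subgroupOf U → ℂ) n =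
      (φ : V → ℂ) (Subgroup.subgroupOfEquivOfLe hVU n) from rfl,
      ← show res V (χ : U → ℂ) = _ from h,
      res_apply (show ((Subgroup.subgroupOfEquivOfLe hVU n : V) : G) ∈ U from (n : U).2)]
    exact congrArg _ (Subtype.ext rfl)

/-- Two extensions differ by a linear character. -/
theorem exists_linMul_of_ext {U V : Subgroup G} [(V.subgroupOf U).Normal] (hVU : V ≤ U)
    {χ χ' : IrrCharacter U} {φ : IrrCharacter V} (h : Ext χ φ) (h' : Ext χ' φ) :
    ∃ f ∈ linearOver (V.subgroupOf U), linMul f χ = χ' := by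
  have hres := res_subgroupOf_eq hVU h
  have hres' := res_subgroupOf_eq hVU h'
  have hne : classInner (fun n : V.subgroupOf U => (χ' : U → ℂ) n)
      (fun n : V.subgroupOf U => (χ : U → ℂ) n) ≠ 0 := by
    rw [hres, hres', classInner_irr_self]
    exact one_ne_zero
  obtain ⟨hβ, he⟩ := gallagher (V.subgroupOf U) χ (hres ▸ (toSub hVU φ).2) χ' hne
  set β := cosetAvg (V.subgroupOf U) (fun x => (χ' : U → ℂ) x * conj ((χ : U → ℂ) x))
  have hd : deg χ' = deg χ := by rw [h.deg_eq hVU, h'.deg_eq hVU]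
  have h1 : β 1 = 1 := by
    have h1 := congrFun he 1
    rw [Pi.mul_apply, one_eq_deg, one_eq_deg, hd] at h1
    exact (mul_eq_left₀ (Nat.cast_ne_zero.2 (deg_pos χ).ne')).1 h1.symm
  set f := (linearCharEquiv (G := U)).symm ⟨⟨β, hβ⟩, h1⟩
  have hf : ∀ g : U, (f g : ℂ) = β g := fun g =>
    congrFun (congrArg (fun z => ((z.1 : IrrCharacter U) : U → ℂ))
      ((linearCharEquiv (G := U)).apply_symm_apply ⟨⟨β, hβ⟩, h1⟩)) g
  refine ⟨f, fun n hn => Units.ext ?_, Subtype.ext (funext fun g => ?_)⟩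
  · have h2 := cosetAvg_mul_left (V.subgroupOf U)
      (fun x => (χ' : U → ℂ) x * conj ((χ : U → ℂ) x)) ⟨n, hn⟩ 1
    rw [show ((⟨n, hn⟩ : V.subgroupOf U) : U) * 1 = n from mul_one n] at h2
    rw [hf, Units.val_one, ← h1]
    exact h2
  · show (f g : ℂ) * (χ : U → ℂ) g = _
    rw [hf, he, Pi.mul_apply, mul_comm]

theorem linMul_mul {U : Subgroup G} (f f' : U →* ℂˣ) (χ : IrrCharacter U) :
    linMul (f * f') χ = linMul f (linMul f' χ) :=
  Subtype.ext (funext fun g => by
    show ((f * f') g : ℂ) * (χ : U → ℂ) g = (f g : ℂ) * ((f' g : ℂ) * (χ : U → ℂ) g)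
    rw [MonoidHom.mul_apply, Units.val_mul, mul_assoc])

theorem linMul_one {U : Subgroup G} (χ : IrrCharacter U) : linMul (1 : U →* ℂˣ) χ = χ :=
  Subtype.ext (funext fun g => by
    show ((1 : U →* ℂˣ) g : ℂ) * (χ : U → ℂ) g = _
    rw [MonoidHom.one_apply, Units.val_one, one_mul])

theorem Ext.linMul {U V : Subgroup G} [(V.subgroupOf U).Normal] (hVU : V ≤ U)
    {χ : IrrCharacter U} {φ : IrrCharacter V} (h : Ext χ φ) {f : U →* ℂˣ}
    (hf : f ∈ linearOver (V.subgroupOf U)) : Ext (Char.linMul f χ) φ := by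
  show res V _ = _
  rw [← show res V (χ : U → ℂ) = _ from h]
  funext v
  rw [res_apply (hVU v.2), res_apply (hVU v.2)]
  show (f ⟨v, hVU v.2⟩ : ℂ) * _ = _
  rw [hf _ (Subgroup.mem_subgroupOf.2 v.2), Units.val_one, one_mul]

theorem linMul_injective {U V : Subgroup G} [(V.subgroupOf U).Normal] (hVU : V ≤ U)
    {χ : IrrCharacter U} {φ : IrrCharacter V} (h : Ext χ φ) {f f' : U →* ℂˣ}
    (hf : f ∈ linearOver (V.subgroupOf U)) (hf' : f' ∈ linearOver (V.subgroupOf U))
    (he : Char.linMul f χ = Char.linMul f' χ) : f = f' := by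
  have h1 : Char.linMul (f'⁻¹ * f) χ = χ := by
    rw [linMul_mul, he, ← linMul_mul,
      show f'⁻¹ * f' = 1 from MonoidHom.ext fun x => by simp, linMul_one]
  exact (inv_mul_eq_one.1 (linMul_eq_self hVU h (mul_mem (inv_mem hf') hf) h1)).symm

theorem cjI_linMul {U : Subgroup G} {g : G} (hg : g ∈ Subgroup.normalizer (U : Set G))
    (f : U →* ℂˣ) (χ : IrrCharacter U) :
    cjI g (linMul f χ) = linMul (f.comp (conjEquiv hg).toMonoidHom) (cjI g χ) :=
  Subtype.ext (by
    rw [cjI_coe hg]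
    funext x
    show cj g _ x = ((f.comp (conjEquiv hg).toMonoidHom) x : ℂ) * (cjI g χ : U → ℂ) x
    rw [cjI_coe hg, cj_eq_comp hg, cj_eq_comp hg]
    rfl)

theorem comp_conj_mem {U V : Subgroup G} [(V.subgroupOf U).Normal] {g : G}
    (hgU : g ∈ Subgroup.normalizer (U : Set G)) (hgV : g ∈ Subgroup.normalizer (V : Set G))
    {f : U →* ℂˣ} (hf : f ∈ linearOver (V.subgroupOf U)) :
    f.comp (conjEquiv hgU).toMonoidHom ∈ linearOver (V.subgroupOf U) :=
  fun _ hk => hf _ (Subgroup.mem_subgroupOf.2 (inv_conj_mem hgV (Subgroup.mem_subgroupOf.1 hk)))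

/-- A group of order prime to `p` modulo `L` fixes an extension along a `p`-quotient. -/
theorem exists_fixed_ext {p : ℕ} [hp : Fact p.Prime] {L U V A : Subgroup G} (hVU : V ≤ U)
    (hn : U ≤ Subgroup.normalizer (V : Set G)) (hPU : PMod p V U) (hLU : L ≤ U)
    (hAU : A ≤ Subgroup.normalizer (U : Set G)) (hAV : A ≤ Subgroup.normalizer (V : Set G))
    (hcop : ¬ p ∣ L.relIndex A)
    {θ : IrrCharacter V} (hA : Fixed A θ) (hθ : ExtTo θ U) :
    ∃ η : IrrCharacter U, Ext η θ ∧ Fixed A η := by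
  classical
  haveI := normal_subgroupOf (U := U) (V := V) hn
  obtain ⟨η₀, hη₀⟩ := hθ
  set Lam := linearOver (V.subgroupOf U)
  haveI : Finite (U →* ℂˣ) := Finite.of_injective _ (linearCharEquiv (G := U)).injective
  let Ω := {η : IrrCharacter U // Ext η θ}
  letI : MulAction Lam Ω :=
    { smul := fun f η => ⟨Char.linMul f.1 η.1, η.2.linMul hVU f.2⟩
      one_smul := fun η => Subtype.ext (linMul_one η.1)
      mul_smul := fun f f' η => Subtype.ext (linMul_mul f.1 f'.1 η.1) }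
  let cL : A → MulAut Lam := fun a =>
    { toFun := fun f => ⟨f.1.comp (conjEquiv (hAU a.2)).toMonoidHom, comp_conj_mem _ (hAV a.2) f.2⟩
      invFun := fun f => ⟨f.1.comp (conjEquiv (hAU (inv_mem a.2))).toMonoidHom,
        comp_conj_mem _ (hAV (inv_mem a.2)) f.2⟩
      left_inv := fun f => Subtype.ext (MonoidHom.ext fun x =>
        congrArg f.1 (Subtype.ext (by simp [conjEquiv, mul_assoc])))
      right_inv := fun f => Subtype.ext (MonoidHom.ext fun x =>
        congrArg f.1 (Subtype.ext (by simp [conjEquiv, mul_assoc])))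
      map_mul' := fun _ _ => rfl }
  let cΩ : A → Equiv.Perm Ω := fun a =>
    { toFun := fun η => ⟨RelMcKay.cjI (a : G) η.1, by
        have := η.2.cjI hVU (hAU a.2) (hAV a.2)
        rwa [hA a a.2] at this⟩
      invFun := fun η => ⟨RelMcKay.cjI (a : G)⁻¹ η.1, by
        have := η.2.cjI hVU (hAU (inv_mem a.2)) (hAV (inv_mem a.2))
        rwa [hA _ (inv_mem a.2)] at this⟩
      left_inv := fun η => Subtype.ext (cjI_inv_cancel (hAU a.2) η.1)
      right_inv := fun η => Subtype.ext (cjI_cancel_inv (hAU a.2) η.1) }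
  let ρ : A →* MulAut Lam × Equiv.Perm Ω :=
    { toFun := fun a => (cL a, cΩ a)
      map_one' := Prod.ext (MulEquiv.ext fun f => Subtype.ext (MonoidHom.ext fun x =>
          congrArg f.1 (Subtype.ext (by simp [conjEquiv]))))
        (Equiv.ext fun η => Subtype.ext (cjI_one η.1))
      map_mul' := fun a b => Prod.ext (MulEquiv.ext fun f => Subtype.ext (MonoidHom.ext fun x =>
          congrArg f.1 (Subtype.ext (by simp [conjEquiv, mul_assoc]))))
        (Equiv.ext fun η => Subtype.ext (cjI_mul (hAU a.2) (hAU b.2) η.1)) }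
  have hker : L.subgroupOf A ≤ ρ.ker := by
    intro a ha
    have haL : (a : G) ∈ L := Subgroup.mem_subgroupOf.1 ha
    refine MonoidHom.mem_ker.2 (Prod.ext (MulEquiv.ext fun f => Subtype.ext (MonoidHom.ext fun x => ?_))
      (Equiv.ext fun η => Subtype.ext (cjI_of_mem (hLU haL) η.1)))
    have e : conjEquiv (hAU a.2) x = ⟨a, hLU haL⟩⁻¹ * x * ⟨a, hLU haL⟩ := Subtype.ext rfl
    show f.1 (conjEquiv (hAU a.2) x) = f.1 x
    rw [e, map_mul, map_mul, map_inv, mul_comm, mul_inv_cancel_left]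
  have hA' : ¬ p ∣ Nat.card ρ.range := fun hd => hcop (by
    rw [← Subgroup.index_ker] at hd
    exact hd.trans (Subgroup.index_dvd_of_le hker))
  have hpg : IsPGroup p Lam := by
    obtain ⟨k, hk⟩ := relIndex_eq_pow hn hPU
    intro f
    refine ⟨k, Subtype.ext (MonoidHom.ext fun x => ?_)⟩
    rw [Subgroup.coe_pow, Subgroup.coe_one, MonoidHom.one_apply,
      show (f.1 ^ p ^ k) x = f.1 (x ^ p ^ k) by rw [map_pow]; rfl]
    exact f.2 _ (by rw [← hk]; exact (V.subgroupOf U).pow_index_mem x)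
  have hcop' : (Nat.card Lam).Coprime (Nat.card ρ.range) := by
    obtain ⟨n, hn'⟩ := IsPGroup.iff_card.1 hpg
    rw [hn']
    exact ((hp.out.coprime_iff_not_dvd).2 hA').pow_left n
  obtain ⟨η, hη⟩ := exists_fixed_of_abelian_transitive
    ((MonoidHom.fst (MulAut Lam) (Equiv.Perm Ω)).comp ρ.range.subtype)
    (fun a η => a.1.2 η) (fun a b η => rfl)
    (by
      rintro ⟨_, a, rfl⟩ f η
      refine Subtype.ext ?_
      exact cjI_linMul (hAU a.2) f.1 η.1)
    (fun η η' => by
      obtain ⟨f, hf, e⟩ := exists_linMul_of_ext hVU η.2 η'.2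
      exact ⟨⟨f, hf⟩, Subtype.ext e⟩)
    hcop' ⟨η₀, hη₀⟩
  exact ⟨η.1, η.2, fun a ha => congrArg Subtype.val (hη ⟨_, ⟨a, ha⟩, rfl⟩)⟩

/-- The extensions of linked characters correspond with the same stabilizers. -/
theorem exists_ext_equiv {K M C M' H : Subgroup G} (hKM : K ≤ M) (hM'M : M' ≤ M)
    (hC : K ⊓ M' = C) (hsup : M ≤ K ⊔ M') (hMK : M ≤ Subgroup.normalizer (K : Set G))
    (hHK : H ≤ Subgroup.normalizer (K : Set G)) (hHM : H ≤ Subgroup.normalizer (M : Set G))
    (hHC : H ≤ Subgroup.normalizer (C : Set G)) (hHM' : H ≤ Subgroup.normalizer (M' : Set G))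
    {θ : IrrCharacter K} {φ : IrrCharacter C} {η₀ : IrrCharacter M} {ψ₀ : IrrCharacter M'}
    (hη₀ : Ext η₀ θ) (hη₀H : Fixed H η₀) (hψ₀ : Ext ψ₀ φ) (hψ₀H : Fixed H ψ₀) :
    ∃ e : {η : IrrCharacter M // Ext η θ} ≃ {ψ : IrrCharacter M' // Ext ψ φ},
      ∀ η, ∀ n ∈ H, cjI n (e η).1 = (e η).1 ↔ cjI n η.1 = η.1 := by
  classical
  have hCK : C ≤ K := hC ▸ inf_le_left
  have hCM' : C ≤ M' := hC ▸ inf_le_right
  haveI := normal_subgroupOf (U := M) (V := K) hMK
  haveI : (C.subgroupOf M').Normal := by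
    refine normal_subgroupOf fun y hy => ?_
    rw [← hC, Subgroup.mem_normalizer_iff]
    intro x
    simp only [Subgroup.mem_inf]
    exact and_congr ((Subgroup.mem_normalizer_iff.1 (hMK (hM'M hy))) x)
      ((Subgroup.mem_normalizer_iff.1 (Subgroup.le_normalizer hy)) x)
  set Lam := linearOver (K.subgroupOf M)
  set Lam' := linearOver (C.subgroupOf M')
  have hM'K : M' ≤ Subgroup.normalizer (K : Set G) := hM'M.trans hMK
  -- restriction of linear characters
  let r : Lam → Lam' := fun f => ⟨f.1.comp (Subgroup.inclusion hM'M), fun y hy =>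
    f.2 _ (Subgroup.mem_subgroupOf.2 (hCK (Subgroup.mem_subgroupOf.1 hy)))⟩
  have hdec : ∀ x : M, ∃ k ∈ K, ∃ y ∈ M', k * y = (x : G) := fun x =>
    CfsgLib.Coprime.mem_sup_exists hM'K (hsup x.2)
  have hr : Function.Bijective r := by
    refine ⟨fun f f' e => Subtype.ext (MonoidHom.ext fun x => ?_), fun f' => ?_⟩
    · obtain ⟨k, hk, y, hy, hky⟩ := hdec x
      have hx : x = ⟨k, hKM hk⟩ * Subgroup.inclusion hM'M ⟨y, hy⟩ := Subtype.ext hky.symm
      have e1 : f.1 (Subgroup.inclusion hM'M ⟨y, hy⟩) = f'.1 (Subgroup.inclusion hM'M ⟨y, hy⟩) :=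
        DFunLike.congr_fun (congrArg Subtype.val e) ⟨y, hy⟩
      rw [hx, map_mul, map_mul, f.2 _ (Subgroup.mem_subgroupOf.2 hk),
        f'.2 _ (Subgroup.mem_subgroupOf.2 hk), e1]
    · choose kk hkk yy hyy hkyy using hdec
      have hwd : ∀ (x : M) (k y : G) (_ : k ∈ K) (hy : y ∈ M'), k * y = x →
          f'.1 ⟨yy x, hyy x⟩ = f'.1 ⟨y, hy⟩ := by
        intro x k y hk hy e
        have h1 : yy x * y⁻¹ ∈ C := by
          rw [← hC]
          refine Subgroup.mem_inf.2 ⟨?_, mul_mem (hyy x) (inv_mem hy)⟩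
          have e2 : yy x * y⁻¹ = (kk x)⁻¹ * k := by
            rw [mul_inv_eq_iff_eq_mul, mul_assoc, e, ← hkyy x, inv_mul_cancel_left]
          rw [e2]
          exact mul_mem (inv_mem (hkk x)) hk
        have h2 : (⟨yy x, hyy x⟩ : M') = ⟨yy x * y⁻¹, hCM' h1⟩ * ⟨y, hy⟩ :=
          Subtype.ext (by simp)
        rw [h2, map_mul, f'.2 _ (Subgroup.mem_subgroupOf.2 h1), one_mul]
      let F : M →* ℂˣ :=
        { toFun := fun x => f'.1 ⟨yy x, hyy x⟩
          map_one' := (hwd 1 1 1 (one_mem K) (one_mem M') (mul_one 1)).trans (map_one f'.1)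
          map_mul' := fun a b => by
            rw [← map_mul]
            refine hwd (a * b) (kk a * (yy a * kk b * (yy a)⁻¹)) (yy a * yy b)
              (mul_mem (hkk a) (conj_mem (hM'K (hyy a)) (hkk b))) (mul_mem (hyy a) (hyy b)) ?_
            rw [Subgroup.coe_mul, ← hkyy a, ← hkyy b]
            group }
      refine ⟨⟨F, fun x hx => (hwd x x 1 (Subgroup.mem_subgroupOf.1 hx) (one_mem M')
        (mul_one _)).trans (map_one f'.1)⟩, Subtype.ext (MonoidHom.ext fun y => ?_)⟩
      exact hwd (Subgroup.inclusion hM'M y) 1 y (one_mem K) y.2 (one_mul _)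
  -- extensions as twists
  let a : Lam → {η : IrrCharacter M // Ext η θ} := fun f => ⟨Char.linMul f.1 η₀, hη₀.linMul hKM f.2⟩
  let b : Lam' → {ψ : IrrCharacter M' // Ext ψ φ} := fun f =>
    ⟨Char.linMul f.1 ψ₀, hψ₀.linMul hCM' f.2⟩
  have ha : Function.Bijective a :=
    ⟨fun f f' e => Subtype.ext (linMul_injective hKM hη₀ f.2 f'.2 (congrArg Subtype.val e)),
      fun η => by
        obtain ⟨f, hf, e⟩ := exists_linMul_of_ext hKM hη₀ η.2
        exact ⟨⟨f, hf⟩, Subtype.ext e⟩⟩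
  have hb : Function.Bijective b :=
    ⟨fun f f' e => Subtype.ext (linMul_injective hCM' hψ₀ f.2 f'.2 (congrArg Subtype.val e)),
      fun η => by
        obtain ⟨f, hf, e⟩ := exists_linMul_of_ext hCM' hψ₀ η.2
        exact ⟨⟨f, hf⟩, Subtype.ext e⟩⟩
  refine ⟨(Equiv.ofBijective a ha).symm.trans ((Equiv.ofBijective r hr).trans
    (Equiv.ofBijective b hb)), fun η n hn => ?_⟩
  obtain ⟨f, rfl⟩ := ha.2 η
  rw [show ((Equiv.ofBijective a ha).symm.trans ((Equiv.ofBijective r hr).trans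
      (Equiv.ofBijective b hb))) (a f) = b (r f) by simp]
  show cjI n (Char.linMul (r f).1 ψ₀) = Char.linMul (r f).1 ψ₀ ↔
    cjI n (Char.linMul f.1 η₀) = Char.linMul f.1 η₀
  rw [cjI_linMul (hHM' hn), hψ₀H n hn, cjI_linMul (hHM hn), hη₀H n hn]
  have hmem := comp_conj_mem (hHM hn) (hHK hn) f.2
  have hmem' := comp_conj_mem (hHM' hn) (hHC hn) (r f).2
  have e : r ⟨_, hmem⟩ = ⟨_, hmem'⟩ :=
    Subtype.ext (MonoidHom.ext fun y => congrArg f.1 (Subtype.ext rfl))
  constructor
  · intro h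
    have h1 := linMul_injective hCM' hψ₀ hmem' (r f).2 h
    have h2 : r ⟨_, hmem⟩ = r f := e.trans (Subtype.ext h1)
    exact congrArg (fun f : Lam => Char.linMul f.1 η₀) (hr.1 h2)
  · intro h
    have h1 : (⟨_, hmem⟩ : Lam) = f := Subtype.ext (linMul_injective hKM hη₀ hmem f.2 h)
    exact congrArg (fun f : Lam' => Char.linMul f.1 ψ₀) (e.symm.trans (congrArg r h1))

end CfsgLib.Char.RelMcKay
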