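import Cfsg.Agent.Lib.Char.RelMcKay.Clifford
import Cfsg.Agent.Lib.Char.RelMcKay.Transfer
import Mathlib.GroupTheory.SchurZassenhaus

/-!
# The count over a `p'`-section normalized by the whole group

When `K / L` has order prime to `p` and `Γ = K N`, the counts over an invariant character of `L` in
`Γ` and in the normalizer `N` agree.
-/

set_option autoImplicit false
set_option linter.unusedSectionVars false
set_option linter.style.haveILetI false

namespace CfsgLib.Char.RelMcKay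

open Cfsg CfsgLib CfsgLib.Char

universe u

variable {G : Type u} [Group G] [Finite G]

noncomputable local instance instFinSub11 (A : Subgroup G) : Fintype A := Fintype.ofFinite _

noncomputable local instance instFinIrr11 (A : Subgroup G) : Fintype (IrrCharacter A) :=
  Fintype.ofFinite _

theorem pmod_sup {p : ℕ} {L P V : Subgroup G} (hLV : L ≤ V)
    (hPV : P ≤ Subgroup.normalizer (V : Set G)) (hPQ : PMod p L P) : PMod p V (V ⊔ P) := by
  intro x hx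
  obtain ⟨v, hv, q, hq, rfl⟩ := CfsgLib.Coprime.mem_sup_exists hPV hx
  obtain ⟨k, hk⟩ := hPQ q hq
  refine ⟨k, ?_⟩
  have key : ∀ n : ℕ, ∃ w ∈ V, (v * q) ^ n = w * q ^ n := by
    intro n
    induction n with
    | zero => exact ⟨1, one_mem V, by simp⟩
    | succ n ih =>
      obtain ⟨w, hw, e⟩ := ih
      refine ⟨w * (q ^ n * v * (q ^ n)⁻¹),
        mul_mem hw (conj_mem (pow_mem (hPV hq) n) hv), ?_⟩
      rw [pow_succ, e, pow_succ]
      group
  obtain ⟨w, hw, e⟩ := key (p ^ k)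
  rw [e]
  exact mul_mem hw (hLV hk)

theorem comm_mem_of_mem_sup {C : Subgroup G} {a b : G}
    (ha : a ∈ Subgroup.normalizer (C : Set G)) (hb : b ∈ Subgroup.normalizer (C : Set G))
    (hab : a * b * a⁻¹ * b⁻¹ ∈ C) :
    ∀ x ∈ C ⊔ Subgroup.zpowers a ⊔ Subgroup.zpowers b,
      ∀ y ∈ C ⊔ Subgroup.zpowers a ⊔ Subgroup.zpowers b, x * y * x⁻¹ * y⁻¹ ∈ C := by
  set T := Subgroup.normalizer (C : Set G)
  haveI := normal_subgroupOf (U := T) (V := C) le_rfl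
  set φ := QuotientGroup.mk' (C.subgroupOf T)
  set a' : T := ⟨a, ha⟩
  set b' : T := ⟨b, hb⟩
  set W := C.subgroupOf T ⊔ Subgroup.zpowers a' ⊔ Subgroup.zpowers b'
  have hC1 : ∀ c ∈ C.subgroupOf T, φ c = 1 := fun c hc => (QuotientGroup.eq_one_iff c).2 hc
  have hcomm : Commute (φ a') (φ b') := by
    show φ a' * φ b' = φ b' * φ a'
    rw [← mul_inv_eq_iff_eq_mul, ← mul_inv_eq_one, ← map_mul, ← map_inv, ← map_mul, ← map_inv,
      ← map_mul]
    exact hC1 _ (Subgroup.mem_subgroupOf.2 (by simpa [a', b'] using hab))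
  have h1 : W ≤ (Subgroup.centralizer ({φ a', φ b'} : Set (T ⧸ C.subgroupOf T))).comap φ := by
    refine sup_le (sup_le (fun c hc => ?_) (Subgroup.zpowers_le.2 ?_)) (Subgroup.zpowers_le.2 ?_)
    · rw [Subgroup.mem_comap, hC1 c hc]
      exact one_mem _
    · rw [Subgroup.mem_comap, Subgroup.mem_centralizer_iff]
      rintro _ (rfl | rfl)
      · rfl
      · exact hcomm.symm
    · rw [Subgroup.mem_comap, Subgroup.mem_centralizer_iff]
      rintro _ (rfl | rfl)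
      · exact hcomm
      · rfl
  have h2 : W ≤ (Subgroup.centralizer (φ '' (W : Set T))).comap φ := by
    refine sup_le (sup_le (fun c hc => ?_) (Subgroup.zpowers_le.2 ?_)) (Subgroup.zpowers_le.2 ?_)
    · rw [Subgroup.mem_comap, hC1 c hc]
      exact one_mem _
    · rw [Subgroup.mem_comap, Subgroup.mem_centralizer_iff]
      rintro _ ⟨w, hw, rfl⟩
      exact ((Subgroup.mem_centralizer_iff.1 (h1 hw)) _ (Or.inl rfl)).symm
    · rw [Subgroup.mem_comap, Subgroup.mem_centralizer_iff]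
      rintro _ ⟨w, hw, rfl⟩
      exact ((Subgroup.mem_centralizer_iff.1 (h1 hw)) _ (Or.inr rfl)).symm
  have hle : C ⊔ Subgroup.zpowers a ⊔ Subgroup.zpowers b ≤ W.map T.subtype := by
    refine sup_le (sup_le (fun c hc => ⟨⟨c, Subgroup.le_normalizer hc⟩,
      Subgroup.mem_sup_left (Subgroup.mem_sup_left (Subgroup.mem_subgroupOf.2 hc)), rfl⟩)
      (Subgroup.zpowers_le.2 ⟨a', Subgroup.mem_sup_left (Subgroup.mem_sup_right
        (Subgroup.mem_zpowers _)), rfl⟩))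
      (Subgroup.zpowers_le.2 ⟨b', Subgroup.mem_sup_right (Subgroup.mem_zpowers _), rfl⟩)
  intro x hx y hy
  obtain ⟨x', hx', rfl⟩ := hle hx
  obtain ⟨y', hy', rfl⟩ := hle hy
  have h3 : φ x' * φ y' = φ y' * φ x' :=
    ((Subgroup.mem_centralizer_iff.1 (h2 hx')) _ ⟨y', hy', rfl⟩).symm
  have h4 : φ (x' * y' * x'⁻¹ * y'⁻¹) = 1 := by
    simp only [map_mul, map_inv]
    rw [h3, mul_inv_cancel_right, mul_inv_cancel]
  exact Subgroup.mem_subgroupOf.1 ((QuotientGroup.eq_one_iff _).1 h4)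

/-- A complement of the Sylow `p`-subgroup of `N / L`, enlarged by a normal `p'`-subgroup. -/
theorem exists_complement {p : ℕ} [hp : Fact p.Prime] {L P N C : Subgroup G} [L.Normal]
    (hLP : L ≤ P) (hPN : P ≤ N) (hNP : N ≤ Subgroup.normalizer (P : Set G)) (hPQ : PMod p L P)
    (hidx : ¬ p ∣ P.relIndex N) (hLC : L ≤ C) (hCN : C ≤ N)
    (hNC : N ≤ Subgroup.normalizer (C : Set G)) (hcC : ¬ p ∣ L.relIndex C) :
    ∃ H₀ : Subgroup G, C ≤ H₀ ∧ H₀ ≤ N ∧ N ≤ P ⊔ H₀ ∧ ¬ p ∣ L.relIndex H₀ := by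
  set π := QuotientGroup.mk' (L.subgroupOf N)
  set P' := (P.subgroupOf N).map π
  haveI : (P.subgroupOf N).Normal := normal_subgroupOf hNP
  haveI : P'.Normal := Subgroup.Normal.map inferInstance π (QuotientGroup.mk'_surjective _)
  have hpg : IsPGroup p P' := by
    rintro ⟨_, y, hy, rfl⟩
    obtain ⟨k, hk⟩ := hPQ y (Subgroup.mem_subgroupOf.1 hy)
    exact ⟨k, Subtype.ext (by
      rw [Subgroup.coe_pow, ← map_pow]
      exact (QuotientGroup.eq_one_iff _).2 (Subgroup.mem_subgroupOf.2 hk))⟩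
  have hindex : ¬ p ∣ P'.index := fun hd => hidx (by
    have h := Subgroup.index_map_dvd (P.subgroupOf N) (QuotientGroup.mk'_surjective (L.subgroupOf N))
    exact hd.trans h)
  obtain ⟨n, hn⟩ := IsPGroup.iff_card.1 hpg
  obtain ⟨H', hH'⟩ := Subgroup.exists_right_complement'_of_coprime (N := P')
    (by rw [hn]; exact ((hp.out.coprime_iff_not_dvd).2 hindex).pow_left n)
  have hcardH : ¬ p ∣ Nat.card H' := by
    rwa [← hH'.symm.index_eq_card]
  set H₁ := (H'.comap π).map N.subtype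
  have hH₁N : H₁ ≤ N := Subgroup.map_subtype_le _
  have hLN : L ≤ N := hLC.trans hCN
  have hLH₁ : L ≤ H₁ := fun l hl => ⟨⟨l, hLN hl⟩, by
    show π ⟨l, hLN hl⟩ ∈ H'
    rw [show π ⟨l, hLN hl⟩ = 1 from (QuotientGroup.eq_one_iff _).2 (Subgroup.mem_subgroupOf.2 hl)]
    exact one_mem _, rfl⟩
  have hc1 : ¬ p ∣ L.relIndex H₁ := by
    have h1 : L.relIndex H₁ = (L.subgroupOf N).relIndex (H'.comap π) := by
      conv_rhs => rw [← Subgroup.comap_map_eq_self_of_injective N.subtype_injective (H'.comap π)]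
      exact (Subgroup.relIndex_subgroupOf hH₁N).symm
    have h2 := Subgroup.relIndex_ker (H'.comap π) π
    rw [QuotientGroup.ker_mk', Subgroup.map_comap_eq_self_of_surjective
      (QuotientGroup.mk'_surjective _)] at h2
    rw [h1, h2]
    exact hcardH
  refine ⟨C ⊔ H₁, le_sup_left, sup_le hCN hH₁N, fun x hx => ?_, fun hd => ?_⟩
  · have hmem : π ⟨x, hx⟩ ∈ P' ⊔ H' := by
      rw [hH'.sup_eq_top]; exact Subgroup.mem_top _
    obtain ⟨_, ⟨q, hq, rfl⟩, b, hb, e⟩ := Subgroup.mem_sup_of_normal_left.1 hmem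
    have h1 : (q : G)⁻¹ * x ∈ H₁ := ⟨q⁻¹ * ⟨x, hx⟩, by
      show π (q⁻¹ * ⟨x, hx⟩) ∈ H'
      rw [map_mul, map_inv, ← e, inv_mul_cancel_left]
      exact hb, rfl⟩
    have h2 : (q : G) * ((q : G)⁻¹ * x) ∈ P ⊔ (C ⊔ H₁) :=
      mul_mem (Subgroup.mem_sup_left (Subgroup.mem_subgroupOf.1 hq))
        (Subgroup.mem_sup_right (Subgroup.mem_sup_right h1))
    rwa [mul_inv_cancel_left] at h2
  · rw [← Subgroup.relIndex_mul_relIndex L C (C ⊔ H₁) hLC le_sup_left,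
      relIndex_sup_of_le_normalizer (hH₁N.trans hNC), hp.out.dvd_mul] at hd
    exact hd.elim hcC fun h => hc1 (h.trans (Subgroup.relIndex_dvd_of_le_left H₁ hLC))

/-- The data of a `p'`-section normalized by the whole group. -/
structure BaseData (p : ℕ) (L P Γ K : Subgroup G) : Prop where
  hLK : L ≤ K
  hLP : L ≤ P
  hKΓ : K ≤ Γ
  hPΓ : P ≤ Γ
  hPQ : PMod p L P
  hΓK : Γ ≤ Subgroup.normalizer (K : Set G)
  hidx : ¬ p ∣ P.relIndex Γ
  hcop : ¬ p ∣ L.relIndex K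
  hgen : Γ ≤ K ⊔ (Γ ⊓ Subgroup.normalizer (P : Set G))

namespace BaseData

variable {p : ℕ} [hp : Fact p.Prime] {L P Γ K : Subgroup G} [L.Normal] (h : BaseData p L P Γ K)
include h

local notation "NN" => (Γ ⊓ Subgroup.normalizer (P : Set G) : Subgroup G)
local notation "CC" => (fixMod L K P : Subgroup G)
local notation "MM" => (K ⊔ P : Subgroup G)
local notation "MM'" => (fixMod L K P ⊔ P : Subgroup G)

theorem N_le_Γ : NN ≤ Γ := inf_le_left

theorem N_le_normP : NN ≤ Subgroup.normalizer (P : Set G) := inf_le_right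

theorem P_le_N : P ≤ NN := le_inf h.hPΓ Subgroup.le_normalizer

theorem N_le_normK : NN ≤ Subgroup.normalizer (K : Set G) := inf_le_left.trans h.hΓK

theorem P_le_normK : P ≤ Subgroup.normalizer (K : Set G) := h.hPΓ.trans h.hΓK

theorem N_le_normC : NN ≤ Subgroup.normalizer (CC : Set G) :=
  le_normalizer_fixMod h.N_le_normK h.N_le_normP

theorem L_le_C : L ≤ CC := le_fixMod h.hLK

theorem C_le_K : CC ≤ K := fixMod_le _ _ _

theorem inf_K_N : K ⊓ NN = CC := by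
  refine le_antisymm (fun c hc => ?_) (le_inf h.C_le_K (fun c hc => Subgroup.mem_inf.2
    ⟨h.hKΓ (fixMod_le _ _ _ hc), ?_⟩))
  · obtain ⟨hcK, hcN⟩ := Subgroup.mem_inf.1 hc
    refine mem_fixMod.2 ⟨hcK, fun q hq => commute_mk_iff.2 ?_⟩
    refine inf_le_of_coprime h.hcop h.hPQ (Subgroup.mem_inf.2 ⟨?_, ?_⟩)
    · exact mul_mem (conj_mem (h.P_le_normK hq) hcK) (inv_mem hcK)
    · rw [show q * c * q⁻¹ * c⁻¹ = q * (c * q⁻¹ * c⁻¹) by group]
      exact mul_mem hq (conj_mem (h.N_le_normP hcN) (inv_mem hq))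
  · have key : ∀ c ∈ CC, ∀ q ∈ P, c * q * c⁻¹ ∈ P := fun c hc q hq => by
      have h1 := h.hLP (inv_mem (commute_mk_iff.1 ((mem_fixMod.1 hc).2 q hq)))
      rw [show c * q * c⁻¹ = (q * c * q⁻¹ * c⁻¹)⁻¹ * q by group]
      exact mul_mem h1 hq
    rw [Subgroup.mem_normalizer_iff]
    refine fun q => ⟨key c hc q, fun hq => ?_⟩
    have := key c⁻¹ (inv_mem hc) _ hq
    simpa [mul_assoc] using this

theorem C_le_N : CC ≤ NN := h.inf_K_N ▸ inf_le_right

theorem M'_le_N : MM' ≤ NN := sup_le h.C_le_N h.P_le_N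

theorem M_le_Γ : MM ≤ Γ := sup_le h.hKΓ h.hPΓ

theorem M'_le_M : MM' ≤ MM := sup_le_sup_right h.C_le_K _

theorem inf_M_N : MM ⊓ NN = MM' := by
  refine le_antisymm (fun x hx => ?_) (le_inf h.M'_le_M h.M'_le_N)
  obtain ⟨hxM, hxN⟩ := Subgroup.mem_inf.1 hx
  obtain ⟨k, hk, q, hq, rfl⟩ := CfsgLib.Coprime.mem_sup_exists h.P_le_normK hxM
  refine mul_mem (Subgroup.mem_sup_left ?_) (Subgroup.mem_sup_right hq)
  rw [← h.inf_K_N]
  refine Subgroup.mem_inf.2 ⟨hk, ?_⟩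
  have := mul_mem hxN (inv_mem (h.P_le_N hq))
  rwa [mul_inv_cancel_right] at this

theorem inf_K_M' : K ⊓ MM' = CC :=
  le_antisymm ((inf_le_inf_left K h.M'_le_N).trans h.inf_K_N.le) (le_inf h.C_le_K le_sup_left)

theorem Γ_le_normM : Γ ≤ Subgroup.normalizer (MM : Set G) :=
  h.hgen.trans (sup_le (le_sup_left.trans Subgroup.le_normalizer)
    (CfsgLib.Coprime.sup_le_normalizer h.N_le_normK h.N_le_normP))

theorem N_le_normM' : NN ≤ Subgroup.normalizer (MM' : Set G) :=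
  CfsgLib.Coprime.sup_le_normalizer h.N_le_normC h.N_le_normP

theorem exists_mul {g : G} (hg : g ∈ Γ) : ∃ n ∈ NN, ∃ k ∈ K, g = n * k := by
  obtain ⟨k, hk, n, hn, rfl⟩ := CfsgLib.Coprime.mem_sup_exists h.N_le_normK (h.hgen hg)
  exact ⟨n, hn, n⁻¹ * k * n, inv_conj_mem (h.N_le_normK hn) hk, by group⟩

theorem idx_N : ¬ p ∣ P.relIndex NN := fun hd =>
  h.hidx (hd.trans (Dvd.intro _ (Subgroup.relIndex_mul_relIndex P NN Γ h.P_le_N h.N_le_Γ)))

theorem idx_M : ¬ p ∣ (MM).relIndex Γ := fun hd =>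
  h.hidx (hd.trans (Subgroup.relIndex_dvd_of_le_left Γ le_sup_right))

theorem idx_M' : ¬ p ∣ (MM').relIndex NN := fun hd =>
  h.idx_N (hd.trans (Subgroup.relIndex_dvd_of_le_left NN le_sup_right))

theorem cop_C : ¬ p ∣ L.relIndex CC := fun hd =>
  h.hcop (hd.trans (Dvd.intro _ (Subgroup.relIndex_mul_relIndex L CC K h.L_le_C h.C_le_K)))

theorem corr : IsCorr p K CC P := glauberman h.hLK h.hcop P h.P_le_normK h.hLP h.hPQ

theorem fixed_M {θ : IrrCharacter K} (hθ : Fixed P θ) : Fixed MM θ :=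
  fixed_sup Subgroup.le_normalizer h.P_le_normK (fixed_self θ) hθ

theorem fixed_M' {φ : IrrCharacter CC} (hφ : Fixed P φ) : Fixed MM' φ :=
  fixed_sup Subgroup.le_normalizer (h.P_le_N.trans h.N_le_normC) (fixed_self φ) hφ

theorem fix_iff {θ : IrrCharacter K} {φ : IrrCharacter CC} (hθ : Fixed P θ) (hφ : Fixed P φ)
    (hm : ¬ p ∣ mult θ φ) {n : G} (hn : n ∈ NN) : cjI n φ = φ ↔ cjI n θ = θ := by
  have hPC := h.P_le_N.trans h.N_le_normC
  constructor
  · intro e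
    refine h.corr.inj _ _ (fixed_cjI (h.N_le_normK hn) (h.N_le_normP hn) h.P_le_normK hθ) hθ φ hφ
      ?_ hm
    conv => arg 1; arg 2; arg 2; rw [← e]
    rwa [mult_cjI h.C_le_K (h.N_le_normK hn) (h.N_le_normC hn)]
  · intro e
    refine h.corr.eq_of hθ hφ (fixed_cjI (h.N_le_normC hn) (h.N_le_normP hn) hPC hφ) hm ?_
    conv => arg 1; arg 2; arg 1; rw [← e]
    rwa [mult_cjI h.C_le_K (h.N_le_normK hn) (h.N_le_normC hn)]

theorem deg_iff {θ : IrrCharacter K} {φ : IrrCharacter CC} (hθ : Fixed P θ) (hφ : Fixed P φ)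
    (hm : ¬ p ∣ mult θ φ) : p ∣ deg θ ↔ p ∣ deg φ := by
  classical
  have hPC := h.P_le_N.trans h.N_le_normC
  have hinv : ∀ x ∈ P, ∀ φ' : IrrCharacter CC,
      mult θ (cjI x φ') * deg (cjI x φ') = mult θ φ' * deg φ' := by
    intro x hx φ'
    rw [deg_cjI]
    congr 1
    conv_lhs => rw [← hθ x hx]
    exact mult_cjI h.C_le_K (h.P_le_normK hx) (hPC hx) θ φ'
  have h1 := sum_modEq hPC h.hPQ h.L_le_C (fun φ' => mult θ φ' * deg φ') hinv
  rw [← deg_eq_sum h.C_le_K θ] at h1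
  have h2 : Nat.ModEq p (deg θ) (mult θ φ * deg φ) := by
    refine h1.trans ?_
    rw [← Finset.add_sum_erase _ _ (Finset.mem_filter.2 ⟨Finset.mem_univ φ, hφ⟩)]
    conv_rhs => rw [← add_zero (mult θ φ * deg φ)]
    refine Nat.ModEq.add_left _ (Nat.modEq_zero_iff_dvd.2 (Finset.dvd_sum fun φ' h' => ?_))
    obtain ⟨hne, h''⟩ := Finset.mem_erase.1 h'
    exact Dvd.dvd.mul_right (by_contra fun hnd =>
      hne (h.corr.eq_of hθ hφ (Finset.mem_filter.1 h'').2 hm hnd)) _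
  rw [h2.dvd_iff dvd_rfl]
  exact ⟨fun hd => (hp.out.dvd_mul.1 hd).resolve_left hm, fun hd => hd.mul_left _⟩

theorem inX_iff (ν : IrrCharacter L) (hν : Fixed P ν) {θ : IrrCharacter K} {φ : IrrCharacter CC}
    (hθ : Fixed P θ) (hφ : Fixed P φ) (hm : ¬ p ∣ mult θ φ) :
    InX p P NN ν θ ↔ InX p P NN ν φ := by
  have hd := h.deg_iff hθ hφ hm
  have hΓL : Γ ≤ Subgroup.normalizer (L : Set G) := Subgroup.normalizer_eq_top L ▸ le_top
  have hm0 : mult θ φ ≠ 0 := fun e => hm (e ▸ dvd_zero p)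
  constructor
  · rintro ⟨-, hdθ, n, hn, hmn⟩
    have hdφ : ¬ p ∣ deg φ := fun e => hdθ (hd.2 e)
    obtain ⟨ν₁, hν₁, hm₁, -⟩ := exists_fixed_below h.L_le_C (h.P_le_N.trans h.N_le_normC)
      (h.hPΓ.trans hΓL) h.hPQ le_rfl hφ hdφ
    have hm₁' : mult φ ν₁ ≠ 0 := fun e => hm₁ (e ▸ dvd_zero p)
    obtain ⟨k, hk, e⟩ := exists_conj h.hLK (h.hKΓ.trans hΓL) hmn
      (mult_ne_zero_trans h.L_le_C h.C_le_K hm0 hm₁')
    obtain ⟨n', hn', e'⟩ := fusion h.hLP h.hPΓ h.hPQ h.hidx hΓL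
      (fixed_cjI (hΓL (h.N_le_Γ hn)) (h.N_le_normP hn) (h.hPΓ.trans hΓL) hν) hν₁ (h.hKΓ hk) e
    refine ⟨hφ, hdφ, n' * n, mul_mem hn' hn, ?_⟩
    rw [cjI_mul (hΓL (h.N_le_Γ hn')) (hΓL (h.N_le_Γ hn)), e']
    exact hm₁'
  · rintro ⟨-, hdφ, n, hn, hmn⟩
    exact ⟨hθ, fun e => hdφ (hd.1 e), n, hn,
      mult_ne_zero_trans h.L_le_C h.C_le_K hm0 hmn⟩

/-- The counts over corresponding extensions agree. -/
theorem count_ext {θ : IrrCharacter K} {φ : IrrCharacter CC} (hθ : Fixed P θ) (hφ : Fixed P φ)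
    (hm : ¬ p ∣ mult θ φ) (hdθ : ¬ p ∣ deg θ) {H₀ : Subgroup G} (hCH₀ : CC ≤ H₀) (hH₀N : H₀ ≤ NN)
    (hNH₀ : NN ≤ P ⊔ H₀) (hcH₀ : ¬ p ∣ L.relIndex H₀)
    {η : IrrCharacter MM} {ψ : IrrCharacter MM'} (hη : Ext η θ) (hψ : Ext ψ φ)
    (hfix : ∀ n ∈ NN, cjI n θ = θ → (cjI n ψ = ψ ↔ cjI n η = η)) :
    cnt p Γ η = cnt p NN ψ := by
  classical
  have hCM' : CC ≤ MM' := le_sup_left
  have hNM : NN ≤ Subgroup.normalizer (MM : Set G) := h.N_le_Γ.trans h.Γ_le_normM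
  let S : Subgroup G :=
    { carrier := {n | n ∈ NN ∧ cjI n η = η}
      one_mem' := ⟨one_mem _, cjI_one η⟩
      mul_mem' := fun {a b} ha hb => ⟨mul_mem ha.1 hb.1, by
        rw [cjI_mul (hNM ha.1) (hNM hb.1), hb.2, ha.2]⟩
      inv_mem' := fun {a} ha => ⟨inv_mem ha.1, by
        conv_lhs => rw [← ha.2]
        exact cjI_inv_cancel (hNM ha.1) η⟩ }
  have hSN : S ≤ NN := fun n hn => hn.1
  have hSθ : Fixed S θ := fun n hn =>
    hη.cjI_eq le_sup_left (hNM hn.1) (h.N_le_normK hn.1) hn.2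
  have hS' : ∀ n, n ∈ S ↔ n ∈ NN ∧ cjI n ψ = ψ := by
    refine fun n => ⟨fun hn => ⟨hn.1, (hfix n hn.1 (hSθ n hn)).2 hn.2⟩, fun hn => ⟨hn.1, ?_⟩⟩
    exact (hfix n hn.1 ((h.fix_iff hθ hφ hm hn.1).1
      (hψ.cjI_eq hCM' (h.N_le_normM' hn.1) (h.N_le_normC hn.1) hn.2))).1 hn.2
  have hM'S : MM' ≤ S := fun x hx => ⟨h.M'_le_N hx, cjI_of_mem (h.M'_le_M hx) η⟩
  have hMS : MM ⊓ S = MM' :=
    le_antisymm ((inf_le_inf_left _ hSN).trans h.inf_M_N.le) (le_inf h.M'_le_M hM'S)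
  have h1 := card_over_pairs (S := S) h.M_le_Γ h.N_le_Γ h.Γ_le_normM
    (fun g hg => by
      obtain ⟨n, hn, k, hk, e⟩ := h.exists_mul hg
      exact ⟨n, hn, k, Subgroup.mem_sup_left hk, e⟩) (η := η) (fun n => Iff.rfl)
  have h2 := card_over_pairs (S := S) h.M'_le_N (le_refl NN) h.N_le_normM'
    (fun g hg => ⟨g, hg, 1, one_mem _, (mul_one g).symm⟩) (η := ψ) hS'
  rw [hMS] at h1
  rw [inf_eq_left.2 hM'S] at h2
  have hcnt₁ : cnt p Γ η = Nat.card {χ : IrrCharacter Γ // mult χ η ≠ 0} :=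
    Nat.card_congr (Equiv.subtypeEquivRight fun χ => and_iff_right_of_imp fun hχ =>
      not_dvd_deg_above hp.out h.M_le_Γ h.Γ_le_normM h.idx_M hχ (by rwa [hη.deg_eq le_sup_left]))
  have hdφ : ¬ p ∣ deg φ := fun e => hdθ ((h.deg_iff hθ hφ hm).2 e)
  have hcnt₂ : cnt p NN ψ = Nat.card {χ : IrrCharacter NN // mult χ ψ ≠ 0} :=
    Nat.card_congr (Equiv.subtypeEquivRight fun χ => and_iff_right_of_imp fun hχ =>
      not_dvd_deg_above hp.out h.M'_le_N h.N_le_normM' h.idx_M' hχ (by rwa [hψ.deg_eq hCM']))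
  have hcomm : ∀ a ∈ S, ∀ b ∈ S,
      (a * b * a⁻¹ * b⁻¹ ∈ MM ↔ a * b * a⁻¹ * b⁻¹ ∈ MM') := by
    intro a ha b hb
    refine ⟨fun hx => ?_, fun hx => h.M'_le_M hx⟩
    rw [← h.inf_M_N]
    exact Subgroup.mem_inf.2 ⟨hx, hSN (mul_mem (mul_mem (mul_mem ha hb) (inv_mem ha)) (inv_mem hb))⟩
  have hH₀P : H₀ ≤ Subgroup.normalizer (P : Set G) := hH₀N.trans h.N_le_normP
  have hdec : ∀ a ∈ S, ∃ q ∈ MM', ∃ a' ∈ S ⊓ H₀, q * a' = a := by
    intro a ha
    obtain ⟨q, hq, a', ha', e⟩ := CfsgLib.Coprime.mem_sup_exists hH₀P (hNH₀ (hSN ha))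
    refine ⟨q, Subgroup.mem_sup_right hq, a', Subgroup.mem_inf.2 ⟨?_, ha'⟩, e⟩
    have := mul_mem (inv_mem (hM'S (Subgroup.mem_sup_right hq))) ha
    rwa [← e, inv_mul_cancel_left] at this
  have hH₀M' : MM' ⊓ H₀ = CC := by
    refine le_antisymm (fun x hx => ?_) (le_inf hCM' hCH₀)
    obtain ⟨hx1, hx2⟩ := Subgroup.mem_inf.1 hx
    obtain ⟨c, hc, q, hq, rfl⟩ :=
      CfsgLib.Coprime.mem_sup_exists (h.P_le_N.trans h.N_le_normC) hx1
    refine mul_mem hc (h.L_le_C (inf_le_of_coprime hcH₀ h.hPQ (Subgroup.mem_inf.2 ⟨?_, hq⟩)))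
    have := mul_mem (inv_mem (hCH₀ hc)) hx2
    rwa [inv_mul_cancel_left] at this
  have hext : ∀ a ∈ S, ∀ b ∈ S, a * b * a⁻¹ * b⁻¹ ∈ MM' →
      (ExtTo η (MM ⊔ Subgroup.zpowers a ⊔ Subgroup.zpowers b) ↔
        ExtTo ψ (MM' ⊔ Subgroup.zpowers a ⊔ Subgroup.zpowers b)) := by
    intro a ha b hb hab
    obtain ⟨q, hq, a', ha', rfl⟩ := hdec a ha
    obtain ⟨q', hq', b', hb', rfl⟩ := hdec b hb
    obtain ⟨ha'S, ha'H⟩ := Subgroup.mem_inf.1 ha'
    obtain ⟨hb'S, hb'H⟩ := Subgroup.mem_inf.1 hb'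
    rw [sup_sup_zpowers_mul (h.M'_le_M hq) (h.M'_le_M hq'), sup_sup_zpowers_mul hq hq']
    have hab' : a' * b' * a'⁻¹ * b'⁻¹ ∈ MM' := by
      rw [comm_mem_mul_left hq (h.N_le_normM' (hSN hb)), comm_mem_symm,
        comm_mem_mul_left hq' (h.N_le_normM' (hSN ha'S)), comm_mem_symm] at hab
      exact hab
    have habC : a' * b' * a'⁻¹ * b'⁻¹ ∈ CC := by
      rw [← hH₀M']
      exact Subgroup.mem_inf.2
        ⟨hab', mul_mem (mul_mem (mul_mem ha'H hb'H) (inv_mem ha'H)) (inv_mem hb'H)⟩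
    have habel := comm_mem_of_mem_sup (h.N_le_normC (hSN ha'S)) (h.N_le_normC (hSN hb'S)) habC
    set W := CC ⊔ Subgroup.zpowers a' ⊔ Subgroup.zpowers b' with hW
    have hWS : W ≤ S := sup_le (sup_le (hCM'.trans hM'S) (Subgroup.zpowers_le.2 ha'S))
      (Subgroup.zpowers_le.2 hb'S)
    have hWH : W ≤ H₀ := sup_le (sup_le hCH₀ (Subgroup.zpowers_le.2 ha'H))
      (Subgroup.zpowers_le.2 hb'H)
    have hWN : W ≤ NN := hWS.trans hSN
    have hCW : CC ≤ W := le_sup_left.trans le_sup_left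
    have e1 : MM ⊔ Subgroup.zpowers a' ⊔ Subgroup.zpowers b' = MM ⊔ W := by
      refine le_antisymm (sup_le (sup_le le_sup_left ?_) ?_)
        (sup_le (le_sup_left.trans le_sup_left) (sup_le (sup_le ?_ ?_) le_sup_right))
      · exact (le_sup_right.trans le_sup_left).trans le_sup_right
      · exact le_sup_right.trans le_sup_right
      · exact (h.C_le_K.trans le_sup_left).trans (le_sup_left.trans le_sup_left)
      · exact le_sup_right.trans le_sup_left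
    have e2 : MM' ⊔ Subgroup.zpowers a' ⊔ Subgroup.zpowers b' = MM' ⊔ W := by
      refine le_antisymm (sup_le (sup_le le_sup_left ?_) ?_)
        (sup_le (le_sup_left.trans le_sup_left) (sup_le (sup_le ?_ ?_) le_sup_right))
      · exact (le_sup_right.trans le_sup_left).trans le_sup_right
      · exact le_sup_right.trans le_sup_right
      · exact hCM'.trans (le_sup_left.trans le_sup_left)
      · exact le_sup_right.trans le_sup_left
    rw [e1, e2]
    have hWM : MM ⊓ (K ⊔ W) = K := by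
      refine le_antisymm (fun x hx => ?_) (le_inf le_sup_left le_sup_left)
      obtain ⟨hxM, hxY⟩ := Subgroup.mem_inf.1 hx
      obtain ⟨k, hk, w, hw, rfl⟩ :=
        CfsgLib.Coprime.mem_sup_exists (hWN.trans h.N_le_normK) hxY
      refine mul_mem hk (h.C_le_K ?_)
      rw [← hH₀M']
      refine Subgroup.mem_inf.2 ⟨?_, hWH hw⟩
      rw [← h.inf_M_N]
      refine Subgroup.mem_inf.2 ⟨?_, hWN hw⟩
      have := mul_mem (inv_mem (Subgroup.mem_sup_left hk : k ∈ MM)) hxM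
      rwa [inv_mul_cancel_left] at this
    have hWM' : MM' ⊓ W = CC :=
      le_antisymm ((inf_le_inf_left _ hWH).trans hH₀M'.le) (le_inf hCM' hCW)
    have hnU : MM ⊔ W ≤ Subgroup.normalizer (MM : Set G) :=
      sup_le Subgroup.le_normalizer (hWN.trans hNM)
    have hnU' : MM' ⊔ W ≤ Subgroup.normalizer (MM' : Set G) :=
      sup_le Subgroup.le_normalizer (hWN.trans h.N_le_normM')
    rw [extTo_sup_iff (U := MM ⊔ W) (Y := K ⊔ W) le_sup_left
        (sup_le (le_sup_left.trans le_sup_left) le_sup_right) hnU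
        (sup_le le_sup_left (le_sup_right.trans le_sup_right)) hWM
        (fixed_sup Subgroup.le_normalizer (hWN.trans hNM) (fixed_self η)
          fun x hx => (hWS hx).2) hη,
      extTo_sup_iff (U := MM' ⊔ W) (Y := W) le_sup_left le_sup_right hnU' le_rfl hWM'
        (fixed_sup Subgroup.le_normalizer (hWN.trans h.N_le_normM') (fixed_self ψ)
          fun x hx => ((hS' x).1 (hWS hx)).2) hψ]
    exact extends_iff K P W CC h.hLK h.hLP h.hPQ h.hcop h.P_le_normK (hWN.trans h.N_le_normK)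
      (hWN.trans h.N_le_normP) rfl hCW habel
      (fun hd => hcH₀ (hd.trans (Dvd.intro _
        (Subgroup.relIndex_mul_relIndex L W H₀ (h.L_le_C.trans hCW) hWH))))
      θ φ hθ (hSθ.mono hWS) hφ hm
  have hgood : ∀ a ∈ S, (Good S η a ↔ Good S ψ a) := by
    refine fun a ha => forall₂_congr fun b hb => ?_
    rw [hcomm a ha b hb]
    exact imp_congr_right fun hab => hext a ha b hb hab
  have hXY : Nat.card {q : S × S //
      (q.1 : G) * q.2 * (q.1 : G)⁻¹ * (q.2 : G)⁻¹ ∈ MM ∧ Good S η q.1} =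
    Nat.card {q : S × S //
      (q.1 : G) * q.2 * (q.1 : G)⁻¹ * (q.2 : G)⁻¹ ∈ MM' ∧ Good S ψ q.1} :=
    Nat.card_congr (Equiv.subtypeEquivRight fun q =>
      and_congr (hcomm _ q.1.2 _ q.2.2) (hgood _ q.1.2))
  rw [hXY, ← h2, mul_assoc, mul_assoc] at h1
  rw [hcnt₁, hcnt₂]
  exact Nat.eq_of_mul_eq_mul_right (Nat.mul_pos Nat.card_pos Nat.card_pos) h1

/-- The counts over corresponding characters agree. -/
theorem count_pair {θ : IrrCharacter K} {φ : IrrCharacter CC} (hθ : Fixed P θ) (hφ : Fixed P φ)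
    (hm : ¬ p ∣ mult θ φ) (hdθ : ¬ p ∣ deg θ) : cnt p Γ θ = cnt p NN φ := by
  classical
  let H : Subgroup G :=
    { carrier := {n | n ∈ NN ∧ cjI n θ = θ}
      one_mem' := ⟨one_mem _, cjI_one θ⟩
      mul_mem' := fun {a b} ha hb => ⟨mul_mem ha.1 hb.1, by
        rw [cjI_mul (h.N_le_normK ha.1) (h.N_le_normK hb.1), hb.2, ha.2]⟩
      inv_mem' := fun {a} ha => ⟨inv_mem ha.1, by
        conv_lhs => rw [← ha.2]
        exact cjI_inv_cancel (h.N_le_normK ha.1) θ⟩ }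
  have hH' : ∀ n, n ∈ H ↔ n ∈ NN ∧ cjI n φ = φ := fun n =>
    and_congr_right fun hn => (h.fix_iff hθ hφ hm hn).symm
  have hHN : H ≤ NN := fun n hn => hn.1
  have hPH : P ≤ H := fun x hx => ⟨h.P_le_N hx, hθ x hx⟩
  have hPM : PMod p K MM := pmod_sup h.hLK h.P_le_normK h.hPQ
  have hPC : P ≤ Subgroup.normalizer (CC : Set G) := h.P_le_N.trans h.N_le_normC
  have hPM' : PMod p CC MM' := pmod_sup h.L_le_C hPC h.hPQ
  have hMK : MM ≤ Subgroup.normalizer (K : Set G) := sup_le Subgroup.le_normalizer h.P_le_normK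
  have hM'C : MM' ≤ Subgroup.normalizer (CC : Set G) := sup_le Subgroup.le_normalizer hPC
  have s1 := split (p := p) (θ := θ) (M := MM) (N := NN) (H := H) le_sup_left h.M_le_Γ h.N_le_Γ
    h.hΓK h.Γ_le_normM
    (fun g hg => by
      obtain ⟨n, hn, k, hk, e⟩ := h.exists_mul hg
      exact ⟨n, hn, k, Subgroup.mem_sup_left hk, e⟩)
    (fun η hd hη => ext_of_not_dvd_deg le_sup_left hMK hPM (h.fixed_M hθ) hη hd)
    (fun n => Iff.rfl)
  have s2 := split (p := p) (θ := φ) (M := MM') (N := NN) (H := H) le_sup_left h.M'_le_N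
    (le_refl NN) h.N_le_normC h.N_le_normM'
    (fun g hg => ⟨g, hg, 1, one_mem _, (mul_one g).symm⟩)
    (fun η hd hη => ext_of_not_dvd_deg le_sup_left hM'C hPM' (h.fixed_M' hφ) hη hd) hH'
  refine Nat.eq_of_mul_eq_mul_left (Nat.card_pos (α := H)) ?_
  rw [s1, s2]
  have hiff : ExtTo θ MM ↔ ExtTo φ MM' :=
    extTo_iff_of_not_dvd le_sup_left h.M'_le_M hMK
      (sup_le le_sup_left (le_sup_right.trans le_sup_right)) h.inf_K_M' hPM hPM' (h.fixed_M hθ)
      (h.fixed_M' hφ) hm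
  by_cases hE : ExtTo θ MM
  · obtain ⟨H₀, hCH₀, hH₀N, hNH₀, hcH₀⟩ := exists_complement h.hLP h.P_le_N h.N_le_normP h.hPQ
      h.idx_N h.L_le_C h.C_le_N h.N_le_normC h.cop_C
    have hLH : L ≤ H := h.hLP.trans hPH
    have hcA : ¬ p ∣ L.relIndex (H ⊓ H₀) := fun hd => hcH₀ (hd.trans (Dvd.intro _
      (Subgroup.relIndex_mul_relIndex L (H ⊓ H₀) H₀ (le_inf hLH (h.L_le_C.trans hCH₀))
        inf_le_right)))
    have hAN : H ⊓ H₀ ≤ NN := inf_le_left.trans hHN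
    have hfixed : ∀ {U : Subgroup G}, P ≤ U → NN ≤ Subgroup.normalizer (U : Set G) →
        ∀ χ : IrrCharacter U, Fixed (H ⊓ H₀) χ → Fixed H χ := by
      intro U hPU hNU χ hχ n hn
      obtain ⟨q, hq, a, ha, e⟩ :=
        CfsgLib.Coprime.mem_sup_exists (hH₀N.trans h.N_le_normP) (hNH₀ (hHN hn))
      have haH : a ∈ H := by
        have := mul_mem (inv_mem (hPH hq)) hn
        rwa [← e, inv_mul_cancel_left] at this
      rw [← e, cjI_mul (hNU (h.P_le_N hq)) (hNU (hHN haH)),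
        hχ a (Subgroup.mem_inf.2 ⟨haH, ha⟩), cjI_of_mem (hPU hq)]
    obtain ⟨η₀, hη₀, hη₀A⟩ := exists_fixed_ext (A := H ⊓ H₀) le_sup_left hMK hPM
      (h.hLK.trans le_sup_left) (hAN.trans (h.N_le_Γ.trans h.Γ_le_normM))
      (hAN.trans h.N_le_normK) hcA (fun a ha => (Subgroup.mem_inf.1 ha).1.2) hE
    obtain ⟨ψ₀, hψ₀, hψ₀A⟩ := exists_fixed_ext (A := H ⊓ H₀) le_sup_left hM'C hPM'
      (h.L_le_C.trans le_sup_left) (hAN.trans h.N_le_normM')
      (hAN.trans h.N_le_normC) hcA (fun a ha => ((hH' a).1 (Subgroup.mem_inf.1 ha).1).2)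
      (hiff.1 hE)
    obtain ⟨e, he⟩ := exists_ext_equiv le_sup_left h.M'_le_M h.inf_K_M'
      (sup_le le_sup_left (le_sup_right.trans le_sup_right)) hMK (hHN.trans h.N_le_normK)
      (hHN.trans (h.N_le_Γ.trans h.Γ_le_normM)) (hHN.trans h.N_le_normC)
      (hHN.trans h.N_le_normM') hη₀
      (hfixed le_sup_right (h.N_le_Γ.trans h.Γ_le_normM) η₀ hη₀A) hψ₀
      (hfixed le_sup_right h.N_le_normM' ψ₀ hψ₀A)
    rw [← Finset.sum_filter, ← Finset.sum_filter,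
      Finset.sum_subtype (p := fun η : IrrCharacter MM => Ext η θ) _ (by simp),
      Finset.sum_subtype (p := fun ψ : IrrCharacter MM' => Ext ψ φ) _ (by simp)]
    refine Fintype.sum_equiv e _ _ fun η => ?_
    rw [Nat.card_congr (Equiv.subtypeEquivRight fun n : H => (he η n n.2).symm),
      h.count_ext hθ hφ hm hdθ hCH₀ hH₀N hNH₀ hcH₀ η.2 (e η).2
        fun n hn hnθ => he η n ⟨hn, hnθ⟩]
  · rw [Finset.sum_eq_zero fun η _ => if_neg fun hη => hE ⟨η, hη⟩,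
      Finset.sum_eq_zero fun ψ _ => if_neg fun hψ => (mt hiff.2 hE) ⟨ψ, hψ⟩]

/-- The counts in `Γ` and in the normalizer of `P` agree. -/
theorem base (ν : IrrCharacter L) (hν : Fixed P ν) : cnt p Γ ν = cnt p NN ν := by
  classical
  have hd1 := decompose h.hLP h.hPΓ h.hPQ h.hidx h.hLK h.hKΓ h.hΓK ν hν
  have eN : NN ⊓ Subgroup.normalizer (P : Set G) = NN := inf_eq_left.2 h.N_le_normP
  have hd2 := decompose h.hLP h.P_le_N h.hPQ h.idx_N h.L_le_C h.C_le_N h.N_le_normC ν hν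
  rw [eN] at hd2
  refine Nat.eq_of_mul_eq_mul_left (Nat.card_pos (α := NN)) ?_
  rw [hd1, hd2, ← Finset.sum_filter, ← Finset.sum_filter]
  have hbel : ∀ θ : IrrCharacter K, InX p P NN ν θ →
      ∃ φ : IrrCharacter CC, Fixed P φ ∧ ¬ p ∣ mult θ φ := fun θ hθ => by
    obtain ⟨φ, h1, h2, -⟩ := h.corr.below θ hθ.1
    exact ⟨φ, h1, h2⟩
  choose f hf1 hf2 using hbel
  refine Finset.sum_bij (fun θ hθ => f θ (Finset.mem_filter.1 hθ).2) ?_ ?_ ?_ ?_
  · intro θ hθ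
    have hθ' := (Finset.mem_filter.1 hθ).2
    exact Finset.mem_filter.2 ⟨Finset.mem_univ _,
      (h.inX_iff ν hν hθ'.1 (hf1 θ hθ') (hf2 θ hθ')).1 hθ'⟩
  · intro θ hθ θ' hθ' e
    have h1 := (Finset.mem_filter.1 hθ).2
    have h2 := (Finset.mem_filter.1 hθ').2
    exact h.corr.inj θ θ' h1.1 h2.1 _ (hf1 θ h1) (hf2 θ h1) (e ▸ hf2 θ' h2)
  · intro φ hφ
    have hφ' := (Finset.mem_filter.1 hφ).2
    obtain ⟨θ, hθ, hm⟩ := h.corr.surj φ hφ'.1
    have hθ' := (h.inX_iff ν hν hθ hφ'.1 hm).2 hφ'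
    exact ⟨θ, Finset.mem_filter.2 ⟨Finset.mem_univ _, hθ'⟩,
      (h.corr.eq_of hθ hφ'.1 (hf1 θ hθ') hm (hf2 θ hθ'))⟩
  · intro θ hθ
    have hθ' := (Finset.mem_filter.1 hθ).2
    rw [h.count_pair hθ'.1 (hf1 θ hθ') (hf2 θ hθ') hθ'.2.1,
      Nat.card_congr (Equiv.subtypeEquivRight fun n : NN =>
        (h.fix_iff hθ'.1 (hf1 θ hθ') (hf2 θ hθ') n.2).symm)]

end BaseData

end CfsgLib.Char.RelMcKay
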