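import Cfsg.Agent.Lib.Char.Ramified
import Cfsg.Agent.Lib.Char.Gallagher
import Cfsg.Agent.Lib.Char.Correspondence
import Cfsg.Agent.Lib.Char.InvariantAbove
import Cfsg.Agent.Lib.Block.CyclicCoset
import Cfsg.Agent.Lib.Block.NormalDefect

/-!
# Characters of nested subgroups: restriction, multiplicity, conjugation, congruences

A small interface for irreducible characters of the subgroups of a fixed finite group.
-/

set_option autoImplicit false
set_option linter.unusedSectionVars false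
set_option linter.style.haveILetI false

namespace CfsgLib.Char.RelMcKay

open scoped ComplexConjugate
open Cfsg CfsgLib CfsgLib.Char

universe u

variable {G : Type u} [Group G] [Finite G]

noncomputable local instance instFinSub (A : Subgroup G) : Fintype A := Fintype.ofFinite _

noncomputable local instance instFinIrr (A : Subgroup G) : Fintype (IrrCharacter A) :=
  Fintype.ofFinite _

variable {U V W : Subgroup G}

/-- Restriction, read through the extension by zero. -/
noncomputable def res (V : Subgroup G) {U : Subgroup G} (f : U → ℂ) : V → ℂ :=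
  fun v => extendByZero U f (v : G)

theorem res_apply {f : U → ℂ} {v : V} (h : (v : G) ∈ U) : res V f v = f ⟨v, h⟩ :=
  Char.extendByZero_mem U f h

theorem res_eq_comp (h : V ≤ U) (f : U → ℂ) : res V f = fun v => f (Subgroup.inclusion h v) :=
  funext fun v => res_apply (h v.2)

theorem res_res (hWV : W ≤ V) (f : U → ℂ) : res W (res V f) = res W f :=
  funext fun w => by rw [res_apply (hWV w.2)]; rfl

theorem res_self (f : U → ℂ) : res U f = f :=
  funext fun v => res_apply v.2

theorem isCharacter_res (h : V ≤ U) {f : U → ℂ} (hf : IsCharacter U f) :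
    IsCharacter V (res V f) := by
  rw [res_eq_comp h]
  exact isCharacter_comp hf (Subgroup.inclusion h)

/-- The degree of an irreducible character. -/
noncomputable def deg (χ : IrrCharacter U) : ℕ := charDegree (χ : U → ℂ)

theorem one_eq_deg (χ : IrrCharacter U) : (χ : U → ℂ) 1 = (deg χ : ℂ) := (Block.charDegree_eq χ).1

theorem deg_pos (χ : IrrCharacter U) : 0 < deg χ := Nat.pos_of_ne_zero (Block.charDegree_eq χ).2

/-- The multiplicity of `φ` in the restriction of `χ`. -/
noncomputable def mult (χ : IrrCharacter U) (φ : IrrCharacter V) : ℕ :=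
  Nat.floor (classInner (res V (χ : U → ℂ)) (φ : V → ℂ)).re

theorem mult_spec (h : V ≤ U) (χ : IrrCharacter U) (φ : IrrCharacter V) :
    classInner (res V (χ : U → ℂ)) (φ : V → ℂ) = (mult χ φ : ℂ) := by
  obtain ⟨m, hm⟩ := classInner_char_irr_nat (isCharacter_res h (isCharacter_irr χ)) φ
  rw [mult, hm, Complex.natCast_re, Nat.floor_natCast]

theorem mult_self [DecidableEq (IrrCharacter U)] (χ φ : IrrCharacter U) :
    mult χ φ = if χ = φ then 1 else 0 := by
  have h := mult_spec le_rfl χ φ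
  rw [res_self, classInner_irr] at h
  split_ifs at h ⊢ with e <;> exact_mod_cast h.symm

theorem res_expand (h : V ≤ U) (χ : IrrCharacter U) :
    res V (χ : U → ℂ) = ∑ φ : IrrCharacter V, (mult χ φ : ℂ) • (φ : V → ℂ) := by
  conv_lhs => rw [classFun_expand
    (isClassFunction_of_isCharacter (isCharacter_res h (isCharacter_irr χ)))]
  exact Finset.sum_congr rfl fun φ _ => by rw [mult_spec h]

theorem mult_trans (hWV : W ≤ V) (hVU : V ≤ U) (χ : IrrCharacter U) (ω : IrrCharacter W) :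
    mult χ ω = ∑ φ : IrrCharacter V, mult χ φ * mult φ ω := by
  have h1 := mult_spec (hWV.trans hVU) χ ω
  rw [← res_res hWV, res_expand hVU] at h1
  have h2 : res W (∑ φ : IrrCharacter V, (mult χ φ : ℂ) • (φ : V → ℂ)) =
      ∑ φ : IrrCharacter V, (mult χ φ : ℂ) • res W (φ : V → ℂ) := by
    funext w
    simp only [res_apply (hWV w.2), Finset.sum_apply, Pi.smul_apply]
  rw [h2, classInner_sum_left] at h1
  simp only [classInner_smul_left, mult_spec hWV] at h1
  exact_mod_cast h1.symm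

theorem deg_eq_sum (h : V ≤ U) (χ : IrrCharacter U) :
    deg χ = ∑ φ : IrrCharacter V, mult χ φ * deg φ := by
  have h1 := congrFun (res_expand h χ) 1
  rw [res_apply (show ((1 : V) : G) ∈ U from h (1 : V).2), Finset.sum_apply] at h1
  simp only [Pi.smul_apply, smul_eq_mul, one_eq_deg] at h1
  have h2 : (χ : U → ℂ) ⟨((1 : V) : G), h (1 : V).2⟩ = (χ : U → ℂ) 1 :=
    congrArg _ (Subtype.ext rfl)
  rw [h2, one_eq_deg] at h1
  exact_mod_cast h1

theorem exists_mult_ne_zero (h : V ≤ U) (χ : IrrCharacter U) :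
    ∃ φ : IrrCharacter V, mult χ φ ≠ 0 := by
  obtain ⟨φ, -, hφ⟩ := Finset.exists_ne_zero_of_sum_ne_zero
    ((deg_eq_sum h χ).symm.trans_ne (deg_pos χ).ne')
  exact ⟨φ, left_ne_zero_of_mul hφ⟩

theorem mult_ne_zero_trans (hWV : W ≤ V) (hVU : V ≤ U) {χ : IrrCharacter U} {φ : IrrCharacter V}
    {ω : IrrCharacter W} (h1 : mult χ φ ≠ 0) (h2 : mult φ ω ≠ 0) : mult χ ω ≠ 0 := by
  rw [mult_trans hWV hVU]
  intro h
  rw [Finset.sum_eq_zero_iff] at h
  exact mul_ne_zero h1 h2 (h φ (Finset.mem_univ _))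

theorem exists_mult_between (hWV : W ≤ V) (hVU : V ≤ U) {χ : IrrCharacter U}
    {ω : IrrCharacter W} (h : mult χ ω ≠ 0) :
    ∃ φ : IrrCharacter V, mult χ φ ≠ 0 ∧ mult φ ω ≠ 0 := by
  rw [mult_trans hWV hVU] at h
  obtain ⟨φ, -, hφ⟩ := Finset.exists_ne_zero_of_sum_ne_zero h
  exact ⟨φ, left_ne_zero_of_mul hφ, right_ne_zero_of_mul hφ⟩

theorem mult_eq_of_res_eq (h : V ≤ U) {χ : IrrCharacter U} {φ : IrrCharacter V}
    (hres : res V (χ : U → ℂ) = (φ : V → ℂ)) (ω : IrrCharacter V) [Decidable (φ = ω)] :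
    mult χ ω = if φ = ω then 1 else 0 := by
  have h1 := mult_spec h χ ω
  rw [hres, classInner_irr] at h1
  split_ifs at h1 ⊢ <;> exact_mod_cast h1.symm

/-- `χ` restricts to `φ`. -/
def Ext (χ : IrrCharacter U) (φ : IrrCharacter V) : Prop :=
  res V (χ : U → ℂ) = (φ : V → ℂ)

theorem Ext.mult_eq_one (h : V ≤ U) {χ : IrrCharacter U} {φ : IrrCharacter V} (he : Ext χ φ) :
    mult χ φ = 1 := by
  classical
  rw [mult_eq_of_res_eq h he, if_pos rfl]

theorem Ext.eq_of_mult_ne_zero (h : V ≤ U) {χ : IrrCharacter U} {φ ω : IrrCharacter V}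
    (he : Ext χ φ) (hm : mult χ ω ≠ 0) : ω = φ := by
  classical
  by_contra hne
  exact hm (by rw [mult_eq_of_res_eq h he, if_neg (Ne.symm hne)])

theorem Ext.deg_eq (h : V ≤ U) {χ : IrrCharacter U} {φ : IrrCharacter V} (he : Ext χ φ) :
    deg χ = deg φ := by
  rw [deg_eq_sum h χ, Finset.sum_eq_single φ (fun ω _ hne => by
    rw [show mult χ ω = 0 from by_contra fun hm => hne (he.eq_of_mult_ne_zero h hm), zero_mul])
    (by simp), he.mult_eq_one h, one_mul]

theorem Ext.trans (hWV : W ≤ V) {χ : IrrCharacter U} {φ : IrrCharacter V} {ω : IrrCharacter W}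
    (h1 : Ext χ φ) (h2 : Ext φ ω) : Ext χ ω := by
  show res W (χ : U → ℂ) = _
  rw [← res_res hWV, show res V (χ : U → ℂ) = _ from h1]
  exact h2

/-! ## Conjugation -/

/-- Conjugation of a function on a subgroup. -/
noncomputable def cj (g : G) (f : U → ℂ) : U → ℂ :=
  fun u => extendByZero U f (g⁻¹ * u * g)

theorem inv_conj_mem {g : G} (hg : g ∈ Subgroup.normalizer (U : Set G)) {x : G} (hx : x ∈ U) :
    g⁻¹ * x * g ∈ U :=
  (Subgroup.mem_normalizer_iff''.1 hg x).1 hx

theorem conj_mem {g : G} (hg : g ∈ Subgroup.normalizer (U : Set G)) {x : G} (hx : x ∈ U) :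
    g * x * g⁻¹ ∈ U :=
  (Subgroup.mem_normalizer_iff.1 hg x).1 hx

theorem cj_apply {g : G} (hg : g ∈ Subgroup.normalizer (U : Set G)) (f : U → ℂ) (u : U) :
    cj g f u = f ⟨g⁻¹ * u * g, inv_conj_mem hg u.2⟩ :=
  Char.extendByZero_mem U f _

theorem cj_one (f : U → ℂ) : cj 1 f = f :=
  funext fun u => by
    rw [cj_apply (one_mem _)]
    exact congrArg f (Subtype.ext (by simp))

theorem cj_mul {a b : G} (ha : a ∈ Subgroup.normalizer (U : Set G))
    (hb : b ∈ Subgroup.normalizer (U : Set G)) (f : U → ℂ) : cj (a * b) f = cj a (cj b f) :=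
  funext fun u => by
    rw [cj_apply (mul_mem ha hb), cj_apply ha, cj_apply hb]
    exact congrArg f (Subtype.ext (by simp [mul_assoc]))

theorem cj_of_mem {f : U → ℂ} (hf : IsClassFunction U f) {x : G} (hx : x ∈ U) : cj x f = f :=
  funext fun u => by
    rw [cj_apply (Subgroup.le_normalizer hx)]
    have := hf u ⟨x, hx⟩⁻¹
    rw [← this]
    exact congrArg f (Subtype.ext (by simp))

theorem isConjCharOf_iff {g : G} (hg : g ∈ Subgroup.normalizer (U : Set G)) (f f' : U → ℂ) :
    IsConjCharOf U g f f' ↔ cj g f = f' := by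
  constructor
  · intro h
    funext u
    rw [cj_apply hg]
    exact (h ⟨_, inv_conj_mem hg u.2⟩ u (by simp [mul_assoc])).symm
  · rintro rfl k k' hk
    rw [cj_apply hg]
    exact congrArg f (Subtype.ext (show g⁻¹ * (k' : G) * g = k by rw [hk]; group))

/-- Conjugation by a normalizing element, as an automorphism of a subgroup. -/
noncomputable def conjEquiv {g : G} (hg : g ∈ Subgroup.normalizer (U : Set G)) : U ≃* U where
  toFun u := ⟨g⁻¹ * u * g, inv_conj_mem hg u.2⟩
  invFun u := ⟨g * u * g⁻¹, conj_mem hg u.2⟩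
  left_inv u := Subtype.ext (by simp [mul_assoc])
  right_inv u := Subtype.ext (by simp [mul_assoc])
  map_mul' u v := Subtype.ext (by simp [mul_assoc])

theorem cj_eq_comp {g : G} (hg : g ∈ Subgroup.normalizer (U : Set G)) (f : U → ℂ) :
    cj g f = fun u => f (conjEquiv hg u) :=
  funext fun u => cj_apply hg f u

open scoped Classical in
/-- Conjugation of irreducible characters, trivial off the normalizer. -/
noncomputable def cjI (g : G) (χ : IrrCharacter U) : IrrCharacter U :=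
  if hg : g ∈ Subgroup.normalizer (U : Set G) then
    ⟨cj g (χ : U → ℂ), by
      rw [cj_eq_comp hg]
      exact isIrrCharacter_comp_surjective χ.2 (conjEquiv hg).toMonoidHom (conjEquiv hg).surjective⟩
  else χ

theorem cjI_coe {g : G} (hg : g ∈ Subgroup.normalizer (U : Set G)) (χ : IrrCharacter U) :
    (cjI g χ : U → ℂ) = cj g (χ : U → ℂ) := by
  rw [cjI, dif_pos hg]

theorem cjI_one (χ : IrrCharacter U) : cjI 1 χ = χ :=
  Subtype.ext (by rw [cjI_coe (one_mem _), cj_one])

theorem cjI_mul {a b : G} (ha : a ∈ Subgroup.normalizer (U : Set G))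
    (hb : b ∈ Subgroup.normalizer (U : Set G)) (χ : IrrCharacter U) :
    cjI (a * b) χ = cjI a (cjI b χ) :=
  Subtype.ext (by rw [cjI_coe (mul_mem ha hb), cjI_coe ha, cjI_coe hb, cj_mul ha hb])

theorem cjI_of_mem {x : G} (hx : x ∈ U) (χ : IrrCharacter U) : cjI x χ = χ :=
  Subtype.ext (by rw [cjI_coe (Subgroup.le_normalizer hx), cj_of_mem (isClassFunction_irr χ) hx])

theorem cjI_inv_cancel {g : G} (hg : g ∈ Subgroup.normalizer (U : Set G)) (χ : IrrCharacter U) :
    cjI g⁻¹ (cjI g χ) = χ := by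
  rw [← cjI_mul (inv_mem hg) hg, inv_mul_cancel, cjI_one]

theorem cjI_cancel_inv {g : G} (hg : g ∈ Subgroup.normalizer (U : Set G)) (χ : IrrCharacter U) :
    cjI g (cjI g⁻¹ χ) = χ := by
  rw [← cjI_mul hg (inv_mem hg), mul_inv_cancel, cjI_one]

theorem deg_cjI (g : G) (χ : IrrCharacter U) : deg (cjI g χ) = deg χ := by
  by_cases hg : g ∈ Subgroup.normalizer (U : Set G)
  · have h : (cjI g χ : U → ℂ) 1 = (χ : U → ℂ) 1 := by
      rw [cjI_coe hg, cj_eq_comp hg]
      exact congrArg _ (map_one _)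
    rw [one_eq_deg, one_eq_deg] at h
    exact_mod_cast h
  · rw [cjI, dif_neg hg]

theorem res_cj (hVU : V ≤ U) {g : G} (hgU : g ∈ Subgroup.normalizer (U : Set G))
    (hgV : g ∈ Subgroup.normalizer (V : Set G)) (f : U → ℂ) :
    res V (cj g f) = cj g (res V f) :=
  funext fun v => by
    rw [res_apply (hVU v.2), cj_apply hgU, cj_apply hgV, res_apply (hVU (inv_conj_mem hgV v.2))]

theorem classInner_cj {g : G} (hg : g ∈ Subgroup.normalizer (U : Set G)) (f h : U → ℂ) :
    classInner (cj g f) (cj g h) = classInner f h := by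
  rw [cj_eq_comp hg, cj_eq_comp hg]
  exact Char.classInner_equiv (conjEquiv hg) f h

theorem mult_cjI (hVU : V ≤ U) {g : G} (hgU : g ∈ Subgroup.normalizer (U : Set G))
    (hgV : g ∈ Subgroup.normalizer (V : Set G)) (χ : IrrCharacter U) (φ : IrrCharacter V) :
    mult (cjI g χ) (cjI g φ) = mult χ φ := by
  have h1 := mult_spec hVU (cjI g χ) (cjI g φ)
  rw [cjI_coe hgU, cjI_coe hgV, res_cj hVU hgU hgV, classInner_cj hgV, mult_spec hVU] at h1
  exact_mod_cast h1.symm

theorem Ext.cjI (hVU : V ≤ U) {g : G} (hgU : g ∈ Subgroup.normalizer (U : Set G))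
    (hgV : g ∈ Subgroup.normalizer (V : Set G)) {χ : IrrCharacter U} {φ : IrrCharacter V}
    (h : Ext χ φ) : Ext (RelMcKay.cjI g χ) (RelMcKay.cjI g φ) := by
  show res V _ = _
  rw [cjI_coe hgU, cjI_coe hgV, res_cj hVU hgU hgV, show res V (χ : U → ℂ) = _ from h]

theorem Ext.cjI_eq (hVU : V ≤ U) {g : G} (hgU : g ∈ Subgroup.normalizer (U : Set G))
    (hgV : g ∈ Subgroup.normalizer (V : Set G)) {χ : IrrCharacter U} {φ : IrrCharacter V}
    (h : Ext χ φ) (hχ : RelMcKay.cjI g χ = χ) : RelMcKay.cjI g φ = φ := by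
  have h1 := h.cjI hVU hgU hgV
  rw [hχ] at h1
  exact Subtype.ext (h1.symm.trans h)

/-- `θ` is fixed by every element of `Q`. -/
def Fixed (Q : Subgroup G) (θ : IrrCharacter U) : Prop := ∀ x ∈ Q, cjI x θ = θ

theorem Fixed.mono {Q R : Subgroup G} (h : R ≤ Q) {θ : IrrCharacter U} (hf : Fixed Q θ) :
    Fixed R θ :=
  fun x hx => hf x (h hx)

theorem fixed_self (θ : IrrCharacter U) : Fixed U θ := fun _ hx => cjI_of_mem hx θ

theorem fixed_sup {Q R : Subgroup G} (hQ : Q ≤ Subgroup.normalizer (U : Set G))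
    (hR : R ≤ Subgroup.normalizer (U : Set G)) {θ : IrrCharacter U} (h1 : Fixed Q θ)
    (h2 : Fixed R θ) : Fixed (Q ⊔ R) θ := by
  let S : Subgroup G :=
    { carrier := {x | x ∈ Subgroup.normalizer (U : Set G) ∧ cjI x θ = θ}
      one_mem' := ⟨one_mem _, cjI_one θ⟩
      mul_mem' := fun {a b} ha hb => ⟨mul_mem ha.1 hb.1, by rw [cjI_mul ha.1 hb.1, hb.2, ha.2]⟩
      inv_mem' := fun {a} ha => ⟨inv_mem ha.1, by
        conv_lhs => rw [← ha.2]
        exact cjI_inv_cancel ha.1 θ⟩ }
  have h : Q ⊔ R ≤ S := sup_le (fun x hx => ⟨hQ hx, h1 x hx⟩) fun x hx => ⟨hR hx, h2 x hx⟩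
  exact fun x hx => (h hx).2

/-! ## Actions of `p`-groups modulo a normal subgroup -/

/-- Every element of `Q` has a power of `p`-power exponent in `L`. -/
def PMod (p : ℕ) (L Q : Subgroup G) : Prop := ∀ x ∈ Q, ∃ k : ℕ, x ^ p ^ k ∈ L

theorem PMod.mono {p : ℕ} {L Q R : Subgroup G} (h : R ≤ Q) (hQ : PMod p L Q) : PMod p L R :=
  fun x hx => hQ x (h hx)

/-- Congruence for sums invariant under a `p`-group modulo the subgroup. -/
theorem sum_modEq {p : ℕ} [hp : Fact p.Prime] {L Q : Subgroup G} (hQ : Q ≤ Subgroup.normalizer (U : Set G))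
    (hPQ : PMod p L Q) (hLU : L ≤ U) (f : IrrCharacter U → ℕ)
    (hf : ∀ x ∈ Q, ∀ χ : IrrCharacter U, f (cjI x χ) = f χ) [DecidablePred (Fixed (U := U) Q)] :
    Nat.ModEq p (∑ χ : IrrCharacter U, f χ)
      (∑ χ ∈ Finset.univ.filter (fun χ : IrrCharacter U => Fixed Q χ), f χ) := by
  classical
  let act : Q →* Equiv.Perm (IrrCharacter U) :=
    { toFun := fun x =>
        { toFun := cjI (x : G)
          invFun := cjI (x : G)⁻¹
          left_inv := cjI_inv_cancel (hQ x.2)
          right_inv := cjI_cancel_inv (hQ x.2) }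
      map_one' := Equiv.ext fun χ => cjI_one χ
      map_mul' := fun a b => Equiv.ext fun χ => cjI_mul (hQ a.2) (hQ b.2) χ }
  have hpg : IsPGroup p act.range := by
    rintro ⟨_, x, rfl⟩
    obtain ⟨k, hk⟩ := hPQ x x.2
    refine ⟨k, Subtype.ext ?_⟩
    rw [Subgroup.coe_pow, ← map_pow, Subgroup.coe_one]
    refine Equiv.ext fun χ => ?_
    show cjI ((x ^ p ^ k : Q) : G) χ = χ
    rw [Subgroup.coe_pow]
    exact cjI_of_mem (hLU hk) χ
  have hcard : ∀ v : ℕ, Nat.ModEq p ((Finset.univ.filter fun χ => f χ = v).card)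
      (((Finset.univ.filter fun χ : IrrCharacter U => Fixed Q χ).filter fun χ => f χ = v).card) := by
    intro v
    have hst : ∀ (g : act.range) (χ : IrrCharacter U), f χ = v → f ((g : Equiv.Perm _) χ) = v := by
      rintro ⟨_, x, rfl⟩ χ hχ
      show f (cjI (x : G) χ) = v
      rw [hf x x.2, hχ]
    letI : MulAction act.range {χ : IrrCharacter U // f χ = v} :=
      { smul := fun g χ => ⟨(g : Equiv.Perm _) χ.1, hst g χ.1 χ.2⟩
        one_smul := fun χ => Subtype.ext rfl
        mul_smul := fun g h χ => Subtype.ext rfl }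
    have h := hpg.card_modEq_card_fixedPoints {χ : IrrCharacter U // f χ = v}
    rw [Nat.card_eq_fintype_card, Fintype.card_subtype] at h
    have hfix : Nat.card (MulAction.fixedPoints act.range {χ : IrrCharacter U // f χ = v}) =
        ((Finset.univ.filter fun χ : IrrCharacter U => Fixed Q χ).filter fun χ => f χ = v).card := by
      rw [← Nat.card_eq_finsetCard]
      refine Nat.card_congr
        { toFun := fun χ => ⟨χ.1.1, Finset.mem_filter.2 ⟨Finset.mem_filter.2 ⟨Finset.mem_univ _,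
            fun x hx => congrArg Subtype.val (χ.2 ⟨act ⟨x, hx⟩, ⟨x, hx⟩, rfl⟩)⟩, χ.1.2⟩⟩
          invFun := fun χ => ⟨⟨χ.1, (Finset.mem_filter.1 χ.2).2⟩, fun g => Subtype.ext ?_⟩
          left_inv := fun χ => rfl
          right_inv := fun χ => rfl }
      obtain ⟨_, x, rfl⟩ := g
      exact (Finset.mem_filter.1 (Finset.mem_filter.1 χ.2).1).2 x x.2
    rw [hfix] at h
    exact h
  set S := Finset.univ.image f
  have h1 : ∑ χ : IrrCharacter U, f χ = ∑ v ∈ S, (Finset.univ.filter fun χ => f χ = v).card * v := by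
    rw [← Finset.sum_fiberwise_of_maps_to (t := S) (g := f)
      (fun χ _ => Finset.mem_image_of_mem f (Finset.mem_univ χ))]
    refine Finset.sum_congr rfl fun v _ => ?_
    rw [Finset.sum_congr rfl fun χ hχ => (Finset.mem_filter.1 hχ).2, Finset.sum_const, smul_eq_mul]
  have h2 : ∑ χ ∈ Finset.univ.filter (fun χ : IrrCharacter U => Fixed Q χ), f χ =
      ∑ v ∈ S, ((Finset.univ.filter fun χ : IrrCharacter U => Fixed Q χ).filter
        fun χ => f χ = v).card * v := by
    rw [← Finset.sum_fiberwise_of_maps_to (t := S) (g := f)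
      (fun χ _ => Finset.mem_image_of_mem f (Finset.mem_univ χ))]
    refine Finset.sum_congr rfl fun v _ => ?_
    rw [Finset.sum_congr rfl fun χ hχ => (Finset.mem_filter.1 hχ).2, Finset.sum_const, smul_eq_mul]
  rw [h1, h2]
  exact Nat.ModEq.sum fun v _ => (hcard v).mul_right v

/-- Below a fixed character of degree prime to `p` there is a fixed one of degree prime to `p`
with multiplicity prime to `p`. -/
theorem exists_fixed_below {p : ℕ} [hp : Fact p.Prime] {L Q : Subgroup G} (hVU : V ≤ U)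
    (hQU : Q ≤ Subgroup.normalizer (U : Set G)) (hQV : Q ≤ Subgroup.normalizer (V : Set G))
    (hPQ : PMod p L Q) (hLV : L ≤ V) {θ : IrrCharacter U} (hθ : Fixed Q θ) (hdeg : ¬ p ∣ deg θ) :
    ∃ φ : IrrCharacter V, Fixed Q φ ∧ ¬ p ∣ mult θ φ ∧ ¬ p ∣ deg φ := by
  classical
  have hinv : ∀ x ∈ Q, ∀ φ : IrrCharacter V, mult θ (cjI x φ) * deg (cjI x φ) = mult θ φ * deg φ := by
    intro x hx φ
    rw [deg_cjI]
    congr 1
    conv_lhs => rw [← hθ x hx]
    exact mult_cjI hVU (hQU hx) (hQV hx) θ φ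
  have h := sum_modEq hQV hPQ hLV (fun φ => mult θ φ * deg φ) hinv
  rw [← deg_eq_sum hVU θ] at h
  by_contra hno
  push Not at hno
  refine hdeg ((h.dvd_iff dvd_rfl).2 (Finset.dvd_sum fun φ hφ => ?_))
  have hφ' := hno φ (Finset.mem_filter.1 hφ).2
  by_cases hm : p ∣ mult θ φ
  · exact hm.mul_right _
  · exact (hφ' hm).mul_left _

/-- A composite multiplicity is congruent to the one through a unique fixed middle character. -/
theorem mult_modEq_of_unique {p : ℕ} [hp : Fact p.Prime] {L Q : Subgroup G} (hWV : W ≤ V) (hVU : V ≤ U)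
    (hQU : Q ≤ Subgroup.normalizer (U : Set G)) (hQV : Q ≤ Subgroup.normalizer (V : Set G))
    (hQW : Q ≤ Subgroup.normalizer (W : Set G))
    (hPQ : PMod p L Q) (hLV : L ≤ V) {θ : IrrCharacter U} (hθ : Fixed Q θ) {ω : IrrCharacter W}
    (hω : Fixed Q ω) (φ : IrrCharacter V) (hφ : Fixed Q φ)
    (huniq : ∀ φ' : IrrCharacter V, Fixed Q φ' → φ' ≠ φ → p ∣ mult θ φ' * mult φ' ω) :
    Nat.ModEq p (mult θ ω) (mult θ φ * mult φ ω) := by
  classical
  have hinv : ∀ x ∈ Q, ∀ φ' : IrrCharacter V,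
      mult θ (cjI x φ') * mult (cjI x φ') ω = mult θ φ' * mult φ' ω := by
    intro x hx φ'
    conv_lhs => rw [← hθ x hx, ← hω x hx]
    rw [mult_cjI hVU (hQU hx) (hQV hx), mult_cjI hWV (hQV hx) (hQW hx)]
  rw [mult_trans hWV hVU]
  refine (sum_modEq hQV hPQ hLV (fun φ' => mult θ φ' * mult φ' ω) hinv).trans ?_
  rw [← Finset.add_sum_erase _ _ (Finset.mem_filter.2 ⟨Finset.mem_univ φ, hφ⟩)]
  conv_rhs => rw [← add_zero (mult θ φ * mult φ ω)]
  refine Nat.ModEq.add_left _ (Nat.modEq_zero_iff_dvd.2 (Finset.dvd_sum fun φ' h' => ?_))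
  obtain ⟨hne, h''⟩ := Finset.mem_erase.1 h'
  exact huniq φ' (Finset.mem_filter.1 h'').2 hne

/-! ## Normal subgroups -/

/-- A character carried to the copy of the subgroup inside an overgroup. -/
noncomputable def toSub (h : V ≤ U) (φ : IrrCharacter V) : IrrCharacter (V.subgroupOf U) :=
  ⟨fun x => (φ : V → ℂ) (Subgroup.subgroupOfEquivOfLe h x),
    isIrrCharacter_comp_surjective φ.2 (Subgroup.subgroupOfEquivOfLe h).toMonoidHom
      (Subgroup.subgroupOfEquivOfLe h).surjective⟩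

theorem classInner_toSub (h : V ≤ U) [Fintype (V.subgroupOf U)] (f : U → ℂ) (φ : IrrCharacter V) :
    classInner (fun n : V.subgroupOf U => f n) (toSub h φ : V.subgroupOf U → ℂ) =
      classInner (res V f) (φ : V → ℂ) := by
  rw [← Char.classInner_equiv (Subgroup.subgroupOfEquivOfLe h) (res V f) (φ : V → ℂ)]
  refine congrArg₂ classInner (funext fun n => ?_) rfl
  rw [res_apply (show ((Subgroup.subgroupOfEquivOfLe h n : V) : G) ∈ U from (n : U).2)]
  exact congrArg f (Subtype.ext rfl)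

theorem classInner_toSub_mult (h : V ≤ U) [Fintype (V.subgroupOf U)] (χ : IrrCharacter U)
    (φ : IrrCharacter V) :
    classInner (fun n : V.subgroupOf U => (χ : U → ℂ) n) (toSub h φ : V.subgroupOf U → ℂ) =
      (mult χ φ : ℂ) := by
  rw [classInner_toSub h, mult_spec h]

theorem normal_subgroupOf (hn : U ≤ Subgroup.normalizer (V : Set G)) : (V.subgroupOf U).Normal :=
  ⟨fun _ hv u => conj_mem (hn u.2) hv⟩

theorem conjFun_toSub (h : V ≤ U) (hn : U ≤ Subgroup.normalizer (V : Set G))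
    [(V.subgroupOf U).Normal] (φ : IrrCharacter V) (u : U) :
    Char.conjFun (V.subgroupOf U) (toSub h φ : V.subgroupOf U → ℂ) u =
      fun x => (cjI (u : G)⁻¹ φ : V → ℂ) (Subgroup.subgroupOfEquivOfLe h x) := by
  funext x
  rw [cjI_coe (hn (inv_mem u.2)), cj_apply (hn (inv_mem u.2))]
  exact congrArg (φ : V → ℂ) (Subtype.ext (by simp))

theorem conjFun_toSub_eq_self (h : V ≤ U) (hn : U ≤ Subgroup.normalizer (V : Set G))
    [(V.subgroupOf U).Normal] {φ : IrrCharacter V} (hφ : Fixed U φ) (u : U) :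
    Char.conjFun (V.subgroupOf U) (toSub h φ : V.subgroupOf U → ℂ) u = toSub h φ := by
  rw [conjFun_toSub h hn, hφ _ (inv_mem u.2)]
  rfl

/-- An invariant constituent fills the restriction. -/
theorem res_eq_smul (h : V ≤ U) (hn : U ≤ Subgroup.normalizer (V : Set G)) {χ : IrrCharacter U}
    {φ : IrrCharacter V} (hφ : Fixed U φ) (hm : mult χ φ ≠ 0) :
    res V (χ : U → ℂ) = (mult χ φ : ℂ) • (φ : V → ℂ) := by
  haveI := normal_subgroupOf (U := U) (V := V) hn
  obtain ⟨e, -, he, hres⟩ := restrict_eq_smul_of_invariant (V.subgroupOf U) χ.2 (toSub h φ).2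
    (by rw [classInner_toSub_mult h]; exact_mod_cast hm) (conjFun_toSub_eq_self h hn hφ)
  rw [classInner_toSub_mult h, Nat.cast_inj] at he
  subst he
  funext v
  rw [res_apply (h v.2)]
  exact congrFun hres ((Subgroup.subgroupOfEquivOfLe h).symm v)

theorem mult_eq_zero_of_fixed (h : V ≤ U) (hn : U ≤ Subgroup.normalizer (V : Set G))
    {χ : IrrCharacter U} {φ φ' : IrrCharacter V} (hφ : Fixed U φ) (hm : mult χ φ ≠ 0)
    (hne : φ' ≠ φ) : mult χ φ' = 0 := by
  have h1 := mult_spec h χ φ'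
  rw [res_eq_smul h hn hφ hm, classInner_smul_left, classInner_irr_ne hne.symm, mul_zero] at h1
  exact_mod_cast h1.symm

theorem deg_eq_mult_mul (h : V ≤ U) (hn : U ≤ Subgroup.normalizer (V : Set G))
    {χ : IrrCharacter U} {φ : IrrCharacter V} (hφ : Fixed U φ) (hm : mult χ φ ≠ 0) :
    deg χ = mult χ φ * deg φ := by
  rw [deg_eq_sum h χ, Finset.sum_eq_single φ
    (fun φ' _ hne => by rw [mult_eq_zero_of_fixed h hn hφ hm hne, zero_mul]) (by simp)]

theorem ext_of_mult_one (h : V ≤ U) (hn : U ≤ Subgroup.normalizer (V : Set G)) {χ : IrrCharacter U}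
    {φ : IrrCharacter V} (hφ : Fixed U φ) (hm : mult χ φ = 1) : Ext χ φ := by
  show res V _ = _
  rw [res_eq_smul h hn hφ (by omega), hm, Nat.cast_one, one_smul]

theorem Ext.fixed (hVU : V ≤ U) (hn : U ≤ Subgroup.normalizer (V : Set G)) {χ : IrrCharacter U}
    {φ : IrrCharacter V} (h : Ext χ φ) : Fixed U φ :=
  fun x hx => h.cjI_eq hVU (Subgroup.le_normalizer hx) (hn hx) (cjI_of_mem hx χ)

/-- Constituents of a restriction to a normal subgroup are conjugate. -/
theorem exists_conj (h : V ≤ U) (hn : U ≤ Subgroup.normalizer (V : Set G)) {χ : IrrCharacter U}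
    {φ φ' : IrrCharacter V} (h1 : mult χ φ ≠ 0) (h2 : mult χ φ' ≠ 0) :
    ∃ u ∈ U, cjI u φ = φ' := by
  haveI := normal_subgroupOf (U := U) (V := V) hn
  by_contra hno
  push Not at hno
  apply h2
  have hz := classInner_restrict_zero (V.subgroupOf U) χ.2 (toSub h φ).2 (toSub h φ').2
    (by rw [classInner_toSub_mult h]; exact_mod_cast h1) (fun u e => hno _ (inv_mem u.2) (Subtype.ext
      (funext fun v => by
        have := congrFun e ((Subgroup.subgroupOfEquivOfLe h).symm v)
        rw [conjFun_toSub h hn] at this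
        simpa [toSub] using this)))
  rw [classInner_toSub_mult h] at hz
  exact_mod_cast hz

theorem deg_dvd (h : V ≤ U) (hn : U ≤ Subgroup.normalizer (V : Set G)) {χ : IrrCharacter U}
    {φ : IrrCharacter V} (hm : mult χ φ ≠ 0) :
    ∃ e : ℕ, deg χ = deg φ * e ∧ e ∣ V.relIndex U := by
  classical
  haveI := normal_subgroupOf (U := U) (V := V) hn
  obtain ⟨e, he, hdvd, -⟩ := Block.NormalDefect.exists_ratio (G := U) χ (toSub h φ)
    (by rw [classInner_toSub_mult h]; exact_mod_cast hm)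
  refine ⟨e, ?_, hdvd⟩
  rw [deg, he]
  congr 1

theorem not_dvd_deg_below {p : ℕ} (h : V ≤ U) (hn : U ≤ Subgroup.normalizer (V : Set G))
    {χ : IrrCharacter U} {φ : IrrCharacter V} (hm : mult χ φ ≠ 0) (hp : ¬ p ∣ deg χ) :
    ¬ p ∣ deg φ := by
  obtain ⟨e, he, -⟩ := deg_dvd h hn hm
  exact fun hd => hp (he ▸ hd.mul_right e)

theorem not_dvd_deg_above {p : ℕ} (hp : p.Prime) (h : V ≤ U)
    (hn : U ≤ Subgroup.normalizer (V : Set G)) (hidx : ¬ p ∣ V.relIndex U) {χ : IrrCharacter U}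
    {φ : IrrCharacter V} (hm : mult χ φ ≠ 0) (hd : ¬ p ∣ deg φ) : ¬ p ∣ deg χ := by
  obtain ⟨e, he, hdvd⟩ := deg_dvd h hn hm
  rw [he]
  exact fun hx => (hp.dvd_mul.1 hx).elim hd fun h1 => hidx (h1.trans hdvd)

/-- The squares of the multiplicities over an invariant character. -/
theorem sum_sq_eq (h : V ≤ U) (hn : U ≤ Subgroup.normalizer (V : Set G)) {φ : IrrCharacter V}
    (hφ : Fixed U φ) : ∑ χ : IrrCharacter U, mult χ φ ^ 2 = V.relIndex U := by
  haveI := normal_subgroupOf (U := U) (V := V) hn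
  set N := V.subgroupOf U
  have h2 := congrFun (classFun_expand
    (isClassFunction_indFun N (toSub h φ : N → ℂ))) 1
  simp only [Finset.sum_apply, Pi.smul_apply, smul_eq_mul, Char.indFun_one] at h2
  have h3 : (toSub h φ : N → ℂ) 1 = (deg φ : ℂ) := by
    rw [← one_eq_deg φ]; simp [toSub]
  rw [h3, Finset.sum_congr rfl fun (χ : IrrCharacter U) _ => show
      classInner (indFun N (toSub h φ : N → ℂ)) (χ : U → ℂ) * (χ : U → ℂ) 1 =
        ((mult χ φ * deg χ : ℕ) : ℂ) by
    rw [classInner_indFun N _ _ (isClassFunction_irr χ), ← classInner_conj, classInner_toSub_mult h,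
      map_natCast, one_eq_deg, Nat.cast_mul]] at h2
  have h4 : V.relIndex U * deg φ = ∑ χ : IrrCharacter U, mult χ φ * deg χ := by
    exact_mod_cast h2
  refine Nat.eq_of_mul_eq_mul_right (deg_pos φ) ?_
  rw [h4, Finset.sum_mul]
  refine Finset.sum_congr rfl fun χ _ => ?_
  rcases eq_or_ne (mult χ φ) 0 with h0 | h0
  · simp [h0]
  · rw [deg_eq_mult_mul h hn hφ h0]
    ring

theorem exists_over (h : V ≤ U) (hn : U ≤ Subgroup.normalizer (V : Set G)) {φ : IrrCharacter V}
    (hφ : Fixed U φ) : ∃ χ : IrrCharacter U, mult χ φ ≠ 0 := by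
  have hpos : 0 < V.relIndex U := Nat.pos_of_ne_zero Subgroup.index_ne_zero_of_finite
  obtain ⟨χ, -, hχ⟩ := Finset.exists_ne_zero_of_sum_ne_zero
    ((sum_sq_eq h hn hφ).trans_ne hpos.ne')
  exact ⟨χ, fun h0 => hχ (by rw [h0]; rfl)⟩

/-- An invariant character extends over a cyclic quotient. -/
theorem exists_ext_cyclic (h : V ≤ U) (hn : U ≤ Subgroup.normalizer (V : Set G)) {x : G}
    (hx : x ∈ U) (hgen : U ≤ V ⊔ Subgroup.zpowers x) {φ : IrrCharacter V}
    (hφ : cjI x φ = φ) : ∃ χ : IrrCharacter U, Ext χ φ := by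
  haveI := normal_subgroupOf (U := U) (V := V) hn
  have htop : V.subgroupOf U ⊔ Subgroup.zpowers (⟨x, hx⟩ : U) = ⊤ := by
    refine top_unique fun u _ => ?_
    have hu : (u : G) ∈ V ⊔ Subgroup.zpowers x := hgen u.2
    have hle : V ⊔ Subgroup.zpowers x ≤
        (V.subgroupOf U ⊔ Subgroup.zpowers (⟨x, hx⟩ : U)).map U.subtype := by
      refine sup_le (fun v hv => ⟨⟨v, h hv⟩, Subgroup.mem_sup_left hv, rfl⟩) ?_
      rw [Subgroup.zpowers_le]
      exact ⟨⟨x, hx⟩, Subgroup.mem_sup_right (Subgroup.mem_zpowers _), rfl⟩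
    obtain ⟨w, hw, e⟩ := hle hu
    rwa [show w = u from Subtype.ext e] at hw
  obtain ⟨α, hα⟩ := Block.CyclicCoset.exists_extension (K := V.subgroupOf U) htop (toSub h φ)
    fun k => by
      have hx' : cjI x⁻¹ φ = φ := by
        conv_lhs => rw [← hφ]
        exact cjI_inv_cancel (hn hx) φ
      have h1 := congrFun (conjFun_toSub h hn φ (⟨x, hx⟩ : U)) k
      rw [show ((⟨x, hx⟩ : U) : G) = x from rfl, hx'] at h1
      exact h1
  refine ⟨α, funext fun v => ?_⟩
  rw [res_apply (h v.2)]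
  exact hα ((Subgroup.subgroupOfEquivOfLe h).symm v)

end CfsgLib.Char.RelMcKay
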