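import Cfsg.Agent.Lib.Char.RelMcKay.Glauberman
import Cfsg.Agent.Lib.Coprime.FpfAction
import Cfsg.Agent.Lib.Fusion.PComplement

/-!
# Extendibility commutes with the relative Glauberman correspondence

`W` acts on `K` and on `P`, has order prime to `p` and is abelian modulo the fixed points `C`.  Then
`θ` extends to `KW` exactly when its correspondent extends to `W`.
-/

set_option autoImplicit false
set_option linter.unusedSectionVars false
set_option linter.style.haveILetI false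

namespace CfsgLib.Char.RelMcKay

open scoped ComplexConjugate commutatorElement
open Cfsg CfsgLib CfsgLib.Char

universe u

variable {G : Type u} [Group G] [Finite G]

noncomputable local instance instFinSub4 (A : Subgroup G) : Fintype A := Fintype.ofFinite _

noncomputable local instance instFinIrr4 (A : Subgroup G) : Fintype (IrrCharacter A) :=
  Fintype.ofFinite _

/-- `θ` extends to `U`. -/
def ExtTo {V : Subgroup G} (θ : IrrCharacter V) (U : Subgroup G) : Prop :=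
  ∃ χ : IrrCharacter U, Ext χ θ

theorem Ext.middle {U W V : Subgroup G} (hVW : V ≤ W) (hWU : W ≤ U) {χ : IrrCharacter U}
    {φ : IrrCharacter V} (h : Ext χ φ) : ∃ ω : IrrCharacter W, Ext χ ω ∧ Ext ω φ := by
  classical
  obtain ⟨ω, h1, h2⟩ := exists_mult_between hVW hWU
    (show mult χ φ ≠ 0 by rw [h.mult_eq_one (hVW.trans hWU)]; exact one_ne_zero)
  have hd := h.deg_eq (hVW.trans hWU)
  have hω : deg φ ≤ deg ω := by
    rw [deg_eq_sum hVW ω]
    exact (Nat.le_mul_of_pos_left _ (Nat.pos_of_ne_zero h2)).trans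
      (Finset.single_le_sum (f := fun φ' => mult ω φ' * deg φ') (fun _ _ => Nat.zero_le _)
        (Finset.mem_univ φ))
  have hexp := deg_eq_sum hWU χ
  rw [← Finset.add_sum_erase _ _ (Finset.mem_univ ω)] at hexp
  have h5 : deg ω ≤ mult χ ω * deg ω := Nat.le_mul_of_pos_left _ (Nat.pos_of_ne_zero h1)
  have hm1 : mult χ ω = 1 :=
    le_antisymm (Nat.le_of_mul_le_mul_right (show mult χ ω * deg ω ≤ 1 * deg ω by omega) (deg_pos ω))
      (Nat.one_le_iff_ne_zero.2 h1)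
  have hrest : ∑ φ' ∈ Finset.univ.erase ω, mult χ φ' * deg φ' = 0 := by omega
  have hres : Ext χ ω := by
    show res W (χ : U → ℂ) = _
    rw [res_expand hWU, Finset.sum_eq_single ω (fun φ' _ hne => by
      rw [(Nat.mul_eq_zero.1 (Finset.sum_eq_zero_iff.1 hrest φ'
        (Finset.mem_erase.2 ⟨hne, Finset.mem_univ _⟩))).resolve_right (deg_pos φ').ne',
        Nat.cast_zero, zero_smul]) (by simp), hm1, Nat.cast_one, one_smul]
  refine ⟨ω, hres, ?_⟩
  show res V (ω : W → ℂ) = _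
  rw [← show res W (χ : U → ℂ) = _ from hres, res_res hVW]
  exact h

theorem extTo_iff_cyclic {V U T : Subgroup G} (hVU : V ≤ U) (hUT : U ≤ T)
    (hn : T ≤ Subgroup.normalizer (U : Set G)) {x : G} (hx : x ∈ T)
    (hgen : T ≤ U ⊔ Subgroup.zpowers x) (θ : IrrCharacter V) :
    ExtTo θ T ↔ ∃ χ : IrrCharacter U, Ext χ θ ∧ cjI x χ = χ := by
  constructor
  · rintro ⟨ψ, hψ⟩
    obtain ⟨χ, h1, h2⟩ := hψ.middle hVU hUT
    exact ⟨χ, h2, h1.fixed hUT hn x hx⟩
  · rintro ⟨χ, h1, h2⟩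
    obtain ⟨ψ, hψ⟩ := exists_ext_cyclic hUT hn hx hgen h2
    exact ⟨ψ, hψ.trans hVU h1⟩

/-- An injective family over `φ` of the size of the index consists of all characters over `φ`,
all extensions. -/
theorem all_ext_of_inj {U V : Subgroup G} (hVU : V ≤ U) (hn : U ≤ Subgroup.normalizer (V : Set G))
    {φ : IrrCharacter V} (hφ : Fixed U φ) {ι : Type*} [Finite ι] (f : ι → IrrCharacter U)
    (hinj : Function.Injective f) (hcard : Nat.card ι = V.relIndex U) (hm : ∀ i, mult (f i) φ ≠ 0) :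
    (∀ i, Ext (f i) φ) ∧ ∀ χ : IrrCharacter U, mult χ φ ≠ 0 → ∃ i, f i = χ := by
  classical
  haveI := Fintype.ofFinite ι
  set S := Finset.univ.image f
  have hS : S.card = V.relIndex U := by
    rw [Finset.card_image_of_injective _ hinj, Finset.card_univ, ← Nat.card_eq_fintype_card, hcard]
  have hsum := sum_sq_eq hVU hn hφ
  rw [← Finset.sum_add_sum_compl S] at hsum
  have hge : ∀ χ ∈ S, 1 ≤ mult χ φ ^ 2 := fun χ hχ => by
    obtain ⟨i, -, rfl⟩ := Finset.mem_image.1 hχ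
    exact Nat.one_le_pow _ _ (Nat.pos_of_ne_zero (hm i))
  have h1 : ∑ χ ∈ S, 1 ≤ ∑ χ ∈ S, mult χ φ ^ 2 := Finset.sum_le_sum hge
  rw [Finset.sum_const, smul_eq_mul, mul_one, hS] at h1
  have hout : ∑ χ ∈ Sᶜ, mult χ φ ^ 2 = 0 := by omega
  have hin : ∑ χ ∈ S, mult χ φ ^ 2 = ∑ χ ∈ S, 1 := by
    rw [Finset.sum_const, smul_eq_mul, mul_one, hS]; omega
  refine ⟨fun i => ext_of_mult_one hVU hn hφ ?_, fun χ hχ => ?_⟩
  · have := (Finset.sum_eq_sum_iff_of_le hge).1 hin.symm (f i)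
      (Finset.mem_image_of_mem f (Finset.mem_univ i))
    exact (pow_eq_one_iff.1 this.symm).resolve_right two_ne_zero
  · by_contra hno
    push Not at hno
    have hmem : χ ∈ Sᶜ := Finset.mem_compl.2 fun hc => by
      obtain ⟨i, -, hi⟩ := Finset.mem_image.1 hc
      exact hno i hi
    exact hχ (pow_eq_zero_iff two_ne_zero |>.1 (Finset.sum_eq_zero_iff.1 hout χ hmem))

/-- A twist fixing an irreducible character with irreducible restriction is trivial. -/
theorem linMul_eq_self {U V : Subgroup G} [(V.subgroupOf U).Normal] (hVU : V ≤ U)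
    {χ : IrrCharacter U} {φ : IrrCharacter V} (h : Ext χ φ) {f : U →* ℂˣ}
    (hf : f ∈ linearOver (V.subgroupOf U)) (he : linMul f χ = χ) : f = 1 := by
  refine MonoidHom.ext fun g => ?_
  have hres : IsIrrCharacter (V.subgroupOf U) (fun n : V.subgroupOf U => (χ : U → ℂ) n) := by
    rw [show (fun n : V.subgroupOf U => (χ : U → ℂ) n) = (toSub hVU φ : V.subgroupOf U → ℂ) from
      funext fun n => by
        rw [show (toSub hVU φ : V.subgroupOf U → ℂ) n =
          (φ : V → ℂ) (Subgroup.subgroupOfEquivOfLe hVU n) from rfl,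
          ← show res V (χ : U → ℂ) = _ from h,
          res_apply (show ((Subgroup.subgroupOfEquivOfLe hVU n : V) : G) ∈ U from (n : U).2)]
        exact congrArg _ (Subtype.ext rfl)]
    exact (toSub hVU φ).2
  have h1 := congrFun (cosetAvg_self_eq_one (V.subgroupOf U) χ hres) g
  obtain ⟨n, hn⟩ : ∃ n : V.subgroupOf U, (χ : U → ℂ) ((n : U) * g) ≠ 0 := by
    by_contra hno
    push Not at hno
    simp [cosetAvg, hno] at h1
  have h2 := congrFun (congrArg Subtype.val he) ((n : U) * g)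
  have h3 : (f ((n : U) * g) : ℂ) = 1 := by
    refine mul_right_cancel₀ hn ?_
    rw [one_mul]
    exact h2
  rw [map_mul, hf _ n.2, one_mul] at h3
  exact Units.ext h3

/-- A `p`-element modulo `L` centralizing `U` modulo `V` fixes every extension of a fixed
character. -/
theorem fixed_of_ext {p : ℕ} [hp : Fact p.Prime] {L U V : Subgroup G} (hLU : L ≤ U) (hVU : V ≤ U)
    (hn : U ≤ Subgroup.normalizer (V : Set G)) (hcop : ¬ p ∣ V.relIndex U)
    (hab : ∀ a ∈ U, ∀ b ∈ U, a * b * a⁻¹ * b⁻¹ ∈ V) {d : G}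
    (hdU : d ∈ Subgroup.normalizer (U : Set G)) (hdV : d ∈ Subgroup.normalizer (V : Set G))
    (hdc : ∀ u ∈ U, d⁻¹ * u * d * u⁻¹ ∈ V) (hdk : ∃ k : ℕ, d ^ p ^ k ∈ L)
    {χ : IrrCharacter U} {φ : IrrCharacter V} (he : Ext χ φ) (hd : cjI d φ = φ) : cjI d χ = χ := by
  haveI := normal_subgroupOf (U := U) (V := V) hn
  have he' : Ext (cjI d χ) φ := by
    have := he.cjI hVU hdU hdV
    rwa [hd] at this
  obtain ⟨f, hf, hfe⟩ := exists_linMul_eq (V.subgroupOf U)
    (fun a b => Subgroup.mem_subgroupOf.2 (by simpa using hab a a.2 b b.2))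
    (χ := χ) (χ' := cjI d χ) (θ := toSub hVU φ)
    (by rw [classInner_toSub_mult hVU, he.mult_eq_one hVU]; exact Nat.cast_ne_zero.mpr one_ne_zero)
    (by rw [classInner_toSub_mult hVU, he'.mult_eq_one hVU]; exact Nat.cast_ne_zero.mpr one_ne_zero)
  have hfd : ∀ u : U, f ⟨d⁻¹ * u * d, inv_conj_mem hdU u.2⟩ = f u := fun u => by
    rw [← mul_inv_eq_one, ← map_inv, ← map_mul]
    exact hf _ (Subgroup.mem_subgroupOf.2 (by simpa using hdc u u.2))
  have hpow : ∀ i : ℕ, cjI (d ^ i) χ = linMul (f ^ i) χ := by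
    intro i
    induction i with
    | zero =>
      rw [pow_zero, cjI_one]
      exact Subtype.ext (funext fun u => by simp [linMul])
    | succ i ih =>
      rw [pow_succ', cjI_mul hdU (pow_mem hdU i), ih]
      refine Subtype.ext (funext fun u => ?_)
      rw [cjI_coe hdU, cj_apply hdU]
      show ((f ^ i) ⟨d⁻¹ * u * d, _⟩ : ℂ) * (χ : U → ℂ) _ = ((f ^ (i + 1)) u : ℂ) * (χ : U → ℂ) u
      rw [← cj_apply hdU (χ : U → ℂ) u, ← cjI_coe hdU, ← hfe]
      show _ * ((f u : ℂ) * (χ : U → ℂ) u) = _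
      rw [MonoidHom.pow_apply, MonoidHom.pow_apply, hfd, pow_succ]
      push_cast
      ring
  obtain ⟨k, hk⟩ := hdk
  have h1 : f ^ p ^ k = 1 := by
    refine linMul_eq_self hVU he (Subgroup.pow_mem _ hf _) ?_
    rw [← hpow, cjI_of_mem (hLU hk)]
  have h2 : f ^ V.relIndex U = 1 := MonoidHom.ext fun u => by
    rw [MonoidHom.pow_apply, MonoidHom.one_apply, ← map_pow]
    exact hf _ ((V.subgroupOf U).pow_index_mem u)
  have hc : Nat.Coprime (p ^ k) (V.relIndex U) :=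
    ((hp.out.coprime_iff_not_dvd).2 hcop).pow_left k
  have hf1 : f = 1 := by
    refine MonoidHom.ext fun u => ?_
    have e1 : f u ^ p ^ k = 1 := by rw [← MonoidHom.pow_apply, h1, MonoidHom.one_apply]
    have e2 : f u ^ V.relIndex U = 1 := by rw [← MonoidHom.pow_apply, h2, MonoidHom.one_apply]
    have := pow_gcd_eq_one.2 (⟨e1, e2⟩ : f u ^ p ^ k = 1 ∧ f u ^ V.relIndex U = 1)
    rwa [hc.gcd_eq_one, pow_one] at this
  rw [← hfe, hf1]
  exact Subtype.ext (funext fun u => by simp [linMul])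

theorem inf_le_of_coprime {p : ℕ} [hp : Fact p.Prime] {L K P : Subgroup G} [L.Normal]
    (hcop : ¬ p ∣ L.relIndex K) (hPQ : PMod p L P) : K ⊓ P ≤ L := by
  intro z hz
  obtain ⟨hzK, hzP⟩ := Subgroup.mem_inf.1 hz
  obtain ⟨k, hk⟩ := hPQ z hzP
  have h1 : ((z : G ⧸ L)) ^ p ^ k = 1 := by
    rw [← QuotientGroup.mk_pow, QuotientGroup.eq_one_iff]; exact hk
  have h2 : ((z : G ⧸ L)) ^ L.relIndex K = 1 := by
    rw [← QuotientGroup.mk_pow, QuotientGroup.eq_one_iff]
    exact (L.subgroupOf K).pow_index_mem (⟨z, hzK⟩ : K)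
  have := pow_gcd_eq_one.2 (⟨h1, h2⟩ : (z : G ⧸ L) ^ p ^ k = 1 ∧ _)
  rw [(((hp.out.coprime_iff_not_dvd).2 hcop).pow_left k).gcd_eq_one, pow_one] at this
  exact (QuotientGroup.eq_one_iff z).1 this

/-- A minimal `W`-invariant normal subgroup of `P` acting nontrivially on `K`, with the cyclic
image of `W`. -/
theorem exists_irreducible_section {p : ℕ} [hp : Fact p.Prime] {L K P W C : Subgroup G} [L.Normal]
    (hLK : L ≤ K) (hLP : L ≤ P) (hPQ : PMod p L P) (hPK : P ≤ Subgroup.normalizer (K : Set G))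
    (hWK : W ≤ Subgroup.normalizer (K : Set G)) (hWP : W ≤ Subgroup.normalizer (P : Set G))
    (hC : C = fixMod L K P) (hCW : C ≤ W)
    (hab : ∀ a ∈ W, ∀ b ∈ W, a * b * a⁻¹ * b⁻¹ ∈ C) (hcW : ¬ p ∣ L.relIndex W) (hne : C ≠ K) :
    ∃ E W₀ : Subgroup G, L ≤ E ∧ E ≤ P ∧ W ≤ Subgroup.normalizer (E : Set G) ∧
      P ≤ Subgroup.normalizer (E : Set G) ∧ fixMod L K E ≠ K ∧ C ≤ W₀ ∧ W₀ ≤ W ∧
      W ≤ Subgroup.normalizer (W₀ : Set G) ∧
      (∀ w ∈ W₀, ∀ e ∈ E, e * w * e⁻¹ * w⁻¹ ∈ fixMod L E K) ∧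
      ∃ x ∈ W, W ≤ W₀ ⊔ Subgroup.zpowers x := by
  classical
  let Es : Set (Subgroup G) := {E | L ≤ E ∧ E ≤ P ∧ W ≤ Subgroup.normalizer (E : Set G) ∧
    P ≤ Subgroup.normalizer (E : Set G) ∧ fixMod L K E ≠ K}
  haveI : Finite (Subgroup G) := Finite.of_injective _ SetLike.coe_injective
  have hmem : P ∈ Es := ⟨hLP, le_rfl, hWP, Subgroup.le_normalizer, hC ▸ hne⟩
  obtain ⟨E, hEmin⟩ := (Set.toFinite Es).exists_minimal ⟨P, hmem⟩
  obtain ⟨hLE, hEP, hWE, hPE, hEne⟩ := hEmin.prop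
  set E₀ := fixMod L E K
  have hWE₀ : W ≤ Subgroup.normalizer (E₀ : Set G) := le_normalizer_fixMod hWE hWK
  have hPE₀ : P ≤ Subgroup.normalizer (E₀ : Set G) := le_normalizer_fixMod hPE hPK
  have hfix_of : ∀ D : Subgroup G, D ≤ E₀ → fixMod L K D = K := fun D hD =>
    le_antisymm (fixMod_le _ _ _) fun k hk => mem_fixMod.2 ⟨hk, fun d hd =>
      ((mem_fixMod.1 (hD hd)).2 k hk).symm⟩
  have hsmall : ∀ D : Subgroup G, L ≤ D → D ≤ E → W ≤ Subgroup.normalizer (D : Set G) →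
      P ≤ Subgroup.normalizer (D : Set G) → D = E ∨ D ≤ E₀ := by
    intro D h1 h2 h3 h4
    by_cases hD : fixMod L K D = K
    · refine Or.inr fun d hd => mem_fixMod.2 ⟨h2 hd, fun k hk => ?_⟩
      exact ((mem_fixMod.1 (hD.ge hk)).2 d hd).symm
    · exact Or.inl (le_antisymm h2 (hEmin.2 ⟨h1, h2.trans hEP, h3, h4, hD⟩ h2))
  -- `[E, P]` centralizes `K`
  have hEP0 : ⁅E, P⁆ ≤ E₀ := by
    set E' := ⁅E, P⁆ ⊔ L
    have hcomm : ⁅E, P⁆ ≤ E := Subgroup.commutator_le.2 fun e he q hq => by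
      rw [commutatorElement_def, mul_assoc e, mul_assoc e]
      refine E.mul_mem he ?_
      exact conj_mem (hPE hq) (inv_mem he)
    have hnorm : ∀ A : Subgroup G, A ≤ Subgroup.normalizer (E : Set G) →
        A ≤ Subgroup.normalizer (P : Set G) → A ≤ Subgroup.normalizer (E' : Set G) := by
      intro A h1 h2
      refine CfsgLib.Coprime.sup_le_normalizer (fun a ha => ?_)
        (Subgroup.normalizer_eq_top L ▸ le_top)
      rw [← CfsgLib.Coprime.conjBy_eq_self_iff, CfsgLib.Coprime.conjBy, Subgroup.map_commutator,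
        show E.map (MulAut.conj a).toMonoidHom = E from CfsgLib.Coprime.conjBy_eq_self_iff.2 (h1 ha),
        show P.map (MulAut.conj a).toMonoidHom = P from CfsgLib.Coprime.conjBy_eq_self_iff.2 (h2 ha)]
    rcases hsmall E' le_sup_right (sup_le hcomm hLE) (hnorm W hWE hWP)
      (hnorm P hPE Subgroup.le_normalizer) with h | h
    · exfalso
      have hQ : IsPGroup p (P.map (QuotientGroup.mk' L)) := by
        rintro ⟨_, y, hy, rfl⟩
        obtain ⟨k, hk⟩ := hPQ y hy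
        exact ⟨k, Subtype.ext (by
          rw [Subgroup.coe_pow, ← map_pow]; exact (QuotientGroup.eq_one_iff _).2 hk)⟩
      haveI := hQ.isNilpotent
      have hbot := Fusion.eq_bot_of_le_commutator (A := E.map (QuotientGroup.mk' L))
        (P := P.map (QuotientGroup.mk' L)) (Subgroup.map_mono hEP) (by
          rw [← Subgroup.map_commutator]
          conv_lhs => rw [← h]
          rw [Subgroup.map_sup, QuotientGroup.map_mk'_self, sup_bot_eq])
      refine hEne (le_antisymm (fixMod_le _ _ _) fun k hk => mem_fixMod.2 ⟨hk, fun e he => ?_⟩)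
      have : (e : G ⧸ L) = 1 := by
        have := Subgroup.mem_map_of_mem (QuotientGroup.mk' L) he
        rw [hbot, Subgroup.mem_bot] at this
        exact this
      rw [this]
      exact Commute.one_left _
    · exact le_sup_left.trans h
  have hsmall' : ∀ D : Subgroup G, E₀ ≤ D → D ≤ E → W ≤ Subgroup.normalizer (D : Set G) →
      D = E ∨ D = E₀ := by
    intro D h1 h2 h3
    refine (hsmall D ((le_fixMod hLE).trans h1) h2 h3 fun q hq => ?_).imp_right
      fun h => le_antisymm h h1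
    rw [Subgroup.mem_normalizer_iff]
    have key : ∀ q ∈ P, ∀ d ∈ D, q * d * q⁻¹ ∈ D := fun q hq d hd => by
      have h5 : ⁅d, q⁆ ∈ D := h1 (hEP0 (Subgroup.commutator_mem_commutator (h2 hd) hq))
      have e2 : q * d * q⁻¹ = ⁅d, q⁆⁻¹ * d := by rw [commutatorElement_def]; group
      rw [e2]
      exact D.mul_mem (inv_mem h5) hd
    refine fun d => ⟨key q hq d, fun hd => ?_⟩
    have := key q⁻¹ (inv_mem hq) _ hd
    simpa [mul_assoc] using this
  -- the kernel on `E / E₀`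
  let W₀ : Subgroup G :=
    { carrier := {w | w ∈ W ∧ ∀ e ∈ E, e * w * e⁻¹ * w⁻¹ ∈ E₀}
      one_mem' := ⟨one_mem _, fun e _ => by simp⟩
      mul_mem' := fun {a b} ha hb => ⟨mul_mem ha.1 hb.1, fun e he => by
        have e1 : e * (a * b) * e⁻¹ * (a * b)⁻¹ =
            (e * a * e⁻¹ * a⁻¹) * (a * (e * b * e⁻¹ * b⁻¹) * a⁻¹) := by group
        rw [e1]
        exact mul_mem (ha.2 e he) (conj_mem (hWE₀ ha.1) (hb.2 e he))⟩
      inv_mem' := fun {a} ha => ⟨inv_mem ha.1, fun e he => by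
        have e1 : e * a⁻¹ * e⁻¹ * a⁻¹⁻¹ = a⁻¹ * (e * a * e⁻¹ * a⁻¹)⁻¹ * a := by group
        rw [e1]
        exact inv_conj_mem (hWE₀ ha.1) (inv_mem (ha.2 e he))⟩ }
  have hW₀W : W₀ ≤ W := fun w hw => hw.1
  have hCW₀ : C ≤ W₀ := fun c hc => ⟨hCW hc, fun e he => le_fixMod hLE
    (commute_mk_iff.1 ((mem_fixMod.1 (hC ▸ hc)).2 e (hEP he)))⟩
  have hW₀n : W ≤ Subgroup.normalizer (W₀ : Set G) := by
    have key : ∀ w ∈ W, ∀ v ∈ W₀, w * v * w⁻¹ ∈ W₀ := fun w hw v hv => by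
      have := mul_mem (hCW₀ (hab w hw v hv.1)) hv
      rwa [inv_mul_cancel_right] at this
    intro w hw
    rw [Subgroup.mem_normalizer_iff]
    refine fun v => ⟨key w hw v, fun hv => ?_⟩
    have := key w⁻¹ (inv_mem hw) _ hv
    simpa [mul_assoc] using this
  refine ⟨E, W₀, hLE, hEP, hWE, hPE, hEne, hCW₀, hW₀W, hW₀n, fun w hw => hw.2, ?_⟩
  -- `W / W₀` acts fixed point freely on `E / E₀`
  set M := W₀ ⊔ E₀
  have hEW₀ : W₀ ≤ Subgroup.normalizer (E₀ : Set G) := hW₀W.trans hWE₀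
  have hEE₀ : E ≤ Subgroup.normalizer (E₀ : Set G) := hEP.trans hPE₀
  have hWM : W ≤ Subgroup.normalizer (M : Set G) := CfsgLib.Coprime.sup_le_normalizer hW₀n hWE₀
  have hEM : E ≤ Subgroup.normalizer (M : Set G) := by
    have key : ∀ e ∈ E, ∀ m ∈ M, e * m * e⁻¹ ∈ M := by
      intro e he m hm
      obtain ⟨a, ha, b, hb, rfl⟩ := CfsgLib.Coprime.mem_sup_exists hEW₀ (sup_comm W₀ E₀ ▸ hm : m ∈ E₀ ⊔ W₀)
      have e1 : e * (a * b) * e⁻¹ = (e * a * e⁻¹) * ((e * b * e⁻¹ * b⁻¹) * b) := by group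
      rw [e1]
      exact mul_mem (Subgroup.mem_sup_right (conj_mem (hEE₀ he) ha))
        (mul_mem (Subgroup.mem_sup_right (hb.2 e he)) (Subgroup.mem_sup_left hb))
    intro e he
    rw [Subgroup.mem_normalizer_iff]
    refine fun m => ⟨key e he m, fun hm => ?_⟩
    have := key e⁻¹ (inv_mem he) _ hm
    simpa [mul_assoc] using this
  have hWP' : W ⊓ P ≤ L := inf_le_of_coprime hcW hPQ
  have hEMle : E ⊓ M ≤ E₀ := by
    intro z hz
    obtain ⟨hzE, hzM⟩ := Subgroup.mem_inf.1 hz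
    obtain ⟨a, ha, b, hb, rfl⟩ := CfsgLib.Coprime.mem_sup_exists hEW₀ (sup_comm W₀ E₀ ▸ hzM : z ∈ E₀ ⊔ W₀)
    refine mul_mem ha (le_fixMod hLE (hWP' ⟨hW₀W hb, hEP ?_⟩))
    have := mul_mem (inv_mem (fixMod_le L E K ha)) hzE
    rwa [inv_mul_cancel_left] at this
  have hWMle : W ⊓ M ≤ W₀ := by
    intro z hz
    obtain ⟨hzW, hzM⟩ := Subgroup.mem_inf.1 hz
    obtain ⟨a, ha, b, hb, rfl⟩ := CfsgLib.Coprime.mem_sup_exists hEW₀ (sup_comm W₀ E₀ ▸ hzM : z ∈ E₀ ⊔ W₀)
    refine mul_mem (hCW₀ (hC ▸ le_fixMod hLK (hWP' ⟨?_, hEP (fixMod_le L E K ha)⟩))) hb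
    have := mul_mem hzW (inv_mem (hW₀W hb))
    rwa [mul_inv_cancel_right] at this
  set N := Subgroup.normalizer (M : Set G)
  haveI : (M.subgroupOf N).Normal := ⟨fun m hm n => conj_mem n.2 hm⟩
  set π := QuotientGroup.mk' (M.subgroupOf N)
  set A := (W.subgroupOf N).map π with hA
  set V := (E.subgroupOf N).map π with hV
  have hπ : ∀ {a b : N}, π a = π b ↔ (a : G)⁻¹ * b ∈ M := by
    intro a b
    rw [QuotientGroup.mk'_apply, QuotientGroup.mk'_apply, QuotientGroup.eq, Subgroup.mem_subgroupOf]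
    simp
  haveI : IsMulCommutative A := by
    refine ⟨⟨fun s t => ?_⟩⟩
    obtain ⟨_, a, ha, rfl⟩ := s
    obtain ⟨_, b, hb, rfl⟩ := t
    refine Subtype.ext ?_
    show π a * π b = π b * π a
    rw [← map_mul, ← map_mul, hπ]
    have := hab (b : G)⁻¹ (inv_mem hb) (a : G)⁻¹ (inv_mem ha)
    have := Subgroup.mem_sup_left (T := E₀) (hCW₀ this)
    simpa [mul_assoc] using this
  have hAV : A ≤ Subgroup.normalizer (V : Set (N ⧸ M.subgroupOf N)) := by
    have key : ∀ a : N, (a : G) ∈ W → ∀ v ∈ V, π a * v * (π a)⁻¹ ∈ V := by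
      rintro a ha _ ⟨e, he, rfl⟩
      exact ⟨a * e * a⁻¹, conj_mem (hWE ha) he, by simp⟩
    rintro _ ⟨a, ha, rfl⟩
    rw [Subgroup.mem_normalizer_iff]
    refine fun v => ⟨key a ha v, fun hv => ?_⟩
    have := key a⁻¹ (inv_mem ha) _ hv
    simpa [map_inv, mul_assoc] using this
  have hfpf : CfsgLib.Coprime.IsFpfOn A V := by
    rintro _ ⟨a, ha, rfl⟩ ha1
    rw [eq_bot_iff]
    rintro _ ⟨⟨v, hv, rfl⟩, hvc⟩
    rw [Subgroup.mem_bot]
    by_contra hv1
    -- the fixed points of `a` on `E / E₀` form an invariant subgroup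
    have ha' : (a : G) ∈ W := ha
    let D : Subgroup G :=
      { carrier := {e | e ∈ E ∧ (a : G) * e * (a : G)⁻¹ * e⁻¹ ∈ E₀}
        one_mem' := ⟨one_mem _, by simp⟩
        mul_mem' := fun {s t} hs ht => ⟨mul_mem hs.1 ht.1, by
          have e1 : (a : G) * (s * t) * (a : G)⁻¹ * (s * t)⁻¹ = ((a : G) * s * (a : G)⁻¹ * s⁻¹) *
              (s * ((a : G) * t * (a : G)⁻¹ * t⁻¹) * s⁻¹) := by group
          rw [e1]
          exact mul_mem hs.2 (conj_mem (hEE₀ hs.1) ht.2)⟩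
        inv_mem' := fun {s} hs => ⟨inv_mem hs.1, by
          have e1 : (a : G) * s⁻¹ * (a : G)⁻¹ * s⁻¹⁻¹ =
              s⁻¹ * ((a : G) * s * (a : G)⁻¹ * s⁻¹)⁻¹ * s := by group
          rw [e1]
          exact inv_conj_mem (hEE₀ hs.1) (inv_mem hs.2)⟩ }
    have hE₀D : E₀ ≤ D := fun e he => ⟨fixMod_le L E K he,
      mul_mem (conj_mem (hWE₀ ha') he) (inv_mem he)⟩
    have hWD : W ≤ Subgroup.normalizer (D : Set G) := by
      have key : ∀ w ∈ W, ∀ e ∈ D, w * e * w⁻¹ ∈ D := by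
        intro w hw e he
        refine ⟨conj_mem (hWE hw) he.1, ?_⟩
        set c := w⁻¹ * (a : G) * w * (a : G)⁻¹
        have hc : c ∈ C := by
          have := hab w⁻¹ (inv_mem hw) a ha'
          simpa [c] using this
        have he' : (a : G) * e * (a : G)⁻¹ ∈ E := conj_mem (hWE ha') he.1
        have hcc : c * ((a : G) * e * (a : G)⁻¹) * c⁻¹ * ((a : G) * e * (a : G)⁻¹)⁻¹ ∈ E₀ :=
          le_fixMod hLE (commute_mk_iff.1 (((mem_fixMod.1 (hC ▸ hc)).2 _ (hEP he')).symm))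
        have e1 : (a : G) * (w * e * w⁻¹) * (a : G)⁻¹ * (w * e * w⁻¹)⁻¹ =
            w * ((c * ((a : G) * e * (a : G)⁻¹) * c⁻¹ * ((a : G) * e * (a : G)⁻¹)⁻¹) *
              ((a : G) * e * (a : G)⁻¹ * e⁻¹)) * w⁻¹ := by
          simp only [c]; group
        rw [e1]
        exact conj_mem (hWE₀ hw) (mul_mem hcc he.2)
      intro w hw
      rw [Subgroup.mem_normalizer_iff]
      refine fun e => ⟨key w hw e, fun he => ?_⟩
      have := key w⁻¹ (inv_mem hw) _ he
      simpa [mul_assoc] using this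
    rcases hsmall' D hE₀D (fun e he => he.1) hWD with hD | hD
    · refine ha1 ?_
      rw [← map_one π, hπ]
      have hW₀ : (a : G)⁻¹ ∈ W₀ := by
        refine inv_mem (show (a : G) ∈ W₀ from ⟨ha', fun e he => ?_⟩)
        have hD' := (hD.ge he).2
        have e1 : e * (a : G) * e⁻¹ * (a : G)⁻¹ =
            ((a : G) * e * (a : G)⁻¹ * e⁻¹)⁻¹ := by group
        rw [show e * (a : G) * e⁻¹ * (a : G)⁻¹ = ((a : G) * e * (a : G)⁻¹ * e⁻¹)⁻¹ from e1]
        exact inv_mem hD'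
      simpa using Subgroup.mem_sup_left (T := E₀) hW₀
    · refine hv1 ?_
      have hvE : (v : G) ∈ E := hv
      rw [← map_one π, hπ]
      have hvD : (v : G) ∈ D := by
        refine ⟨hvE, hEMle (Subgroup.mem_inf.2 ⟨mul_mem (conj_mem (hWE ha') hvE) (inv_mem hvE), ?_⟩)⟩
        have hc := Subgroup.mem_centralizer_singleton_iff.1 hvc
        rw [← map_mul, ← map_mul, hπ] at hc
        have := (Subgroup.mem_normalizer_iff.1 (mul_mem a.2 v.2) _).1 hc
        simpa [mul_assoc] using this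
      simpa using Subgroup.mem_sup_right (S := W₀) (inv_mem (hD.le hvD))
  have hVne : V ≠ ⊥ := by
    intro hbot
    refine hEne (hfix_of E fun e he => hEMle ⟨he, ?_⟩)
    have h1 : π ⟨e, hEM he⟩ ∈ V := ⟨_, Subgroup.mem_subgroupOf.2 he, rfl⟩
    rw [hbot, Subgroup.mem_bot, ← map_one π, hπ] at h1
    simpa using inv_mem h1
  obtain ⟨⟨_, ⟨g, hg, rfl⟩⟩, hgen⟩ := (hfpf.isCyclic hAV hVne).exists_generator
  have hgW : (g : G) ∈ W := hg
  refine ⟨g, hgW, fun w hw => ?_⟩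
  obtain ⟨i, hi⟩ := hgen ⟨π ⟨w, hWM hw⟩, ⟨_, Subgroup.mem_subgroupOf.2 hw, rfl⟩⟩
  have hi' : π (g ^ i) = π ⟨w, hWM hw⟩ := by
    rw [map_zpow]
    exact congrArg Subtype.val hi
  rw [hπ] at hi'
  have h1 : ((g : G) ^ i)⁻¹ * w ∈ W₀ :=
    hWMle (Subgroup.mem_inf.2 ⟨mul_mem (inv_mem (zpow_mem hgW i)) hw, by simpa using hi'⟩)
  have : w = (g : G) ^ i * (((g : G) ^ i)⁻¹ * w) := by group
  rw [this]
  exact mul_mem (Subgroup.mem_sup_right (Subgroup.zpow_mem_zpowers _ i)) (Subgroup.mem_sup_left h1)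

end CfsgLib.Char.RelMcKay
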