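import Cfsg.Agent.Lib.Char.RelMcKay.Chain

/-!
# Splitting the count of characters of degree prime to `p` along a normal subgroup

Below a character of degree prime to `p` the `P`-fixed constituents of degree prime to `p` form one
orbit under the normalizer of `P`.
-/

set_option autoImplicit false
set_option linter.unusedSectionVars false
set_option linter.style.haveILetI false

namespace CfsgLib.Char.RelMcKay

open Cfsg CfsgLib CfsgLib.Char

universe u

variable {G : Type u} [Group G] [Finite G]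

noncomputable local instance instFinSub7 (A : Subgroup G) : Fintype A := Fintype.ofFinite _

noncomputable local instance instFinIrr7 (A : Subgroup G) : Fintype (IrrCharacter A) :=
  Fintype.ofFinite _

/-- The number of characters of `Γ` of degree prime to `p` over `ν`. -/
noncomputable def cnt (p : ℕ) (Γ : Subgroup G) {L : Subgroup G} (ν : IrrCharacter L) : ℕ :=
  Nat.card {χ : IrrCharacter Γ // ¬ p ∣ deg χ ∧ mult χ ν ≠ 0}

/-- The fixed characters of degree prime to `p` over a conjugate of `ν`. -/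
def InX (p : ℕ) (P N : Subgroup G) {K L : Subgroup G} (ν : IrrCharacter L) (θ : IrrCharacter K) :
    Prop :=
  Fixed P θ ∧ ¬ p ∣ deg θ ∧ ∃ n ∈ N, mult θ (cjI n ν) ≠ 0

theorem exists_mem_normalizer_of_conj {p : ℕ} [hp : Fact p.Prime] {L P R : Subgroup G} [L.Normal]
    (hLP : L ≤ P) (hPR : P ≤ R) (hPQ : PMod p L P) (hidx : ¬ p ∣ P.relIndex R) {g : G}
    (hg : ∀ q ∈ P, g * q * g⁻¹ ∈ R) :
    ∃ r ∈ R, r⁻¹ * g ∈ Subgroup.normalizer (P : Set G) := by
  classical
  set π := QuotientGroup.mk' L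
  set P₂ := P.map (MulAut.conj g).toMonoidHom
  have hP₂R : P₂ ≤ R := by
    rintro _ ⟨q, hq, rfl⟩
    exact hg q hq
  have hback : ∀ y : G, π y ∈ P.map π → y ∈ P := by
    rintro y ⟨q, hq, e⟩
    have h1 : q⁻¹ * y ∈ L := (QuotientGroup.eq).1 e
    have := mul_mem hq (hLP h1)
    rwa [mul_inv_cancel_left] at this
  have hpP : IsPGroup p (P.map π) := by
    rintro ⟨_, y, hy, rfl⟩
    obtain ⟨k, hk⟩ := hPQ y hy
    exact ⟨k, Subtype.ext (by rw [Subgroup.coe_pow, ← map_pow]; exact (QuotientGroup.eq_one_iff _).2 hk)⟩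
  have hmap₂ : P₂.map π = (P.map π).map (MulAut.conj (π g)).toMonoidHom := by
    rw [Subgroup.map_map, Subgroup.map_map]
    congr 1
  have hpP₂ : IsPGroup p (P₂.map π) := hmap₂ ▸ hpP.map _
  set R' := R.map π
  have hA : IsPGroup p ((P.map π).subgroupOf R') :=
    hpP.of_equiv (Subgroup.subgroupOfEquivOfLe (Subgroup.map_mono hPR)).symm
  have hB : IsPGroup p ((P₂.map π).subgroupOf R') :=
    hpP₂.of_equiv (Subgroup.subgroupOfEquivOfLe (Subgroup.map_mono hP₂R)).symm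
  have hAidx : ¬ p ∣ ((P.map π).subgroupOf R').index := by
    show ¬ p ∣ (P.map π).relIndex R'
    rw [Subgroup.relIndex_map_map, QuotientGroup.ker_mk', sup_eq_left.2 hLP,
      sup_eq_left.2 (hLP.trans hPR)]
    exact hidx
  have hBidx : ¬ p ∣ ((P₂.map π).subgroupOf R').index := by
    have e1 := ((P.map π).subgroupOf R').card_mul_index
    have e2 := ((P₂.map π).subgroupOf R').card_mul_index
    have hc : Nat.card ((P₂.map π).subgroupOf R') = Nat.card ((P.map π).subgroupOf R') := by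
      rw [Nat.card_congr (Subgroup.subgroupOfEquivOfLe (Subgroup.map_mono hP₂R)).toEquiv,
        Nat.card_congr (Subgroup.subgroupOfEquivOfLe (Subgroup.map_mono hPR)).toEquiv, hmap₂,
        Subgroup.card_map_of_injective (MulEquiv.injective _)]
    rw [hc, ← e1] at e2
    rw [Nat.eq_of_mul_eq_mul_left Nat.card_pos e2]
    exact hAidx
  obtain ⟨r', hr'⟩ := MulAction.exists_smul_eq R' (hA.toSylow hAidx) (hB.toSylow hBidx)
  obtain ⟨_, r, hr, rfl⟩ := r'
  refine ⟨r, hr, ?_⟩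
  have key : ∀ q ∈ P, r⁻¹ * g * q * (r⁻¹ * g)⁻¹ ∈ P := by
    intro q hq
    set z : R' := ⟨π (g * q * g⁻¹), ⟨_, hg q hq, rfl⟩⟩
    have hz : z ∈ ((hB.toSylow hBidx : Sylow p R') : Subgroup R') :=
      Subgroup.mem_subgroupOf.2 ⟨g * q * g⁻¹, ⟨q, hq, rfl⟩, rfl⟩
    rw [← hr', Sylow.coe_subgroup_smul, Subgroup.mem_pointwise_smul_iff_inv_smul_mem] at hz
    have hz' : (MulAut.conj (⟨π r, ⟨r, hr, rfl⟩⟩ : R'))⁻¹ • z ∈ (P.map π).subgroupOf R' := hz
    rw [MulAut.smul_def, MulAut.conj_inv_apply, Subgroup.mem_subgroupOf] at hz'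
    refine hback _ ?_
    convert hz' using 1
    simp [z, mul_assoc]
  have hmap : P.map (MulAut.conj (r⁻¹ * g)).toMonoidHom = P := by
    refine Subgroup.eq_of_le_of_card_ge ?_ ?_
    · rintro _ ⟨q, hq, rfl⟩
      exact key q hq
    · rw [Subgroup.card_map_of_injective (MulEquiv.injective _)]
  exact CfsgLib.Coprime.conjBy_eq_self_iff.1 hmap

/-- Conjugate `P`-fixed characters are conjugate by an element normalizing `P`. -/
theorem fusion {p : ℕ} [hp : Fact p.Prime] {L P Γ K : Subgroup G} [L.Normal] (hLP : L ≤ P)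
    (hPΓ : P ≤ Γ) (hPQ : PMod p L P) (hidx : ¬ p ∣ P.relIndex Γ)
    (hK : Γ ≤ Subgroup.normalizer (K : Set G)) {θ θ' : IrrCharacter K} (hθ : Fixed P θ)
    (hθ' : Fixed P θ') {g : G} (hg : g ∈ Γ) (he : cjI g θ = θ') :
    ∃ n ∈ Γ ⊓ Subgroup.normalizer (P : Set G), cjI n θ = θ' := by
  let R : Subgroup G :=
    { carrier := {x | x ∈ Γ ∧ cjI x θ' = θ'}
      one_mem' := ⟨one_mem _, cjI_one θ'⟩
      mul_mem' := fun {a b} ha hb =>
        ⟨mul_mem ha.1 hb.1, by rw [cjI_mul (hK ha.1) (hK hb.1), hb.2, ha.2]⟩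
      inv_mem' := fun {a} ha => ⟨inv_mem ha.1, by
        conv_lhs => rw [← ha.2]
        exact cjI_inv_cancel (hK ha.1) θ'⟩ }
  have hPR : P ≤ R := fun q hq => ⟨hPΓ hq, hθ' q hq⟩
  have hRΓ : R ≤ Γ := fun x hx => hx.1
  obtain ⟨r, hr, hn⟩ := exists_mem_normalizer_of_conj hLP hPR hPQ
    (fun hd => hidx (hd.trans (Dvd.intro _ (Subgroup.relIndex_mul_relIndex P R Γ hPR hRΓ))))
    (g := g) (fun q hq => ⟨mul_mem (mul_mem hg (hPΓ hq)) (inv_mem hg), by
      rw [cjI_mul (mul_mem (hK hg) (hK (hPΓ hq))) (inv_mem (hK hg)), cjI_mul (hK hg) (hK (hPΓ hq)),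
        ← he, cjI_inv_cancel (hK hg), hθ q hq]⟩)
  refine ⟨r⁻¹ * g, Subgroup.mem_inf.2 ⟨mul_mem (inv_mem hr.1) hg, hn⟩, ?_⟩
  rw [cjI_mul (inv_mem (hK hr.1)) (hK hg), he]
  exact (R.inv_mem hr).2

theorem card_eq_sum_stab {K N : Subgroup G} (hN : N ≤ Subgroup.normalizer (K : Set G))
    (θ₀ : IrrCharacter K) [DecidablePred fun θ : IrrCharacter K => ∃ n ∈ N, cjI n θ₀ = θ] :
    Nat.card N = ∑ θ ∈ Finset.univ.filter (fun θ : IrrCharacter K => ∃ n ∈ N, cjI n θ₀ = θ),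
      Nat.card {n : N // cjI (n : G) θ = θ} := by
  classical
  rw [Nat.card_eq_fintype_card, ← Finset.card_univ,
    Finset.card_eq_sum_card_fiberwise (f := fun n : N => cjI (n : G) θ₀)
      (t := Finset.univ.filter fun θ : IrrCharacter K => ∃ n ∈ N, cjI n θ₀ = θ)
      fun n _ => Finset.mem_filter.2 ⟨Finset.mem_univ _, n, n.2, rfl⟩]
  refine Finset.sum_congr rfl fun θ hθ => ?_
  obtain ⟨n₀, hn₀, e⟩ := (Finset.mem_filter.1 hθ).2
  rw [Nat.card_eq_fintype_card, Fintype.card_subtype]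
  refine Finset.card_equiv (Equiv.mulRight (⟨n₀, hn₀⟩ : N)⁻¹) fun n => ?_
  simp only [Finset.mem_filter, Finset.mem_univ, true_and, Equiv.coe_mulRight, Subgroup.coe_mul,
    Subgroup.coe_inv]
  rw [cjI_mul (hN n.2) (inv_mem (hN hn₀))]
  conv_rhs => arg 1; arg 2; rw [← e, cjI_inv_cancel (hN hn₀)]

/-- The count over `ν`, split along a normal subgroup `K`. -/
theorem decompose {p : ℕ} [hp : Fact p.Prime] {L P Γ K : Subgroup G} [L.Normal] (hLP : L ≤ P)
    (hPΓ : P ≤ Γ) (hPQ : PMod p L P) (hidx : ¬ p ∣ P.relIndex Γ) (hLK : L ≤ K) (hKΓ : K ≤ Γ)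
    (hK : Γ ≤ Subgroup.normalizer (K : Set G)) (ν : IrrCharacter L) (hν : Fixed P ν)
    [DecidablePred fun θ : IrrCharacter K =>
      InX p P (Γ ⊓ Subgroup.normalizer (P : Set G)) ν θ] :
    Nat.card (Γ ⊓ Subgroup.normalizer (P : Set G) : Subgroup G) * cnt p Γ ν =
      ∑ θ : IrrCharacter K, if InX p P (Γ ⊓ Subgroup.normalizer (P : Set G)) ν θ then
        Nat.card {n : (Γ ⊓ Subgroup.normalizer (P : Set G) : Subgroup G) // cjI (n : G) θ = θ} *
          cnt p Γ θ else 0 := by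
  classical
  set N := Γ ⊓ Subgroup.normalizer (P : Set G)
  have hNΓ : N ≤ Γ := inf_le_left
  have hNK : N ≤ Subgroup.normalizer (K : Set G) := hNΓ.trans hK
  have hΓL : Γ ≤ Subgroup.normalizer (L : Set G) := Subgroup.normalizer_eq_top L ▸ le_top
  have hinv : ∀ {M : Subgroup G}, M ≤ Γ → Γ ≤ Subgroup.normalizer (M : Set G) →
      ∀ (χ : IrrCharacter Γ) (g : G), g ∈ Γ → ∀ φ : IrrCharacter M,
        mult χ (cjI g φ) = mult χ φ := by
    intro M hMΓ hM χ g hg φ
    conv_lhs => rw [← cjI_of_mem hg χ]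
    exact mult_cjI hMΓ (Subgroup.le_normalizer hg) (hM hg) χ φ
  set w : IrrCharacter K → ℕ := fun θ => Nat.card {n : N // cjI (n : G) θ = θ}
  -- the constituents of one character
  have hone : ∀ χ : IrrCharacter Γ, ¬ p ∣ deg χ →
      (∑ θ : IrrCharacter K, if InX p P N ν θ ∧ mult χ θ ≠ 0 then w θ else 0) =
        if mult χ ν ≠ 0 then Nat.card N else 0 := by
    intro χ hχ
    split_ifs with hχν
    · obtain ⟨θ₀, hθ₀, hm₀, hd₀⟩ := exists_fixed_below hKΓ (hPΓ.trans Subgroup.le_normalizer)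
        (hPΓ.trans hK) hPQ hLK ((fixed_self χ).mono hPΓ) hχ
      have hm₀' : mult χ θ₀ ≠ 0 := fun e => hm₀ (e ▸ dvd_zero p)
      obtain ⟨ν', hν', hmν, -⟩ := exists_fixed_below hLK (hPΓ.trans hK) (hPΓ.trans hΓL) hPQ le_rfl
        hθ₀ hd₀
      have hmν' : mult θ₀ ν' ≠ 0 := fun e => hmν (e ▸ dvd_zero p)
      obtain ⟨g, hg, hge⟩ := exists_conj (hLK.trans hKΓ) hΓL hχν
        (mult_ne_zero_trans hLK hKΓ hm₀' hmν')
      obtain ⟨n₀, hn₀, hne₀⟩ := fusion hLP hPΓ hPQ hidx hΓL hν hν' hg hge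
      rw [← Finset.sum_filter, card_eq_sum_stab hNK θ₀]
      refine Finset.sum_congr (Finset.filter_congr fun θ _ => ⟨?_, ?_⟩) fun θ _ => rfl
      · rintro ⟨hθ, hm⟩
        obtain ⟨u, hu, hue⟩ := exists_conj hKΓ hK hm₀' hm
        exact fusion hLP hPΓ hPQ hidx hK hθ₀ hθ.1 hu hue
      · rintro ⟨n, hn, rfl⟩
        refine ⟨⟨fixed_cjI (hNK hn) (Subgroup.mem_inf.1 hn).2 (hPΓ.trans hK) hθ₀,
          by rwa [deg_cjI], n * n₀, mul_mem hn hn₀, ?_⟩, by rwa [hinv hKΓ hK χ n (hNΓ hn)]⟩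
        rw [cjI_mul (hΓL (hNΓ hn)) (hΓL (hNΓ hn₀)), hne₀,
          mult_cjI hLK (hNK hn) (hΓL (hNΓ hn))]
        exact hmν'
    · refine Finset.sum_eq_zero fun θ _ => if_neg ?_
      rintro ⟨⟨-, -, n, hn, hm⟩, hm'⟩
      refine hχν ?_
      have := mult_ne_zero_trans hLK hKΓ hm' hm
      rwa [hinv (hLK.trans hKΓ) hΓL χ n (hNΓ hn)] at this
  have hcnt : ∀ (M : Subgroup G) (φ : IrrCharacter M),
      cnt p Γ φ = ∑ χ : IrrCharacter Γ, if ¬ p ∣ deg χ ∧ mult χ φ ≠ 0 then 1 else 0 := by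
    intro M φ
    rw [cnt, Nat.card_eq_fintype_card, Fintype.card_subtype, Finset.card_filter]
  rw [hcnt L ν, Finset.mul_sum]
  calc _ = ∑ χ : IrrCharacter Γ, ∑ θ : IrrCharacter K,
        if InX p P N ν θ ∧ (¬ p ∣ deg χ ∧ mult χ θ ≠ 0) then w θ else 0 := by
        refine Finset.sum_congr rfl fun χ _ => ?_
        by_cases hχ : p ∣ deg χ
        · rw [if_neg (fun h => h.1 hχ), Finset.sum_eq_zero fun θ _ => if_neg fun h => h.2.1 hχ,
            mul_zero]
        · rw [mul_ite, mul_one, mul_zero]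
          convert (hone χ hχ).symm using 2 <;> simp [hχ]
    _ = ∑ θ : IrrCharacter K, ∑ χ : IrrCharacter Γ,
        if InX p P N ν θ ∧ (¬ p ∣ deg χ ∧ mult χ θ ≠ 0) then w θ else 0 := Finset.sum_comm
    _ = _ := by
        refine Finset.sum_congr rfl fun θ _ => ?_
        rw [hcnt K θ, Finset.mul_sum]
        split_ifs with hθ
        · refine Finset.sum_congr rfl fun χ _ => ?_
          rw [mul_ite, mul_one, mul_zero]
          exact if_congr (and_iff_right hθ) rfl rfl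
        · exact Finset.sum_eq_zero fun χ _ => if_neg fun h => hθ h.1

end CfsgLib.Char.RelMcKay
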