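import Cfsg.Agent.Lib.Char.RelMcKay.Count
import Cfsg.Agent.Lib.Char.RelMcKay.Decompose

/-!
# The Clifford correspondence as a count

Characters over a character of a normal subgroup are counted inside its stabilizer, and then by
commuting pairs of a supplement.
-/

set_option autoImplicit false
set_option linter.unusedSectionVars false
set_option linter.style.haveILetI false

namespace CfsgLib.Char.RelMcKay

open Cfsg CfsgLib CfsgLib.Char

universe u

variable {G : Type u} [Group G] [Finite G]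

noncomputable local instance instFinSub9 (A : Subgroup G) : Fintype A := Fintype.ofFinite _

noncomputable local instance instFinIrr9 (A : Subgroup G) : Fintype (IrrCharacter A) :=
  Fintype.ofFinite _

/-- Frobenius reciprocity for degrees. -/
theorem sum_mult_deg {U T : Subgroup G} (h : T ≤ U) (ξ : IrrCharacter T) :
    ∑ χ : IrrCharacter U, mult χ ξ * deg χ = T.relIndex U * deg ξ := by
  set N := T.subgroupOf U
  have h2 := congrFun (classFun_expand (isClassFunction_indFun N (toSub h ξ : N → ℂ))) 1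
  simp only [Finset.sum_apply, Pi.smul_apply, smul_eq_mul, Char.indFun_one] at h2
  have h3 : (toSub h ξ : N → ℂ) 1 = (deg ξ : ℂ) := by
    rw [← one_eq_deg ξ]; simp [toSub]
  rw [h3, Finset.sum_congr rfl fun (χ : IrrCharacter U) _ => show
      classInner (indFun N (toSub h ξ : N → ℂ)) (χ : U → ℂ) * (χ : U → ℂ) 1 =
        ((mult χ ξ * deg χ : ℕ) : ℂ) by
    rw [classInner_indFun N _ _ (isClassFunction_irr χ), ← classInner_conj, classInner_toSub_mult h,
      map_natCast, one_eq_deg, Nat.cast_mul]] at h2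
  exact_mod_cast h2.symm

/-- The degree of a character over `η` in terms of the stabilizer of `η`. -/
theorem deg_eq_clifford {U T M : Subgroup G} (hMU : M ≤ U) (hTU : T ≤ U)
    (hn : U ≤ Subgroup.normalizer (M : Set G)) {η : IrrCharacter M}
    (hT : ∀ g ∈ U, cjI g η = η ↔ g ∈ T) {χ : IrrCharacter U} (hm : mult χ η ≠ 0) :
    deg χ = mult χ η * T.relIndex U * deg η := by
  classical
  set O := (Finset.univ : Finset U).image fun u : U => cjI (u : G) η
  have hmem : ∀ φ : IrrCharacter M, mult χ φ ≠ 0 → φ ∈ O := fun φ hφ => by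
    obtain ⟨u, hu, e⟩ := exists_conj hMU hn hm hφ
    exact Finset.mem_image.2 ⟨⟨u, hu⟩, Finset.mem_univ _, e⟩
  have hterm : ∀ φ ∈ O, mult χ φ * deg φ = mult χ η * deg η := fun φ hφ => by
    obtain ⟨u, -, rfl⟩ := Finset.mem_image.1 hφ
    rw [deg_cjI]
    conv_lhs => rw [← cjI_of_mem u.2 χ]
    rw [mult_cjI hMU (Subgroup.le_normalizer u.2) (hn u.2)]
  have hO : O.card * Nat.card T = Nat.card U := by
    rw [Nat.card_eq_fintype_card (α := U), ← Finset.card_univ,
      Finset.card_eq_sum_card_fiberwise (f := fun u : U => cjI (u : G) η) (t := O)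
        fun u hu => Finset.mem_image_of_mem _ hu]
    refine (Finset.sum_const_nat fun φ hφ => ?_).symm
    obtain ⟨u₀, -, rfl⟩ := Finset.mem_image.1 hφ
    rw [← Nat.card_eq_finsetCard]
    refine Nat.card_congr
      { toFun := fun u => ⟨((u₀ : U) : G)⁻¹ * (u.1 : G), (hT _ (mul_mem (inv_mem u₀.2) u.1.2)).1 ?_⟩
        invFun := fun t => ⟨u₀ * ⟨t, hTU t.2⟩, ?_⟩
        left_inv := fun u => Subtype.ext (Subtype.ext (by simp))
        right_inv := fun t => Subtype.ext (by simp) }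
    · rw [cjI_mul (inv_mem (hn u₀.2)) (hn u.1.2), (Finset.mem_filter.1 u.2).2,
        cjI_inv_cancel (hn u₀.2)]
    · refine Finset.mem_filter.2 ⟨Finset.mem_univ _, ?_⟩
      rw [Subgroup.coe_mul, cjI_mul (hn u₀.2) (hn (hTU t.2)), (hT _ (hTU t.2)).2 t.2]
  have hcard : O.card = T.relIndex U := by
    have h1 : Nat.card T * T.relIndex U = Nat.card U := by
      rw [← Nat.card_congr (Subgroup.subgroupOfEquivOfLe hTU).toEquiv]
      exact (T.subgroupOf U).card_mul_index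
    rw [← hO, mul_comm (O.card)] at h1
    exact (Nat.eq_of_mul_eq_mul_left Nat.card_pos h1).symm
  rw [deg_eq_sum hMU χ, ← Finset.sum_subset (Finset.subset_univ O) fun φ _ hφ => by
    rw [show mult χ φ = 0 from by_contra fun hc => hφ (hmem φ hc), zero_mul],
    Finset.sum_const_nat hterm, hcard]
  ring

/-- The characters over `η` correspond to those of its stabilizer. -/
theorem clifford_card {U T M : Subgroup G} (hMT : M ≤ T) (hTU : T ≤ U)
    (hn : U ≤ Subgroup.normalizer (M : Set G)) {η : IrrCharacter M}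
    (hT : ∀ g ∈ U, cjI g η = η ↔ g ∈ T) :
    Nat.card {χ : IrrCharacter U // mult χ η ≠ 0} =
      Nat.card {ξ : IrrCharacter T // mult ξ η ≠ 0} := by
  classical
  have hfix : Fixed T η := fun g hg => (hT g (hTU hg)).2 hg
  have hMU := hMT.trans hTU
  have key : ∀ ξ : IrrCharacter T, mult ξ η ≠ 0 →
      ∑ χ : IrrCharacter U, mult χ ξ * mult χ η = mult ξ η := by
    intro ξ hξ
    have h1 := sum_mult_deg hTU ξ
    rw [deg_eq_mult_mul hMT (hTU.trans hn) hfix hξ, Finset.sum_congr rfl fun χ _ =>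
      (show mult χ ξ * deg χ = mult χ ξ * mult χ η * (T.relIndex U * deg η) by
        rcases eq_or_ne (mult χ ξ) 0 with h0 | h0
        · simp [h0]
        · rw [deg_eq_clifford hMU hTU hn hT (mult_ne_zero_trans hMT hTU h0 hξ)]; ring),
      ← Finset.sum_mul] at h1
    have hpos : 0 < T.relIndex U := Nat.pos_of_ne_zero Subgroup.index_ne_zero_of_finite
    refine Nat.eq_of_mul_eq_mul_right (Nat.mul_pos hpos (deg_pos η)) (h1.trans ?_)
    ring
  have hle : ∀ (χ : IrrCharacter U) (ξ : IrrCharacter T), mult χ ξ * mult ξ η ≤ mult χ η :=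
    fun χ ξ => by
      rw [mult_trans hMT hTU χ η]
      exact Finset.single_le_sum (f := fun ξ' => mult χ ξ' * mult ξ' η) (fun _ _ => Nat.zero_le _)
        (Finset.mem_univ ξ)
  have hkey : ∀ ξ : IrrCharacter T, mult ξ η ≠ 0 → ∃ χ : IrrCharacter U,
      mult χ η = mult ξ η ∧ mult χ ξ = 1 ∧
        ∀ χ' : IrrCharacter U, mult χ' ξ ≠ 0 → χ' = χ := by
    intro ξ hξ
    obtain ⟨χ, -, hχ⟩ := Finset.exists_ne_zero_of_sum_ne_zero ((key ξ hξ).trans_ne hξ)
    have hχξ := left_ne_zero_of_mul hχ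
    have h2 := key ξ hξ
    rw [← Finset.add_sum_erase _ _ (Finset.mem_univ χ)] at h2
    have h3 : mult ξ η ≤ mult χ η :=
      (Nat.le_mul_of_pos_left _ (Nat.pos_of_ne_zero hχξ)).trans (hle χ ξ)
    have h4 : mult χ η ≤ mult χ ξ * mult χ η :=
      Nat.le_mul_of_pos_left _ (Nat.pos_of_ne_zero hχξ)
    have h5 : mult χ η = mult ξ η := by omega
    have h6 : mult χ ξ = 1 := by
      have h7 : mult χ ξ * mult χ η ≤ 1 * mult χ η := by omega
      exact le_antisymm (Nat.le_of_mul_le_mul_right h7 (by omega))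
        (Nat.one_le_iff_ne_zero.2 hχξ)
    refine ⟨χ, h5, h6, fun χ' hχ' => ?_⟩
    by_contra hne
    have h7 : mult χ' ξ * mult χ' η ≤
        ∑ x ∈ Finset.univ.erase χ, mult x ξ * mult x η :=
      Finset.single_le_sum (f := fun x => mult x ξ * mult x η) (fun _ _ => Nat.zero_le _)
        (Finset.mem_erase.2 ⟨hne, Finset.mem_univ _⟩)
    have h8 : mult χ' η ≠ 0 := mult_ne_zero_trans hMT hTU hχ' hξ
    have h9 : 0 < mult χ' ξ * mult χ' η :=
      Nat.mul_pos (Nat.pos_of_ne_zero hχ') (Nat.pos_of_ne_zero h8)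
    rw [h6, one_mul, h5] at h2
    omega
  choose g hg₁ hg₂ hg₃ using hkey
  refine (Nat.card_congr (Equiv.ofBijective
    (fun ξ : {ξ : IrrCharacter T // mult ξ η ≠ 0} =>
      (⟨g ξ.1 ξ.2, (hg₁ ξ.1 ξ.2).trans_ne ξ.2⟩ : {χ : IrrCharacter U // mult χ η ≠ 0}))
    ⟨fun ξ ξ' e => ?_, fun χ => ?_⟩)).symm
  · have e1 : g ξ.1 ξ.2 = g ξ'.1 ξ'.2 := congrArg Subtype.val e
    refine Subtype.ext ?_
    by_contra hne
    have h1 := hg₂ ξ.1 ξ.2
    have h2 : mult (g ξ.1 ξ.2) ξ'.1 = 1 := e1 ▸ hg₂ ξ'.1 ξ'.2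
    have h3 : mult (g ξ.1 ξ.2) ξ.1 * mult ξ.1 η + mult (g ξ.1 ξ.2) ξ'.1 * mult ξ'.1 η ≤
        mult (g ξ.1 ξ.2) η := by
      rw [mult_trans hMT hTU (g ξ.1 ξ.2) η, ← Finset.add_sum_erase _ _ (Finset.mem_univ ξ.1)]
      exact Nat.add_le_add_left (Finset.single_le_sum
        (f := fun x => mult (g ξ.1 ξ.2) x * mult x η) (fun _ _ => Nat.zero_le _)
        (Finset.mem_erase.2 ⟨Ne.symm hne, Finset.mem_univ _⟩)) _
    rw [h1, h2, hg₁ ξ.1 ξ.2, one_mul, one_mul] at h3
    have := ξ'.2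
    omega
  · obtain ⟨ξ, h1, h2⟩ := exists_mult_between hMT hTU χ.2
    exact ⟨⟨ξ, h2⟩, Subtype.ext (hg₃ ξ h2 χ.1 h1).symm⟩

/-- A sum invariant on left cosets of `M` taken on a supplement. -/
theorem sum_sup_eq {T M S : Subgroup G} (hT : T = M ⊔ S)
    (hn : S ≤ Subgroup.normalizer (M : Set G)) (f : G → ℕ)
    (hf : ∀ m ∈ M, ∀ t ∈ T, f (m * t) = f t) :
    Nat.card (M ⊓ S : Subgroup G) * ∑ t : T, f t = Nat.card M * ∑ s : S, f s := by
  classical
  subst hT
  set π : M × S → (M ⊔ S : Subgroup G) := fun q =>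
    ⟨(q.1 : G) * q.2, mul_mem (Subgroup.mem_sup_left q.1.2) (Subgroup.mem_sup_right q.2.2)⟩
  have h1 : ∑ q : M × S, f (π q : G) = Nat.card M * ∑ s : S, f s := by
    rw [Fintype.sum_prod_type, Finset.sum_congr rfl (g := fun _ : M => ∑ s : S, f s) fun m _ =>
      Finset.sum_congr rfl fun s _ => hf _ m.2 s (Subgroup.mem_sup_right s.2),
      Finset.sum_const, smul_eq_mul, Finset.card_univ, Nat.card_eq_fintype_card]
  rw [← h1, ← Finset.sum_fiberwise Finset.univ π, Finset.mul_sum]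
  refine Finset.sum_congr rfl fun t _ => ?_
  rw [Finset.sum_congr rfl fun q hq => congrArg (fun t : (M ⊔ S : Subgroup G) => f t)
    (Finset.mem_filter.1 hq).2, Finset.sum_const, smul_eq_mul]
  congr 1
  obtain ⟨m₀, hm₀, s₀, hs₀, e⟩ := CfsgLib.Coprime.mem_sup_exists hn t.2
  rw [← Nat.card_eq_finsetCard]
  refine Nat.card_congr
    { toFun := fun d => ⟨(⟨m₀ * d, mul_mem hm₀ (Subgroup.mem_inf.1 d.2).1⟩,
          ⟨(d : G)⁻¹ * s₀, mul_mem (inv_mem (Subgroup.mem_inf.1 d.2).2) hs₀⟩),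
        Finset.mem_filter.2 ⟨Finset.mem_univ _, Subtype.ext (by simp [π, mul_assoc, ← e])⟩⟩
      invFun := fun q => ⟨m₀⁻¹ * (q.1.1 : G), Subgroup.mem_inf.2
        ⟨mul_mem (inv_mem hm₀) q.1.1.2, ?_⟩⟩
      left_inv := fun d => Subtype.ext (by simp)
      right_inv := fun q => Subtype.ext (Prod.ext (Subtype.ext (by simp)) (Subtype.ext ?_)) }
  · have h2 : ((q.1.1 : G) * q.1.2 : G) = m₀ * s₀ :=
      (congrArg Subtype.val (Finset.mem_filter.1 q.2).2).trans e.symm
    rw [show m₀⁻¹ * (q.1.1 : G) = s₀ * (q.1.2 : G)⁻¹ by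
      rw [eq_mul_inv_iff_mul_eq, mul_assoc, h2, inv_mul_cancel_left]]
    exact mul_mem hs₀ (inv_mem q.1.2.2)
  · have h2 : ((q.1.1 : G) * q.1.2 : G) = m₀ * s₀ :=
      (congrArg Subtype.val (Finset.mem_filter.1 q.2).2).trans e.symm
    show (m₀⁻¹ * (q.1.1 : G))⁻¹ * s₀ = _
    rw [mul_inv_rev, inv_inv, mul_assoc, ← h2, inv_mul_cancel_left]

theorem comm_mem_mul_left {M : Subgroup G} {m a b : G} (hm : m ∈ M)
    (hb : b ∈ Subgroup.normalizer (M : Set G)) :
    m * a * b * (m * a)⁻¹ * b⁻¹ ∈ M ↔ a * b * a⁻¹ * b⁻¹ ∈ M := by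
  rw [show m * a * b * (m * a)⁻¹ * b⁻¹ = m * (a * b * a⁻¹ * b⁻¹) * (b * m⁻¹ * b⁻¹) by group,
    Subgroup.mul_mem_cancel_right _ (conj_mem hb (inv_mem hm)),
    Subgroup.mul_mem_cancel_left _ hm]

theorem comm_mem_symm {M : Subgroup G} {a b : G} :
    a * b * a⁻¹ * b⁻¹ ∈ M ↔ b * a * b⁻¹ * a⁻¹ ∈ M := by
  rw [← M.inv_mem_iff, show (a * b * a⁻¹ * b⁻¹)⁻¹ = b * a * b⁻¹ * a⁻¹ by group]

theorem sup_zpowers_mul_left {M : Subgroup G} {m a : G} (hm : m ∈ M) :
    M ⊔ Subgroup.zpowers (m * a) = M ⊔ Subgroup.zpowers a := by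
  refine le_antisymm (sup_le le_sup_left (Subgroup.zpowers_le.2
    (mul_mem (Subgroup.mem_sup_left hm) (Subgroup.mem_sup_right (Subgroup.mem_zpowers _)))))
    (sup_le le_sup_left (Subgroup.zpowers_le.2 ?_))
  have h : m⁻¹ * (m * a) ∈ M ⊔ Subgroup.zpowers (m * a) :=
    mul_mem (Subgroup.mem_sup_left (inv_mem hm)) (Subgroup.mem_sup_right (Subgroup.mem_zpowers _))
  rwa [inv_mul_cancel_left] at h

theorem sup_sup_zpowers_mul {M : Subgroup G} {m m' a b : G} (hm : m ∈ M) (hm' : m' ∈ M) :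
    M ⊔ Subgroup.zpowers (m * a) ⊔ Subgroup.zpowers (m' * b) =
      M ⊔ Subgroup.zpowers a ⊔ Subgroup.zpowers b := by
  rw [sup_zpowers_mul_left hm, sup_right_comm, sup_zpowers_mul_left hm', sup_right_comm]

/-- The characters over `η`, counted by pairs in a supplement of `M` in its stabilizer. -/
theorem card_over_pairs {U M N S : Subgroup G} (hMU : M ≤ U) (hNU : N ≤ U)
    (hn : U ≤ Subgroup.normalizer (M : Set G)) (hgen : ∀ g ∈ U, ∃ n ∈ N, ∃ m ∈ M, g = n * m)
    {η : IrrCharacter M} (hS : ∀ n, n ∈ S ↔ n ∈ N ∧ cjI n η = η) :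
    Nat.card {χ : IrrCharacter U // mult χ η ≠ 0} * Nat.card S *
        Nat.card (M ⊓ S : Subgroup G) =
      Nat.card {q : S × S //
        (q.1 : G) * q.2 * (q.1 : G)⁻¹ * (q.2 : G)⁻¹ ∈ M ∧ Good S η q.1} := by
  classical
  have hSN : S ≤ N := fun n h => ((hS n).1 h).1
  have hSM : S ≤ Subgroup.normalizer (M : Set G) := (hSN.trans hNU).trans hn
  set T := M ⊔ S with hTdef
  have hTU : T ≤ U := sup_le hMU (hSN.trans hNU)
  have hTfix : Fixed T η := fixed_sup Subgroup.le_normalizer hSM (fixed_self η)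
    fun x hx => ((hS x).1 hx).2
  have hstab : ∀ g ∈ U, cjI g η = η ↔ g ∈ T := by
    refine fun g hg => ⟨fun h => ?_, hTfix g⟩
    obtain ⟨n, hn', m, hm, rfl⟩ := hgen g hg
    rw [cjI_mul (hn (hNU hn')) (Subgroup.le_normalizer hm), cjI_of_mem hm] at h
    exact mul_mem (Subgroup.mem_sup_right ((hS n).2 ⟨hn', h⟩)) (Subgroup.mem_sup_left hm)
  rw [clifford_card le_sup_left hTU hn hstab]
  have hTn := hTU.trans hn
  have hmain := card_irr_over (le_sup_left : M ≤ T) hTn hTfix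
  -- goodness only depends on the cosets
  have hgoodL : ∀ m ∈ M, ∀ a ∈ T, (Good S η (m * a) ↔ Good S η a) := by
    intro m hm a _
    refine forall₂_congr fun b hb => ?_
    rw [comm_mem_mul_left hm (hSM hb), sup_zpowers_mul_left hm]
  have hgoodT : ∀ a ∈ T, (Good T η a ↔ Good S η a) := by
    refine fun a _ => ⟨fun h b hb => h b (Subgroup.mem_sup_right hb), fun h b hb hab => ?_⟩
    obtain ⟨m, hm, s, hs, rfl⟩ := CfsgLib.Coprime.mem_sup_exists hSM hb
    have hab' : a * s * a⁻¹ * s⁻¹ ∈ M := by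
      rw [comm_mem_symm] at hab ⊢
      exact (comm_mem_mul_left hm (hTn (by assumption))).1 hab
    have := h s hs hab'
    rwa [show M ⊔ Subgroup.zpowers a ⊔ Subgroup.zpowers (m * s) =
      M ⊔ Subgroup.zpowers a ⊔ Subgroup.zpowers s by
        rw [sup_right_comm, sup_zpowers_mul_left hm, sup_right_comm]]
  set f : G → G → ℕ := fun a b => if a * b * a⁻¹ * b⁻¹ ∈ M ∧ Good S η a then 1 else 0 with hfdef
  have hf1 : ∀ b ∈ T, ∀ m ∈ M, ∀ a ∈ T, f (m * a) b = f a b := fun b hb m hm a ha =>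
    if_congr (and_congr (comm_mem_mul_left hm (hTn hb)) (hgoodL m hm a ha)) rfl rfl
  have hf2 : ∀ a ∈ T, ∀ m ∈ M, ∀ b ∈ T, f a (m * b) = f a b := fun a ha m hm b _ =>
    if_congr (and_congr (by
      rw [comm_mem_symm, comm_mem_mul_left hm (hTn ha), comm_mem_symm]) Iff.rfl) rfl rfl
  have hTpairs : Nat.card {q : T × T //
      (q.1 : G) * q.2 * (q.1 : G)⁻¹ * (q.2 : G)⁻¹ ∈ M ∧ Good T η q.1} =
      ∑ a : T, ∑ b : T, f a b := by
    rw [Nat.card_eq_fintype_card, Fintype.card_subtype, Finset.card_filter, Fintype.sum_prod_type]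
    exact Finset.sum_congr rfl fun a _ => Finset.sum_congr rfl fun b _ =>
      if_congr (and_congr Iff.rfl (hgoodT a a.2)) rfl rfl
  have hSpairs : Nat.card {q : S × S //
      (q.1 : G) * q.2 * (q.1 : G)⁻¹ * (q.2 : G)⁻¹ ∈ M ∧ Good S η q.1} =
      ∑ a : S, ∑ b : S, f a b := by
    rw [Nat.card_eq_fintype_card, Fintype.card_subtype, Finset.card_filter, Fintype.sum_prod_type]
  have hpairs : Nat.card (M ⊓ S : Subgroup G) * Nat.card (M ⊓ S : Subgroup G) *
      (∑ a : T, ∑ b : T, f a b) = Nat.card M * Nat.card M * ∑ a : S, ∑ b : S, f a b := by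
    have h1 := sum_sup_eq hTdef hSM (fun a => ∑ b : T, f a b)
      fun m hm a ha => Finset.sum_congr rfl fun b _ => hf1 b b.2 m hm a ha
    have h2 : Nat.card (M ⊓ S : Subgroup G) * (∑ a : S, ∑ b : T, f a b) =
        Nat.card M * ∑ a : S, ∑ b : S, f a b := by
      rw [Finset.mul_sum, Finset.mul_sum]
      exact Finset.sum_congr rfl fun a _ =>
        sum_sup_eq hTdef hSM (f a) (hf2 a (Subgroup.mem_sup_right a.2))
    rw [mul_assoc, h1, mul_left_comm, h2, mul_assoc]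
  have hcardT : Nat.card (M ⊓ S : Subgroup G) * Nat.card T = Nat.card M * Nat.card S := by
    have := sum_sup_eq hTdef hSM (fun _ => 1) fun _ _ _ _ => rfl
    simpa [Nat.card_eq_fintype_card] using this
  rw [hTpairs] at hmain
  rw [← hmain] at hpairs
  rw [hSpairs]
  refine Nat.eq_of_mul_eq_mul_left (Nat.mul_pos (Nat.card_pos (α := M)) (Nat.card_pos (α := M))) ?_
  rw [← hpairs]
  calc _ = Nat.card M * Nat.card (M ⊓ S : Subgroup G) *
        Nat.card {ξ : IrrCharacter T // mult ξ η ≠ 0} * (Nat.card M * Nat.card S) := by ring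
    _ = _ := by rw [← hcardT]; ring

/-- The count over `θ`, split over its extensions to a normal subgroup. -/
theorem split {p : ℕ} {K M Γ N H : Subgroup G} (hKM : K ≤ M) (hMΓ : M ≤ Γ) (hNΓ : N ≤ Γ)
    (hΓK : Γ ≤ Subgroup.normalizer (K : Set G)) (hΓM : Γ ≤ Subgroup.normalizer (M : Set G))
    (hgen : ∀ g ∈ Γ, ∃ n ∈ N, ∃ m ∈ M, g = n * m) {θ : IrrCharacter K}
    (hext : ∀ η : IrrCharacter M, ¬ p ∣ deg η → mult η θ ≠ 0 → Ext η θ)
    (hH : ∀ n, n ∈ H ↔ n ∈ N ∧ cjI n θ = θ)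
    [DecidablePred fun η : IrrCharacter M => Ext η θ] :
    Nat.card H * cnt p Γ θ = ∑ η : IrrCharacter M, if Ext η θ then
      Nat.card {n : H // cjI (n : G) η = η} * cnt p Γ η else 0 := by
  classical
  have hHΓ : H ≤ Γ := fun n hn => hNΓ ((hH n).1 hn).1
  have hHM : H ≤ Subgroup.normalizer (M : Set G) := hHΓ.trans hΓM
  have hinv : ∀ (χ : IrrCharacter Γ) (g : G), g ∈ Γ → ∀ η : IrrCharacter M,
      mult χ (cjI g η) = mult χ η := by
    intro χ g hg η
    conv_lhs => rw [← cjI_of_mem hg χ]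
    exact mult_cjI hMΓ (Subgroup.le_normalizer hg) (hΓM hg) χ η
  set w : IrrCharacter M → ℕ := fun η => Nat.card {n : H // cjI (n : G) η = η}
  have hone : ∀ χ : IrrCharacter Γ, ¬ p ∣ deg χ →
      (∑ η : IrrCharacter M, if Ext η θ ∧ mult χ η ≠ 0 then w η else 0) =
        if mult χ θ ≠ 0 then Nat.card H else 0 := by
    intro χ hχ
    split_ifs with hχθ
    · obtain ⟨η₀, hm₀, hη₀⟩ := exists_mult_between hKM hMΓ hχθ
      have he₀ : Ext η₀ θ := hext η₀ (not_dvd_deg_below hMΓ hΓM hm₀ hχ) hη₀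
      rw [← Finset.sum_filter, card_eq_sum_stab hHM η₀]
      refine Finset.sum_congr (Finset.filter_congr fun η _ => ⟨?_, ?_⟩) fun η _ => rfl
      · rintro ⟨he, hm⟩
        obtain ⟨g, hg, hge⟩ := exists_conj hMΓ hΓM hm₀ hm
        obtain ⟨n, hn, m, hm', rfl⟩ := hgen g hg
        rw [cjI_mul (hΓM (hNΓ hn)) (Subgroup.le_normalizer hm'), cjI_of_mem hm'] at hge
        refine ⟨n, (hH n).2 ⟨hn, ?_⟩, hge⟩
        have h1 := he₀.cjI hKM (hΓM (hNΓ hn)) (hΓK (hNΓ hn))
        rw [hge] at h1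
        exact Subtype.ext (h1.symm.trans he)
      · rintro ⟨n, hn, rfl⟩
        have h1 := he₀.cjI hKM (hHM hn) (hΓK (hHΓ hn))
        rw [((hH n).1 hn).2] at h1
        exact ⟨h1, by rwa [hinv χ n (hHΓ hn)]⟩
    · refine Finset.sum_eq_zero fun η _ => if_neg ?_
      rintro ⟨he, hm⟩
      exact hχθ (mult_ne_zero_trans hKM hMΓ hm (by rw [he.mult_eq_one hKM]; exact one_ne_zero))
  have hcnt : ∀ (A : Subgroup G) (φ : IrrCharacter A),
      cnt p Γ φ = ∑ χ : IrrCharacter Γ, if ¬ p ∣ deg χ ∧ mult χ φ ≠ 0 then 1 else 0 := by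
    intro A φ
    rw [cnt, Nat.card_eq_fintype_card, Fintype.card_subtype, Finset.card_filter]
  rw [hcnt K θ, Finset.mul_sum]
  calc _ = ∑ χ : IrrCharacter Γ, ∑ η : IrrCharacter M,
        if Ext η θ ∧ (¬ p ∣ deg χ ∧ mult χ η ≠ 0) then w η else 0 := by
        refine Finset.sum_congr rfl fun χ _ => ?_
        by_cases hχ : p ∣ deg χ
        · rw [if_neg (fun h => h.1 hχ), Finset.sum_eq_zero fun η _ => if_neg fun h => h.2.1 hχ,
            mul_zero]
        · rw [mul_ite, mul_one, mul_zero]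
          convert (hone χ hχ).symm using 2 <;> simp [hχ]
    _ = ∑ η : IrrCharacter M, ∑ χ : IrrCharacter Γ,
        if Ext η θ ∧ (¬ p ∣ deg χ ∧ mult χ η ≠ 0) then w η else 0 := Finset.sum_comm
    _ = _ := by
        refine Finset.sum_congr rfl fun η _ => ?_
        rw [hcnt M η, Finset.mul_sum]
        split_ifs with hη
        · refine Finset.sum_congr rfl fun χ _ => ?_
          rw [mul_ite, mul_one, mul_zero]
          exact if_congr (and_iff_right hη) rfl rfl
        · exact Finset.sum_eq_zero fun χ _ => if_neg fun h => hη h.1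

end CfsgLib.Char.RelMcKay
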