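import Cfsg.Agent.Lib.Char.RelMcKay.Chain
import Cfsg.Agent.Lib.Char.FullyRamifiedBasic
import Cfsg.Agent.Lib.Char.CoreInduced

/-!
# Counting the characters over an invariant character by good pairs

An element is good when every element commuting with it modulo the normal subgroup keeps the
character extendible.
-/

set_option autoImplicit false
set_option linter.unusedSectionVars false
set_option linter.style.haveILetI false

namespace CfsgLib.Char.RelMcKay

open scoped ComplexConjugate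
open Cfsg CfsgLib CfsgLib.Char

universe u

variable {G : Type u} [Group G] [Finite G]

noncomputable local instance instFinSub6 (A : Subgroup G) : Fintype A := Fintype.ofFinite _

noncomputable local instance instFinIrr6 (A : Subgroup G) : Fintype (IrrCharacter A) :=
  Fintype.ofFinite _

/-- `a` is good for `η` in `T`. -/
def Good (T : Subgroup G) {M : Subgroup G} (η : IrrCharacter M) (a : G) : Prop :=
  ∀ b ∈ T, a * b * a⁻¹ * b⁻¹ ∈ M → ExtTo η (M ⊔ Subgroup.zpowers a ⊔ Subgroup.zpowers b)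

theorem sum_avg_coset_eq {T M : Subgroup G} (hMT : M ≤ T) (F : T → ℂ) :
    ∑ a : T, ∑ m : M, F ⟨(m : G) * a, mul_mem (hMT m.2) a.2⟩ = (Nat.card M : ℂ) * ∑ a : T, F a := by
  rw [Finset.sum_comm, Finset.sum_congr rfl (g := fun _ : M => ∑ a : T, F a) fun m _ => ?_,
    Finset.sum_const, Finset.card_univ, nsmul_eq_mul, Nat.card_eq_fintype_card]
  exact Fintype.sum_equiv (Equiv.mulLeft (⟨m, hMT m.2⟩ : T)) _ _ fun a => rfl

open scoped Classical in
/-- The characters over `η` have square sum `|U|` on the coset of a good element, else `0`. -/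
theorem coset_norm {T M : Subgroup G} (hMT : M ≤ T) (hn : T ≤ Subgroup.normalizer (M : Set G))
    {η : IrrCharacter M} (hη : Fixed T η) {a : G} (ha : a ∈ T) :
    ∑ χ ∈ Finset.univ.filter (fun χ : IrrCharacter T => mult χ η ≠ 0),
        ∑ m : M, (χ : T → ℂ) ⟨(m : G) * a, mul_mem (hMT m.2) ha⟩ *
          conj ((χ : T → ℂ) ⟨(m : G) * a, mul_mem (hMT m.2) ha⟩) =
      if Good T η a then (Nat.card {b : T // a * b * a⁻¹ * (b : G)⁻¹ ∈ M} : ℂ) else 0 := by
  set A := M ⊔ Subgroup.zpowers a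
  have hMA : M ≤ A := le_sup_left
  have haA : a ∈ A := Subgroup.mem_sup_right (Subgroup.mem_zpowers a)
  have hAT : A ≤ T := sup_le hMT (Subgroup.zpowers_le.2 ha)
  have hzn : Subgroup.zpowers a ≤ Subgroup.normalizer (M : Set G) :=
    (Subgroup.zpowers_le.2 ha).trans hn
  have hAn : A ≤ Subgroup.normalizer (M : Set G) := hAT.trans hn
  obtain ⟨ηh, hηh⟩ := exists_ext_cyclic hMA hAn haA le_rfl (hη a ha)
  have habA : ∀ x ∈ A, ∀ y ∈ A, x * y * x⁻¹ * y⁻¹ ∈ M := by
    have hrep : ∀ x ∈ A, ∃ i : ℤ, x * (a ^ i)⁻¹ ∈ M := by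
      intro x hx
      obtain ⟨m, hm, y, hy, rfl⟩ := CfsgLib.Coprime.mem_sup_exists hzn hx
      obtain ⟨i, rfl⟩ := Subgroup.mem_zpowers_iff.1 hy
      exact ⟨i, by rwa [mul_inv_cancel_right]⟩
    intro x hx y hy
    obtain ⟨i, hi⟩ := hrep x hx
    obtain ⟨j, hj⟩ := hrep y hy
    set s := a ^ i
    set t := a ^ j
    have hst : t * s = s * t := by simp only [s, t]; rw [← zpow_add, ← zpow_add, add_comm]
    set m₁ := x * s⁻¹
    set m₂ := y * t⁻¹
    have ex : x = m₁ * s := by simp [m₁]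
    have ey : y = m₂ * t := by simp [m₂]
    have hs : s ∈ Subgroup.normalizer (M : Set G) := hzn (Subgroup.zpow_mem_zpowers a i)
    have ht : t ∈ Subgroup.normalizer (M : Set G) := hzn (Subgroup.zpow_mem_zpowers a j)
    have e : x * y * x⁻¹ * y⁻¹ = m₁ * (s * m₂ * s⁻¹) * (t * m₁⁻¹ * t⁻¹) * m₂⁻¹ := by
      have hc : s * t * s⁻¹ = t := by rw [← hst, mul_inv_cancel_right]
      rw [ex, ey, show m₁ * s * (m₂ * t) * (m₁ * s)⁻¹ * (m₂ * t)⁻¹ =
        m₁ * (s * m₂ * s⁻¹) * ((s * t * s⁻¹) * m₁⁻¹ * t⁻¹) * m₂⁻¹ by group, hc]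
    rw [e]
    exact mul_mem (mul_mem (mul_mem hi (conj_mem hs hj)) (conj_mem ht (inv_mem hi))) (inv_mem hj)
  haveI hMAn : (M.subgroupOf A).Normal := normal_subgroupOf hAn
  -- the coefficient of a character on the coset
  set pt : M → A := fun m => ⟨(m : G) * a, mul_mem (hMA m.2) haA⟩ with hpt
  have hMc : (Nat.card M : ℂ) ≠ 0 := Nat.cast_ne_zero.2 Nat.card_pos.ne'
  have hsumeq : ∀ F : A → ℂ, cosetAvg (M.subgroupOf A) F ⟨a, haA⟩ =
      (Nat.card M : ℂ)⁻¹ * ∑ m : M, F (pt m) := by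
    intro F
    rw [cosetAvg, Nat.card_congr (Subgroup.subgroupOfEquivOfLe hMA).toEquiv]
    congr 1
    exact Fintype.sum_equiv (Subgroup.subgroupOfEquivOfLe hMA).toEquiv _ _ fun n =>
      congrArg F (Subtype.ext rfl)
  have hresM : IsIrrCharacter (M.subgroupOf A) (fun n : M.subgroupOf A => (ηh : A → ℂ) n) := by
    rw [show (fun n : M.subgroupOf A => (ηh : A → ℂ) n) = (toSub hMA η : M.subgroupOf A → ℂ) from
      funext fun n => by
        rw [show (toSub hMA η : M.subgroupOf A → ℂ) n =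
          (η : M → ℂ) (Subgroup.subgroupOfEquivOfLe hMA n) from rfl,
          ← show res M (ηh : A → ℂ) = _ from hηh,
          res_apply (show ((Subgroup.subgroupOfEquivOfLe hMA n : M) : G) ∈ A from (n : A).2)]
        exact congrArg _ (Subtype.ext rfl)]
    exact (toSub hMA η).2
  have hηnorm : ∑ m : M, (ηh : A → ℂ) (pt m) * conj ((ηh : A → ℂ) (pt m)) = (Nat.card M : ℂ) := by
    have h1 := congrFun (cosetAvg_self_eq_one (M.subgroupOf A) ηh hresM) ⟨a, haA⟩
    rw [hsumeq] at h1
    rwa [inv_mul_eq_one₀ hMc, eq_comm] at h1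
  set coef : IrrCharacter T → ℂ := fun χ =>
    (Nat.card M : ℂ)⁻¹ * ∑ m : M, res A (χ : T → ℂ) (pt m) * conj ((ηh : A → ℂ) (pt m)) with hcoef
  -- a character over `η` is a multiple of the extension on the coset
  have hprop : ∀ χ : IrrCharacter T, mult χ η ≠ 0 → ∀ m : M,
      res A (χ : T → ℂ) (pt m) = coef χ * (ηh : A → ℂ) (pt m) := by
    intro χ hχ
    have hval : ∀ f : IrrCharacter A, mult χ f ≠ 0 → ∃ c : ℂ, ∀ m : M,
        (f : A → ℂ) (pt m) = c * (ηh : A → ℂ) (pt m) := by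
      intro f hf
      obtain ⟨ω, hω⟩ := exists_mult_ne_zero hMA f
      have hωη : ω = η := by
        by_contra hne
        exact mult_ne_zero_trans hMA hAT hf hω (mult_eq_zero_of_fixed hMT hn hη hχ hne)
      subst hωη
      obtain ⟨l, hl, he⟩ := exists_linMul_eq (M.subgroupOf A)
        (fun x y => Subgroup.mem_subgroupOf.2 (by simpa using habA x x.2 y y.2))
        (χ := ηh) (χ' := f) (θ := toSub hMA ω)
        (by rw [classInner_toSub_mult hMA, hηh.mult_eq_one hMA]; exact Nat.cast_ne_zero.mpr one_ne_zero)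
        (by rw [classInner_toSub_mult hMA]; exact Nat.cast_ne_zero.mpr hω)
      refine ⟨(l ⟨a, haA⟩ : ℂ), fun m => ?_⟩
      rw [← he]
      show (l (pt m) : ℂ) * (ηh : A → ℂ) (pt m) = _
      rw [show pt m = (⟨m, hMA m.2⟩ : A) * ⟨a, haA⟩ from rfl, map_mul,
        hl _ (Subgroup.mem_subgroupOf.2 m.2), one_mul]
    choose c hc using hval
    set S := ∑ f : IrrCharacter A, (if hf : mult χ f ≠ 0 then (mult χ f : ℂ) * c f hf else 0) with hS
    have hres : ∀ m : M, res A (χ : T → ℂ) (pt m) = S * (ηh : A → ℂ) (pt m) := fun m => by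
      rw [res_expand hAT, Finset.sum_apply, hS, Finset.sum_mul]
      refine Finset.sum_congr rfl fun f _ => ?_
      rw [Pi.smul_apply, smul_eq_mul]
      split_ifs with hf
      · rw [hc f hf]; ring
      · rw [not_not.1 hf]; simp
    have hcS : coef χ = S := by
      simp only [hcoef, hres, mul_assoc, ← Finset.mul_sum, hηnorm]
      field_simp
    exact fun m => by rw [hcS, hres m]
  have hpoint : ∀ (χ : IrrCharacter T) (m : M),
      (χ : T → ℂ) ⟨(m : G) * a, mul_mem (hMT m.2) ha⟩ = res A (χ : T → ℂ) (pt m) := fun χ m => by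
    rw [res_apply (hAT (pt m).2)]
  rw [Finset.sum_congr rfl (g := fun χ : IrrCharacter T =>
    (Nat.card M : ℂ) * (coef χ * conj (coef χ))) fun χ hχ => by
      rw [← hηnorm, Finset.sum_mul]
      refine Finset.sum_congr rfl fun m _ => ?_
      rw [hpoint, hprop χ (Finset.mem_filter.1 hχ).2, map_mul]
      ring]
  by_cases hgood : Good T η a
  swap
  · rw [if_neg hgood]
    refine Finset.sum_eq_zero fun χ hχ => ?_
    have hχη := (Finset.mem_filter.1 hχ).2
    simp only [Good, not_forall] at hgood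
    obtain ⟨b, hbT, hbc, hbext⟩ := hgood
    suffices h0 : coef χ = 0 by simp [h0]
    -- `b` moves the extension
    have hbA : Subgroup.zpowers b ≤ Subgroup.normalizer (A : Set G) := by
      refine Subgroup.zpowers_le.2 ?_
      have hbM : b ∈ Subgroup.normalizer (M : Set G) := hn hbT
      have key : ∀ x ∈ A, b * x * b⁻¹ ∈ A := by
        have hle : A ≤ A.comap (MulAut.conj b).toMonoidHom := by
          refine sup_le (fun x hx => ?_) (Subgroup.zpowers_le.2 ?_)
          · exact Subgroup.mem_sup_left (conj_mem hbM hx)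
          · show b * a * b⁻¹ ∈ A
            have e : b * a * b⁻¹ = (a * b * a⁻¹ * b⁻¹)⁻¹ * a := by group
            rw [e]
            exact mul_mem (Subgroup.mem_sup_left (inv_mem hbc)) haA
        exact fun x hx => hle hx
      have hmap : A.map (MulAut.conj b).toMonoidHom = A := by
        refine Subgroup.eq_of_le_of_card_ge ?_ ?_
        · rintro _ ⟨x, hx, rfl⟩
          exact key x hx
        · rw [Subgroup.card_map_of_injective (MulEquiv.injective _)]
      exact CfsgLib.Coprime.conjBy_eq_self_iff.1 hmap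
    have hbN : b ∈ Subgroup.normalizer (A : Set G) := hbA (Subgroup.mem_zpowers b)
    have hU : A ⊔ Subgroup.zpowers b ≤ Subgroup.normalizer (A : Set G) :=
      sup_le Subgroup.le_normalizer hbA
    have hmove : cjI b ηh ≠ ηh := fun e => hbext (by
      obtain ⟨F, hF⟩ := exists_ext_cyclic (le_sup_left : A ≤ A ⊔ Subgroup.zpowers b) hU
        (Subgroup.mem_sup_right (Subgroup.mem_zpowers b)) le_rfl e
      exact ⟨F, hF.trans hMA hηh⟩)
    have hbη : Ext (cjI b ηh) η := by
      have := hηh.cjI hMA hbN (hn hbT)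
      rwa [hη b hbT] at this
    obtain ⟨l, hl, he⟩ := exists_linMul_eq (M.subgroupOf A)
      (fun x y => Subgroup.mem_subgroupOf.2 (by simpa using habA x x.2 y y.2))
      (χ := ηh) (χ' := cjI b ηh) (θ := toSub hMA η)
      (by rw [classInner_toSub_mult hMA, hηh.mult_eq_one hMA]; exact Nat.cast_ne_zero.mpr one_ne_zero)
      (by rw [classInner_toSub_mult hMA, hbη.mult_eq_one hMA]; exact Nat.cast_ne_zero.mpr one_ne_zero)
    have hla : (l ⟨a, haA⟩ : ℂ) ≠ 1 := by
      intro h1
      have h1' : l ⟨a, haA⟩ = 1 := Units.ext h1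
      refine hmove (he.symm.trans (Subtype.ext (funext fun x => ?_)))
      have hlx : l x = 1 := by
        obtain ⟨m, hm, y, hy, e⟩ := CfsgLib.Coprime.mem_sup_exists hzn x.2
        obtain ⟨i, rfl⟩ := Subgroup.mem_zpowers_iff.1 hy
        have hx : x = (⟨m, hMA hm⟩ : A) * (⟨a, haA⟩ : A) ^ i := Subtype.ext (by simp [e])
        rw [hx, map_mul, map_zpow, h1', one_zpow, mul_one, hl _ (Subgroup.mem_subgroupOf.2 hm)]
      simp [linMul, hlx]
    obtain ⟨m, hm⟩ : ∃ m : M, (ηh : A → ℂ) (pt m) ≠ 0 := by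
      by_contra hno
      push Not at hno
      exact hMc (by rw [← hηnorm]; exact Finset.sum_eq_zero fun m _ => by rw [hno, zero_mul])
    -- evaluate at a point of the coset and at its conjugate
    set x := pt m
    have hxc : b⁻¹ * (x : G) * b ∈ A := inv_conj_mem hbN x.2
    obtain ⟨m', hm'⟩ : ∃ m' : M, pt m' = ⟨b⁻¹ * (x : G) * b, hxc⟩ := by
      refine ⟨⟨b⁻¹ * ((m : G) * (a * b * a⁻¹ * b⁻¹)) * b,
        inv_conj_mem (hn hbT) (mul_mem m.2 hbc)⟩, Subtype.ext ?_⟩
      simp [x, pt, mul_assoc]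
    have h1 : res A (χ : T → ℂ) (pt m') = res A (χ : T → ℂ) x := by
      rw [res_apply (hAT (pt m').2), res_apply (hAT x.2)]
      have := isClassFunction_irr χ ⟨x, hAT x.2⟩ ⟨b, hbT⟩⁻¹
      rw [← this]
      exact congrArg _ (Subtype.ext (by rw [hm']; simp))
    rw [hprop χ hχη, hprop χ hχη] at h1
    have h2 : (ηh : A → ℂ) (pt m') = (l x : ℂ) * (ηh : A → ℂ) x := by
      have h3 := congrArg (fun z : IrrCharacter A => (z : A → ℂ) x) he
      simp only [linMul] at h3
      rw [h3, cjI_coe hbN, cj_apply hbN, hm']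
    have h4 : l x = l ⟨a, haA⟩ := by
      rw [show x = (⟨m, hMA m.2⟩ : A) * ⟨a, haA⟩ from rfl, map_mul,
        hl _ (Subgroup.mem_subgroupOf.2 m.2), one_mul]
    rw [h2, h4] at h1
    by_contra hc0
    exact hla (mul_right_cancel₀ hm (by rw [one_mul]; exact mul_left_cancel₀ hc0 h1))
  rw [if_pos hgood]
  -- the centralizer of the coset
  let U : Subgroup G :=
    { carrier := {b | b ∈ T ∧ a * b * a⁻¹ * b⁻¹ ∈ M}
      one_mem' := ⟨one_mem _, by simp⟩
      mul_mem' := fun {s t} hs ht => ⟨mul_mem hs.1 ht.1, by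
        have e : a * (s * t) * a⁻¹ * (s * t)⁻¹ =
          (a * s * a⁻¹ * s⁻¹) * (s * (a * t * a⁻¹ * t⁻¹) * s⁻¹) := by group
        rw [e]
        exact mul_mem hs.2 (conj_mem (hn hs.1) ht.2)⟩
      inv_mem' := fun {s} hs => ⟨inv_mem hs.1, by
        have e : a * s⁻¹ * a⁻¹ * s⁻¹⁻¹ = s⁻¹ * (a * s * a⁻¹ * s⁻¹)⁻¹ * s := by group
        rw [e]
        exact inv_conj_mem (hn hs.1) (inv_mem hs.2)⟩ }
  have hUT : U ≤ T := fun b hb => hb.1
  have hUcard : Nat.card {b : T // a * b * a⁻¹ * (b : G)⁻¹ ∈ M} = Nat.card U :=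
    Nat.card_congr
      { toFun := fun b => ⟨b.1, b.1.2, b.2⟩
        invFun := fun b => ⟨⟨b, b.2.1⟩, b.2.2⟩
        left_inv := fun b => rfl
        right_inv := fun b => rfl }
  have hnormA : ∀ b ∈ U, b ∈ Subgroup.normalizer (A : Set G) := by
    intro b hb
    have key : ∀ b ∈ U, ∀ x ∈ A, b * x * b⁻¹ ∈ A := by
      intro b hb
      have hle : A ≤ A.comap (MulAut.conj b).toMonoidHom := by
        refine sup_le (fun x hx => Subgroup.mem_sup_left (conj_mem (hn hb.1) hx))
          (Subgroup.zpowers_le.2 ?_)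
        show b * a * b⁻¹ ∈ A
        have e : b * a * b⁻¹ = (a * b * a⁻¹ * b⁻¹)⁻¹ * a := by group
        rw [e]
        exact mul_mem (Subgroup.mem_sup_left (inv_mem hb.2)) haA
      exact fun x hx => hle hx
    rw [Subgroup.mem_normalizer_iff]
    refine fun x => ⟨key b hb x, fun hx => ?_⟩
    have := key b⁻¹ (U.inv_mem hb) _ hx
    simpa [mul_assoc] using this
  -- every element of `U` fixes the extension
  have hUfix : ∀ b ∈ U, cjI b ηh = ηh := by
    intro b hb
    obtain ⟨F, hF⟩ := hgood b hb.1 hb.2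
    set V := A ⊔ Subgroup.zpowers b
    obtain ⟨η', h1, h2⟩ := hF.middle hMA (le_sup_left : A ≤ V)
    have hVA : V ≤ Subgroup.normalizer (A : Set G) :=
      sup_le Subgroup.le_normalizer (Subgroup.zpowers_le.2 (hnormA b hb))
    have hη' : cjI b η' = η' :=
      h1.fixed le_sup_left hVA b (Subgroup.mem_sup_right (Subgroup.mem_zpowers b))
    obtain ⟨l, hl, he⟩ := exists_linMul_eq (M.subgroupOf A)
      (fun x y => Subgroup.mem_subgroupOf.2 (by simpa using habA x x.2 y y.2))
      (χ := η') (χ' := ηh) (θ := toSub hMA η)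
      (by rw [classInner_toSub_mult hMA, h2.mult_eq_one hMA]; exact Nat.cast_ne_zero.mpr one_ne_zero)
      (by rw [classInner_toSub_mult hMA, hηh.mult_eq_one hMA]; exact Nat.cast_ne_zero.mpr one_ne_zero)
    refine Subtype.ext (funext fun x => ?_)
    rw [cjI_coe (hnormA b hb), cj_apply (hnormA b hb), ← he]
    show (l _ : ℂ) * (η' : A → ℂ) _ = (l x : ℂ) * (η' : A → ℂ) x
    rw [← cj_apply (hnormA b hb) (η' : A → ℂ) x, ← cjI_coe (hnormA b hb), hη']
    congr 2
    rw [← mul_inv_eq_one, ← map_inv, ← map_mul]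
    refine hl _ (Subgroup.mem_subgroupOf.2 ?_)
    obtain ⟨y, hy, z, hz, e⟩ := CfsgLib.Coprime.mem_sup_exists hzn x.2
    obtain ⟨i, rfl⟩ := Subgroup.mem_zpowers_iff.1 hz
    show b⁻¹ * (x : G) * b * (x : G)⁻¹ ∈ M
    -- `b⁻¹` centralizes every power of `a` modulo `M`
    have hb' := U.inv_mem hb
    have hpow : b⁻¹ * a ^ i * b * (a ^ i)⁻¹ ∈ M := by
      let Zb : Subgroup G :=
        { carrier := {w | w ∈ Subgroup.normalizer (M : Set G) ∧ b⁻¹ * w * b * w⁻¹ ∈ M}
          one_mem' := ⟨one_mem _, by simp⟩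
          mul_mem' := fun {s t} hs ht => ⟨mul_mem hs.1 ht.1, by
            have e : b⁻¹ * (s * t) * b * (s * t)⁻¹ =
              (b⁻¹ * s * b * s⁻¹) * (s * (b⁻¹ * t * b * t⁻¹) * s⁻¹) := by group
            rw [e]
            exact mul_mem hs.2 (conj_mem hs.1 ht.2)⟩
          inv_mem' := fun {s} hs => ⟨inv_mem hs.1, by
            have e : b⁻¹ * s⁻¹ * b * s⁻¹⁻¹ = s⁻¹ * (b⁻¹ * s * b * s⁻¹)⁻¹ * s := by group
            rw [e]
            exact inv_conj_mem hs.1 (inv_mem hs.2)⟩ }
      have ha' : a ∈ Zb := ⟨hn ha, by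
        have := inv_mem hb'.2
        simpa [mul_assoc] using this⟩
      exact (Zb.zpow_mem ha' i).2
    have e2 : b⁻¹ * (x : G) * b * (x : G)⁻¹ =
        (b⁻¹ * y * b) * (b⁻¹ * a ^ i * b * (a ^ i)⁻¹) * y⁻¹ := by rw [← e]; group
    rw [e2]
    exact mul_mem (mul_mem (inv_conj_mem (hn hb.1) hy) hpow) (inv_mem hy)
  -- induce the extension, cut to the coset, from `U` to `T`
  set S := U.subgroupOf T
  set f : S → ℂ := fun u => if ((u : T) : G) * a⁻¹ ∈ M then extendByZero A (ηh : A → ℂ) ((u : T) : G)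
    else 0 with hf
  have hfval : ∀ (u : S) (hu : ((u : T) : G) * a⁻¹ ∈ M), f u = (ηh : A → ℂ) (pt ⟨_, hu⟩) := by
    intro u hu
    simp only [hf, if_pos hu]
    have e : ((u : T) : G) = ((pt ⟨_, hu⟩ : A) : G) := by simp [pt]
    exact (congrArg (extendByZero A (ηh : A → ℂ)) e).trans
      (Char.extendByZero_mem A _ (pt ⟨_, hu⟩).2)
  let eM : M ≃ {u : S // ((u : T) : G) * a⁻¹ ∈ M} :=
    { toFun := fun m => ⟨⟨⟨(m : G) * a, mul_mem (hMT m.2) ha⟩, Subgroup.mem_subgroupOf.2
        ⟨mul_mem (hMT m.2) ha, by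
          have h' := inv_conj_mem (hn ha) (inv_mem m.2)
          have e : a * ((m : G) * a) * a⁻¹ * ((m : G) * a)⁻¹ = a * m * a⁻¹ * (m : G)⁻¹ := by group
          rw [e]
          exact mul_mem (conj_mem (hn ha) m.2) (inv_mem m.2)⟩⟩, by simp⟩
      invFun := fun u => ⟨((u.1 : T) : G) * a⁻¹, u.2⟩
      left_inv := fun m => Subtype.ext (by simp)
      right_inv := fun u => Subtype.ext (Subtype.ext (Subtype.ext (by simp))) }
  have hsumS : ∀ F : S → ℂ, (∀ u : S, ((u : T) : G) * a⁻¹ ∉ M → F u = 0) →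
      ∑ u : S, F u = ∑ m : M, F (eM m).1 := by
    intro F hF
    rw [← Finset.sum_filter_of_ne (p := fun u : S => ((u : T) : G) * a⁻¹ ∈ M)
      (fun u _ hu => by_contra fun h => hu (hF u h)),
      Finset.sum_subtype (p := fun u : S => ((u : T) : G) * a⁻¹ ∈ M) _ (fun u => by simp) F]
    exact (Fintype.sum_equiv eM _ _ fun m => rfl).symm
  have hfm : ∀ m : M, f (eM m).1 = (ηh : A → ℂ) (pt m) := fun m => by
    rw [hfval _ (eM m).2]
    exact congrArg _ (Subtype.ext (by simp [pt, eM]))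
  set I := indFun S f
  have hIc : IsClassFunction T I := isClassFunction_indFun S f
  have hin : ∀ χ : IrrCharacter T, classInner I (χ : T → ℂ) =
      (Nat.card S : ℂ)⁻¹ * ((Nat.card M : ℂ) * conj (coef χ)) := by
    intro χ
    rw [classInner_indFun S f _ (isClassFunction_irr χ), classInner, hsumS]
    · congr 1
      simp only [hcoef, map_mul, map_inv₀, map_natCast, map_sum, Complex.conj_conj, hfm]
      rw [← mul_assoc, mul_inv_cancel₀ hMc, one_mul]
      refine Finset.sum_congr rfl fun m _ => ?_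
      rw [← hpoint, mul_comm]
      rfl
    · intro u hu
      simp [hf, if_neg hu]
  have hout : ∀ χ : IrrCharacter T, mult χ η = 0 → coef χ = 0 := by
    intro χ hχ
    have h1 := congrFun (eq_zero_of_char_one_eq_zero (isCharacter_cosetAvg (M.subgroupOf A)
      (isCharacter_mul (isCharacter_res hAT (isCharacter_irr χ)) (isCharacter_conj (isCharacter_irr ηh))))
      ((cosetAvg_one_eq (M.subgroupOf A) (res A (χ : T → ℂ)) (ηh : A → ℂ)).trans ?_)) ⟨a, haA⟩
    · exact (hsumeq _).symm.trans h1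
    · rw [show (fun n : M.subgroupOf A => (ηh : A → ℂ) n) = (toSub hMA η : M.subgroupOf A → ℂ) from
        funext fun n => by
          rw [show (toSub hMA η : M.subgroupOf A → ℂ) n =
            (η : M → ℂ) (Subgroup.subgroupOfEquivOfLe hMA n) from rfl,
            ← show res M (ηh : A → ℂ) = _ from hηh,
            res_apply (show ((Subgroup.subgroupOfEquivOfLe hMA n : M) : G) ∈ A from (n : A).2)]
          exact congrArg _ (Subtype.ext rfl), classInner_toSub hMA, res_res hMA, mult_spec hMT, hχ,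
        Nat.cast_zero]
  -- the values of `I` on the coset
  have hIval : ∀ u : S, ((u : T) : G) * a⁻¹ ∈ M → I (u : T) = f u := by
    intro u hu
    have hfix : ∀ t : T, extendByZero S f (t⁻¹ * u * t) = if t ∈ S then f u else 0 := by
      intro t
      by_cases ht : t ∈ S
      · have htU : (t : G) ∈ U := Subgroup.mem_subgroupOf.1 ht
        have hm : t⁻¹ * (u : T) * t ∈ S := mul_mem (mul_mem (inv_mem ht) u.2) ht
        rw [Char.extendByZero_mem _ _ hm, if_pos ht]
        set v : S := ⟨_, hm⟩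
        have hv : ((v : T) : G) = (t : G)⁻¹ * ((u : T) : G) * t := by simp [v]
        have hvM : ((v : T) : G) * a⁻¹ ∈ M := by
          have htinv := U.inv_mem htU
          have e : ((v : T) : G) * a⁻¹ = ((t : G)⁻¹ * (((u : T) : G) * a⁻¹) * t) *
              (a * (t : G)⁻¹ * a⁻¹ * ((t : G)⁻¹)⁻¹)⁻¹ := by rw [hv]; group
          rw [e]
          exact mul_mem (inv_conj_mem (hn t.2) hu) (inv_mem htinv.2)
        rw [hfval v hvM, hfval u hu]
        conv_rhs => rw [← hUfix _ htU]
        rw [cjI_coe (hnormA _ htU), cj_apply (hnormA _ htU)]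
        exact congrArg _ (Subtype.ext (by simp [pt, hv]))
      · rw [if_neg ht]
        by_cases hm : t⁻¹ * (u : T) * t ∈ S
        · rw [Char.extendByZero_mem _ _ hm, hf]
          refine if_neg fun h' => ht (Subgroup.mem_subgroupOf.2 ⟨t.2, ?_⟩)
          have h1 : (t : G)⁻¹ * ((u : T) : G) * t * a⁻¹ ∈ M := by simpa using h'
          have e : a * (t : G) * a⁻¹ * (t : G)⁻¹ = (((u : T) : G) * a⁻¹)⁻¹ *
              ((t : G) * ((t : G)⁻¹ * ((u : T) : G) * t * a⁻¹) * (t : G)⁻¹) := by group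
          rw [e]
          exact mul_mem (inv_mem hu) (conj_mem (hn t.2) h1)
        · exact Char.extendByZero_not_mem _ _ hm
    show indFun S f (u : T) = f u
    rw [indFun, Finset.sum_congr rfl fun t _ => hfix t, ← Finset.sum_filter, Finset.sum_const,
      nsmul_eq_mul, ← Fintype.card_subtype, ← Nat.card_eq_fintype_card, ← mul_assoc,
      inv_mul_cancel₀ (Nat.cast_ne_zero.2 Nat.card_pos.ne'), one_mul]
  have hII : classInner I I = (Nat.card S : ℂ)⁻¹ * (Nat.card M : ℂ) := by
    rw [classInner_indFun S f _ hIc, classInner, hsumS, ← hηnorm]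
    · congr 1
      refine Finset.sum_congr rfl fun m _ => ?_
      rw [hIval _ (eM m).2, hfm]
    · intro u hu
      simp [hf, if_neg hu]
  have hSc : (Nat.card S : ℂ) ≠ 0 := Nat.cast_ne_zero.2 Nat.card_pos.ne'
  rw [hUcard, ← Nat.card_congr (Subgroup.subgroupOfEquivOfLe hUT).toEquiv]
  rw [classInner_expand hIc, Finset.sum_congr rfl (g := fun χ : IrrCharacter T =>
      (Nat.card S : ℂ)⁻¹ * (Nat.card S : ℂ)⁻¹ * (Nat.card M : ℂ) *
        ((Nat.card M : ℂ) * (coef χ * conj (coef χ)))) fun χ _ => by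
      rw [hin]; generalize coef χ = z; simp only [map_mul, map_inv₀, map_natCast, Complex.conj_conj]; ring,
    ← Finset.mul_sum] at hII
  rw [Finset.sum_filter_of_ne (p := fun χ : IrrCharacter T => mult χ η ≠ 0) fun χ _ hne h0 => hne (by rw [hout χ h0]; simp)]
  field_simp at hII
  simp only [mul_assoc] at hII ⊢
  convert hII using 2

theorem card_irr_over {T M : Subgroup G} (hMT : M ≤ T) (hn : T ≤ Subgroup.normalizer (M : Set G))
    {η : IrrCharacter M} (hη : Fixed T η) :
    Nat.card T * Nat.card M * Nat.card {χ : IrrCharacter T // mult χ η ≠ 0} =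
      Nat.card {q : T × T // (q.1 : G) * q.2 * (q.1 : G)⁻¹ * (q.2 : G)⁻¹ ∈ M ∧ Good T η q.1} := by
  classical
  have hkey : ∀ χ : IrrCharacter T, ∑ x : T, (χ : T → ℂ) x * conj ((χ : T → ℂ) x) =
      (Nat.card T : ℂ) := by
    intro χ
    have h := classInner_irr_self χ
    rw [classInner, inv_mul_eq_one₀ (Nat.cast_ne_zero.2 Nat.card_pos.ne')] at h
    exact h.symm
  have h1 : ∑ x : T, ∑ χ ∈ Finset.univ.filter (fun χ : IrrCharacter T => mult χ η ≠ 0),
      ∑ m : M, (χ : T → ℂ) ⟨(m : G) * x, mul_mem (hMT m.2) x.2⟩ *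
        conj ((χ : T → ℂ) ⟨(m : G) * x, mul_mem (hMT m.2) x.2⟩) =
      ((Nat.card T * Nat.card M * Nat.card {χ : IrrCharacter T // mult χ η ≠ 0} : ℕ) : ℂ) := by
    rw [Finset.sum_comm, Finset.sum_congr rfl fun (χ : IrrCharacter T) _ =>
      (sum_avg_coset_eq hMT fun x => (χ : T → ℂ) x * conj ((χ : T → ℂ) x)).trans (by rw [hkey]),
      Finset.sum_const, nsmul_eq_mul, ← Fintype.card_subtype, ← Nat.card_eq_fintype_card]
    push_cast
    ring
  rw [Finset.sum_congr rfl fun (x : T) _ => coset_norm hMT hn hη x.2] at h1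
  have h2 : (Nat.card {q : T × T // (q.1 : G) * q.2 * (q.1 : G)⁻¹ * (q.2 : G)⁻¹ ∈ M ∧ Good T η q.1} : ℂ) =
      ∑ x : T, if Good T η x then
        (Nat.card {b : T // (x : G) * b * (x : G)⁻¹ * (b : G)⁻¹ ∈ M} : ℂ) else 0 := by
    simp only [Nat.card_eq_fintype_card, Fintype.card_subtype, Finset.card_filter, Fintype.sum_prod_type,
      Nat.cast_sum, Nat.cast_ite, Nat.cast_one, Nat.cast_zero]
    refine Finset.sum_congr rfl fun x _ => ?_
    split_ifs with hx
    · exact Finset.sum_congr rfl fun b _ => by simp [hx]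
    · exact Finset.sum_eq_zero fun b _ => if_neg fun h => hx h.2
  rw [← h2] at h1
  exact_mod_cast h1.symm

end CfsgLib.Char.RelMcKay
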