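import Cfsg.Agent.Lib.Char.RelMcKay.Chain

/-!
# Extendibility through the correspondence: the induction
-/

set_option autoImplicit false
set_option linter.unusedSectionVars false
set_option linter.style.haveILetI false

namespace CfsgLib.Char.RelMcKay

open Cfsg CfsgLib CfsgLib.Char

universe u

variable {G : Type u} [Group G] [Finite G]

noncomputable local instance instFinSub5 (A : Subgroup G) : Fintype A := Fintype.ofFinite _

noncomputable local instance instFinIrr5 (A : Subgroup G) : Fintype (IrrCharacter A) :=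
  Fintype.ofFinite _

theorem mult_eq_of_ext {U V W : Subgroup G} (hWV : W ≤ V) (hVU : V ≤ U) {χ : IrrCharacter U}
    {φ : IrrCharacter V} (h : Ext χ φ) (ω : IrrCharacter W) : mult χ ω = mult φ ω := by
  rw [mult_trans hWV hVU, Finset.sum_eq_single φ (fun ψ _ hne => by
    rw [show mult χ ψ = 0 from by_contra fun hm => hne (h.eq_of_mult_ne_zero hVU hm), zero_mul])
    (by simp), h.mult_eq_one hVU, one_mul]

theorem exists_fixed_decomp {p : ℕ} [hp : Fact p.Prime] {L E W₀ E₀ : Subgroup G} [L.Normal]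
    (hLE₀ : L ≤ E₀) (hE : PMod p L E) (hE₀E : E₀ ≤ E) (hcW : ¬ p ∣ L.relIndex W₀)
    (hEE₀ : E ≤ Subgroup.normalizer (E₀ : Set G)) (hWE₀ : W₀ ≤ Subgroup.normalizer (E₀ : Set G))
    (hker : ∀ w ∈ W₀, ∀ e ∈ E, e * w * e⁻¹ * w⁻¹ ∈ E₀) :
    ∀ e ∈ E, ∃ n ∈ E₀, e * n ∈ fixMod L E W₀ := by
  intro e he
  set π := QuotientGroup.mk' L
  have hpg : IsPGroup p (E₀.map π) := by
    rintro ⟨_, y, hy, rfl⟩
    obtain ⟨k, hk⟩ := hE y (hE₀E hy)
    exact ⟨k, Subtype.ext (by rw [Subgroup.coe_pow, ← map_pow]; exact (QuotientGroup.eq_one_iff _).2 hk)⟩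
  have hcop : (Nat.card (W₀.map π)).Coprime (Nat.card (E₀.map π)) := by
    obtain ⟨n, hn⟩ := IsPGroup.iff_card.1 hpg
    rw [hn, ← Subgroup.relIndex_ker, QuotientGroup.ker_mk']
    exact (((hp.out.coprime_iff_not_dvd).2 hcW).pow_left n).symm
  haveI := hpg.isNilpotent
  have hAN : W₀.map π ≤ Subgroup.normalizer ((E₀.map π : Subgroup (G ⧸ L)) : Set (G ⧸ L)) :=
    (Subgroup.map_mono hWE₀).trans (Subgroup.le_normalizer_map π)
  have hkN : π e ∈ Subgroup.normalizer ((E₀.map π : Subgroup (G ⧸ L)) : Set (G ⧸ L)) :=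
    Subgroup.le_normalizer_map π ⟨e, hEE₀ he, rfl⟩
  obtain ⟨_, ⟨n, hn, rfl⟩, hc⟩ := CfsgLib.Coprime.exists_fixed_in_coset hAN hcop
    (Or.inr (CfsgLib.Coprime.isSolvable_of_isNilpotent (H := E₀.map π) inferInstance)) hkN (by
      rintro _ ⟨w, hw, rfl⟩
      refine ⟨w * e * w⁻¹ * e⁻¹, ?_, by simp⟩
      have h1 := inv_mem (hker w hw e he)
      simpa [mul_assoc] using h1)
  refine ⟨n, hn, mem_fixMod.2 ⟨mul_mem he (hE₀E hn), fun w hw => ?_⟩⟩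
  have := Subgroup.mem_centralizer_iff.1 hc (π w) ⟨w, hw, rfl⟩
  show Commute (π w) (π (e * n))
  rw [map_mul]
  exact this

/-- `θ` extends to `KW` exactly when its correspondent extends to `W`. -/
theorem extends_iff {p : ℕ} [hp : Fact p.Prime] {L : Subgroup G} [L.Normal] :
    ∀ (K P W C : Subgroup G), L ≤ K → L ≤ P → PMod p L P → ¬ p ∣ L.relIndex K →
      P ≤ Subgroup.normalizer (K : Set G) → W ≤ Subgroup.normalizer (K : Set G) →
      W ≤ Subgroup.normalizer (P : Set G) → C = fixMod L K P → C ≤ W →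
      (∀ a ∈ W, ∀ b ∈ W, a * b * a⁻¹ * b⁻¹ ∈ C) → ¬ p ∣ L.relIndex W →
      ∀ (θ : IrrCharacter K) (φ : IrrCharacter C), Fixed P θ → Fixed W θ → Fixed P φ →
        ¬ p ∣ mult θ φ → (ExtTo θ (K ⊔ W) ↔ ExtTo φ W) := by
  classical
  intro K
  induction hn : Nat.card K using Nat.strong_induction_on generalizing K with
  | _ n ih => ?_
  intro P W C hLK hLP hPQ hcK hPK hWK hWP hC hCW hab hcW θ φ hPθ hWθ hPφ hm
  subst hn
  by_cases hne : C = K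
  · subst hne
    obtain rfl : θ = φ := by
      by_contra h
      rw [mult_self, if_neg h] at hm
      exact hm (dvd_zero p)
    rw [sup_eq_right.2 hCW]
  obtain ⟨E, W₀, hLE, hEP, hWE, hPE, hEne, hCW₀, hW₀W, hW₀n, hker, x, hxW, hgen⟩ :=
    exists_irreducible_section hLK hLP hPQ hPK hWK hWP hC hCW hab hcW hne
  have hPE' := hPQ.mono hEP
  have hEK := hEP.trans hPK
  have hcE := glauberman (p := p) hLK hcK E hEK hLE hPE'
  set K₁ := fixMod L K E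
  have hK₁K : K₁ ≤ K := fixMod_le _ _ _
  have hLK₁ : L ≤ K₁ := le_fixMod hLK
  have hCK₁ : C ≤ K₁ := hC ▸ fixMod_mono hEP
  have hWK₁ : W ≤ Subgroup.normalizer (K₁ : Set G) := le_normalizer_fixMod hWK hWE
  have hPK₁ : P ≤ Subgroup.normalizer (K₁ : Set G) := le_normalizer_fixMod hPK hPE
  have hPC : P ≤ Subgroup.normalizer (C : Set G) :=
    hC ▸ le_normalizer_fixMod hPK Subgroup.le_normalizer
  -- the intermediate character
  obtain ⟨θ₁, hθ₁E, hm₁, hu₁⟩ := hcE.below θ (hPθ.mono hEP)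
  have hfix₁ : ∀ g, g ∈ Subgroup.normalizer (K : Set G) → g ∈ Subgroup.normalizer (E : Set G) →
      g ∈ Subgroup.normalizer (K₁ : Set G) → cjI g θ = θ → cjI g θ₁ = θ₁ := fun g h1 h2 h3 h4 =>
    hu₁ _ (fixed_cjI h3 h2 (hEP.trans hPK₁) hθ₁E) (by
      conv => arg 1; arg 2; arg 1; rw [← h4]
      rwa [mult_cjI hK₁K h1 h3])
  have hPθ₁ : Fixed P θ₁ := fun g hg => hfix₁ g (hPK hg) (hPE hg) (hPK₁ hg) (hPθ g hg)
  have hWθ₁ : Fixed W θ₁ := fun g hg => hfix₁ g (hWK hg) (hWE hg) (hWK₁ hg) (hWθ g hg)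
  have hm₁φ : ¬ p ∣ mult θ₁ φ := fun hd => hm (((mult_modEq_of_unique hCK₁ hK₁K hPK hPK₁ hPC hPQ hLK₁
    hPθ hPφ θ₁ hPθ₁ fun θ' hθ' hne' => Dvd.dvd.mul_right
      (by_contra fun hnd => hne' (hu₁ θ' (hθ'.mono hEP) hnd)) _).dvd_iff dvd_rfl).2 (hd.mul_left _))
  have hlt : Nat.card K₁ < Nat.card K :=
    Set.Finite.card_lt_card (Set.toFinite (K : Set G))
      (lt_of_le_of_ne hK₁K fun e => hEne (SetLike.coe_injective e))
  have hC₁ : C = fixMod L K₁ P := le_antisymm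
    (fun c hc => mem_fixMod.2 ⟨hCK₁ hc, (mem_fixMod.1 (hC ▸ hc)).2⟩)
    (fun c hc => hC ▸ mem_fixMod.2 ⟨hK₁K (mem_fixMod.1 hc).1, (mem_fixMod.1 hc).2⟩)
  have hIH := ih _ hlt K₁ rfl P W C hLK₁ hLP hPQ
    (fun hd => hcK (hd.trans (Dvd.intro _ (Subgroup.relIndex_mul_relIndex L K₁ K hLK₁ hK₁K))))
    hPK₁ hWK₁ hWP hC₁ hCW hab hcW θ₁ φ hPθ₁ hWθ₁ hPφ hm₁φ
  rw [← hIH]
  -- the acting group on `U = K W₀`
  set D := fixMod L E W₀
  have hDE : D ≤ E := fixMod_le _ _ _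
  have hLW₀ : L ≤ W₀ := (hC ▸ le_fixMod hLK : L ≤ C).trans hCW₀
  have hcW₀ : ¬ p ∣ L.relIndex W₀ := fun hd => hcW
    (hd.trans (Dvd.intro _ (Subgroup.relIndex_mul_relIndex L W₀ W hLW₀ hW₀W)))
  have hdec := exists_fixed_decomp (E₀ := fixMod L E K) (le_fixMod hLE) hPE' (fixMod_le _ _ _) hcW₀
    (le_normalizer_fixMod Subgroup.le_normalizer hEK)
    (le_normalizer_fixMod (hW₀W.trans hWE) (hW₀W.trans hWK)) hker
  have hKD : fixMod L K D = K₁ := by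
    refine le_antisymm (fun k hk => ?_) (fixMod_mono hDE)
    refine mem_fixMod.2 ⟨(mem_fixMod.1 hk).1, fun e he => ?_⟩
    obtain ⟨n, hn', hen⟩ := hdec e he
    have h1 := (mem_fixMod.1 hk).2 _ hen
    have h2 := ((mem_fixMod.1 hn').2 k (mem_fixMod.1 hk).1).symm
    have h3 := h1.mul_left h2.inv_left
    rwa [QuotientGroup.mk_mul, mul_inv_cancel_right] at h3
  have hLD : L ≤ D := le_fixMod hLE
  have hPD : PMod p L D := hPE'.mono hDE
  have hcD := glauberman (p := p) hLK hcK D (hDE.trans hEK) hLD hPD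
  rw [hKD] at hcD
  set U := K ⊔ W₀
  set U₁ := K₁ ⊔ W₀
  have hW₀K : W₀ ≤ Subgroup.normalizer (K : Set G) := hW₀W.trans hWK
  have hKU : K ≤ U := le_sup_left
  have hK₁U₁ : K₁ ≤ U₁ := le_sup_left
  have hU₁U : U₁ ≤ U := sup_le_sup_right hK₁K _
  have hfixU : fixMod L U D = U₁ := by
    refine le_antisymm (fun u hu => ?_) (sup_le (fun k hk => ?_) fun w hw => ?_)
    · obtain ⟨hu1, hu2⟩ := mem_fixMod.1 hu
      obtain ⟨k, hk, w, hw, rfl⟩ := CfsgLib.Coprime.mem_sup_exists hW₀K hu1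
      refine Subgroup.mul_mem_sup (hKD ▸ mem_fixMod.2 ⟨hk, fun d hd => ?_⟩) hw
      have h1 := hu2 d hd
      have h2 : Commute (d : G ⧸ L) (w : G ⧸ L) := ((mem_fixMod.1 hd).2 w hw).symm
      have h3 := h1.mul_right h2.inv_right
      rwa [QuotientGroup.mk_mul, mul_inv_cancel_right] at h3
    · exact mem_fixMod.2 ⟨Subgroup.mem_sup_left (hK₁K hk), fun d hd =>
        (mem_fixMod.1 hk).2 d (hDE hd)⟩
    · exact mem_fixMod.2 ⟨Subgroup.mem_sup_right hw, fun d hd => ((mem_fixMod.1 hd).2 w hw).symm⟩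
  have hDK : D ≤ Subgroup.normalizer (K : Set G) := hDE.trans hEK
  have hDK₁ : D ≤ Subgroup.normalizer (K₁ : Set G) := hDE.trans (hEP.trans hPK₁)
  have hDU : D ≤ Subgroup.normalizer (U : Set G) := by
    have key : ∀ d ∈ D, ∀ u ∈ U, d * u * d⁻¹ ∈ U := by
      intro d hd u hu
      obtain ⟨k, hk, w, hw, rfl⟩ := CfsgLib.Coprime.mem_sup_exists hW₀K hu
      have e : d * (k * w) * d⁻¹ = (d * k * d⁻¹) * (d * w * d⁻¹ * w⁻¹) * w := by group
      rw [e]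
      exact mul_mem (mul_mem (Subgroup.mem_sup_left (conj_mem (hDK hd) hk))
        (Subgroup.mem_sup_left (hLK (commute_mk_iff.1 (((mem_fixMod.1 hd).2 w hw).symm)))))
        (Subgroup.mem_sup_right hw)
    intro d hd
    rw [Subgroup.mem_normalizer_iff]
    refine fun u => ⟨key d hd u, fun hu => ?_⟩
    have := key d⁻¹ (inv_mem hd) _ hu
    simpa [mul_assoc] using this
  have hDU₁ : D ≤ Subgroup.normalizer (U₁ : Set G) :=
    hfixU ▸ le_normalizer_fixMod hDU Subgroup.le_normalizer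
  have hcU : ¬ p ∣ L.relIndex U := by
    rw [← Subgroup.relIndex_mul_relIndex L K U hLK hKU, relIndex_sup_of_le_normalizer hW₀K]
    exact hp.out.not_dvd_mul hcK fun hd => hcW₀ (hd.trans (Subgroup.relIndex_dvd_of_le_left W₀ hLK))
  have hG := glauberman (p := p) (hLK.trans hKU) hcU D hDU hLD hPD
  rw [hfixU] at hG
  have hUK : U ≤ Subgroup.normalizer (K : Set G) := sup_le Subgroup.le_normalizer hW₀K
  have hU₁K₁ : U₁ ≤ Subgroup.normalizer (K₁ : Set G) :=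
    sup_le Subgroup.le_normalizer (hW₀W.trans hWK₁)
  have hWK_C : W ⊓ K ≤ C := by
    intro w hw
    obtain ⟨hw1, hw2⟩ := Subgroup.mem_inf.1 hw
    rw [hC]
    refine mem_fixMod.2 ⟨hw2, fun q hq => commute_mk_iff.2 (inf_le_of_coprime hcK hPQ
      (Subgroup.mem_inf.2 ⟨mul_mem (conj_mem (hPK hq) hw2) (inv_mem hw2), ?_⟩))⟩
    rw [mul_assoc, mul_assoc]
    refine mul_mem hq ?_
    rw [← mul_assoc]
    exact conj_mem (hWP hw1) (inv_mem hq)
  have hidx : K.relIndex U = K₁.relIndex U₁ := by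
    rw [relIndex_sup_of_le_normalizer hW₀K, relIndex_sup_of_le_normalizer (hW₀W.trans hWK₁),
      ← Subgroup.inf_relIndex_right K, ← Subgroup.inf_relIndex_right K₁]
    congr 1
    refine le_antisymm (fun w hw => ?_) (inf_le_inf_right _ hK₁K)
    obtain ⟨hw1, hw2⟩ := Subgroup.mem_inf.1 hw
    exact Subgroup.mem_inf.2 ⟨hCK₁ (hWK_C (Subgroup.mem_inf.2 ⟨hW₀W hw2, hw1⟩)), hw2⟩
  have habU : ∀ (M : Subgroup G) (hCM : C ≤ M) (hW₀M : W₀ ≤ Subgroup.normalizer (M : Set G)),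
      ∀ a ∈ M ⊔ W₀, ∀ b ∈ M ⊔ W₀, a * b * a⁻¹ * b⁻¹ ∈ M := by
    intro M hCM hW₀M a ha b hb
    obtain ⟨k, hk, w, hw, rfl⟩ := CfsgLib.Coprime.mem_sup_exists hW₀M ha
    obtain ⟨k', hk', w', hw', rfl⟩ := CfsgLib.Coprime.mem_sup_exists hW₀M hb
    have e : k * w * (k' * w') * (k * w)⁻¹ * (k' * w')⁻¹ =
        k * (w * k' * w⁻¹) * (w * w' * w⁻¹ * w'⁻¹) * (w' * k⁻¹ * w'⁻¹) * k'⁻¹ := by group
    rw [e]
    exact mul_mem (mul_mem (mul_mem (mul_mem hk (conj_mem (hW₀M hw) hk'))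
      (hCM (hab w (hW₀W hw) w' (hW₀W hw')))) (conj_mem (hW₀M hw') (inv_mem hk))) (inv_mem hk')
  have habK := habU K (hCK₁.trans hK₁K) hW₀K
  have habK₁ := habU K₁ hCK₁ (hW₀W.trans hWK₁)
  have hθ₁D : Fixed D θ₁ := hθ₁E.mono hDE
  have hθD : Fixed D θ := hPθ.mono (hDE.trans hEP)
  have hθU : Fixed U θ := fixed_sup Subgroup.le_normalizer hW₀K (fixed_self θ) (hWθ.mono hW₀W)
  have hθ₁U : Fixed U₁ θ₁ :=
    fixed_sup Subgroup.le_normalizer (hW₀W.trans hWK₁) (fixed_self θ₁) (hWθ₁.mono hW₀W)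
  have hcop : ¬ p ∣ K.relIndex U := fun hd => hcU
    (hd.trans (Dvd.intro_left _ (Subgroup.relIndex_mul_relIndex L K U hLK hKU)))
  have hdc : ∀ (M : Subgroup G), L ≤ M → W₀ ≤ Subgroup.normalizer (M : Set G) →
      D ≤ Subgroup.normalizer (M : Set G) → ∀ d ∈ D, ∀ u ∈ M ⊔ W₀, d⁻¹ * u * d * u⁻¹ ∈ M := by
    intro M hLM hW₀M hDM d hd u hu
    obtain ⟨k, hk, w, hw, rfl⟩ := CfsgLib.Coprime.mem_sup_exists hW₀M hu
    have e : d⁻¹ * (k * w) * d * (k * w)⁻¹ = (d⁻¹ * k * d) * (d⁻¹ * w * d * w⁻¹) * k⁻¹ := by group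
    rw [e]
    refine mul_mem (mul_mem (inv_conj_mem (hDM hd) hk) (hLM ?_)) (inv_mem hk)
    have := commute_mk_iff.1 (((mem_fixMod.1 (inv_mem hd)).2 w hw).symm)
    simpa using this
  have hD₁ : ∀ y : IrrCharacter U₁, Ext y θ₁ → Fixed D y := fun y hy d hd =>
    fixed_of_ext (hLK₁.trans hK₁U₁) hK₁U₁ hU₁K₁ (hidx ▸ hcop) habK₁ (hDU₁ hd) (hDK₁ hd)
      (hdc K₁ hLK₁ (hW₀W.trans hWK₁) hDK₁ d hd) (hPD d hd) hy (hθ₁D d hd)
  have hD : ∀ y : IrrCharacter U, Ext y θ → Fixed D y := fun y hy d hd =>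
    fixed_of_ext (hLK.trans hKU) hKU hUK hcop habK (hDU hd) (hDK hd)
      (hdc K hLK hW₀K hDK d hd) (hPD d hd) hy (hθD d hd)
  have hWU : ∀ (M : Subgroup G), W ≤ Subgroup.normalizer (M : Set G) →
      W ≤ Subgroup.normalizer ((M ⊔ W₀ : Subgroup G) : Set G) :=
    fun M hM => CfsgLib.Coprime.sup_le_normalizer hM hW₀n
  have hWD : W ≤ Subgroup.normalizer (D : Set G) := le_normalizer_fixMod hWE hW₀n
  have hxU : x ∈ Subgroup.normalizer (U : Set G) := hWU K hWK hxW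
  have hxU₁ : x ∈ Subgroup.normalizer (U₁ : Set G) := hWU K₁ hWK₁ hxW
  -- reduce both sides to fixed extensions
  have hT : ∀ (M : Subgroup G) (hM : W ≤ Subgroup.normalizer (M : Set G)) (η : IrrCharacter M),
      ExtTo η (M ⊔ W) ↔ ∃ χ : IrrCharacter (M ⊔ W₀ : Subgroup G), Ext χ η ∧ cjI x χ = χ :=
    fun M hM η => extTo_iff_cyclic le_sup_left (sup_le_sup_left hW₀W M)
      (sup_le (le_sup_left.trans Subgroup.le_normalizer) (hWU M hM))
      (Subgroup.mem_sup_right hxW)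
      (sup_le (le_sup_left.trans le_sup_left) (hgen.trans (sup_le_sup_right le_sup_right _))) η
  rw [hT K hWK θ, hT K₁ hWK₁ θ₁]
  constructor
  · rintro ⟨χ, hχ, hχx⟩
    -- the correspondents of the extensions of `θ`
    have hall : ∀ y : {χ : IrrCharacter U // Ext χ θ}, ∃ φ₀ : IrrCharacter U₁, Fixed D φ₀ ∧
        ¬ p ∣ mult y.1 φ₀ ∧ mult φ₀ θ₁ ≠ 0 := by
      rintro ⟨y, hy⟩
      obtain ⟨φ₀, h1, h2, h3⟩ := hG.below y (hD y hy)
      refine ⟨φ₀, h1, h2, fun h0 => hm₁ ?_⟩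
      have := mult_modEq_of_unique hK₁U₁ hU₁U hDU hDU₁ hDK₁ hPD (hLK₁.trans hK₁U₁) (hD y hy) hθ₁D
        φ₀ h1 fun φ' hφ' hne' => Dvd.dvd.mul_right (by_contra fun hnd => hne' (h3 φ' hφ' hnd)) _
      rw [mult_eq_of_ext hK₁K hKU hy, h0, mul_zero] at this
      exact Nat.modEq_zero_iff_dvd.1 this
    choose f hf1 hf2 hf3 using hall
    have hinj : Function.Injective f := fun y y' e =>
      Subtype.ext (hG.inj y.1 y'.1 (hD _ y.2) (hD _ y'.2) (f y) (hf1 y) (hf2 y) (e ▸ hf2 y'))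
    have hcard : Nat.card {χ : IrrCharacter U // Ext χ θ} = K₁.relIndex U₁ := by
      rw [← hidx, ← hχ.card_eq hKU hUK habK, Nat.card_eq_fintype_card, Fintype.card_subtype]
    refine ⟨f ⟨χ, hχ⟩, (all_ext_of_inj hK₁U₁ hU₁K₁ hθ₁U f hinj hcard hf3).1 _, ?_⟩
    refine hG.eq_of (hD χ hχ) (hf1 ⟨χ, hχ⟩) (fixed_cjI hxU₁ (hWD hxW) hDU₁ (hf1 ⟨χ, hχ⟩))
      (hf2 ⟨χ, hχ⟩) ?_
    conv => arg 1; arg 2; arg 1; rw [← hχx]
    rw [mult_cjI hU₁U hxU hxU₁]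
    exact hf2 ⟨χ, hχ⟩
  · rintro ⟨ψ, hψ, hψx⟩
    have hall : ∀ y : {ψ : IrrCharacter U₁ // Ext ψ θ₁}, ∃ χ : IrrCharacter U, Fixed D χ ∧
        ¬ p ∣ mult χ y.1 ∧ mult χ θ ≠ 0 := by
      rintro ⟨y, hy⟩
      obtain ⟨χ, h1, h2⟩ := hG.surj y (hD₁ y hy)
      refine ⟨χ, h1, h2, fun h0 => ?_⟩
      have e1 := mult_modEq_of_unique hK₁U₁ hU₁U hDU hDU₁ hDK₁ hPD (hLK₁.trans hK₁U₁) h1 hθ₁D
        y (hD₁ y hy) fun φ' hφ' hne' => Dvd.dvd.mul_right (by_contra fun hnd =>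
          hne' (hG.eq_of h1 (hD₁ y hy) hφ' h2 hnd)) _
      rw [hy.mult_eq_one hK₁U₁, mul_one] at e1
      have e2 := mult_modEq_of_unique hK₁K hKU hDU hDK hDK₁ hPD hLK h1 hθ₁D θ hθD
        fun θ' hθ' hne' => Dvd.dvd.mul_left (by_contra fun hnd =>
          hne' (hcD.inj θ' θ hθ' hθD θ₁ hθ₁D hnd hm₁)) _
      rw [h0, zero_mul] at e2
      exact h2 (Nat.modEq_zero_iff_dvd.1 (e1.symm.trans e2))
    choose f hf1 hf2 hf3 using hall
    have hinj : Function.Injective f := fun y y' e =>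
      Subtype.ext (hG.eq_of (hf1 y) (hD₁ _ y'.2) (hD₁ _ y.2) (e ▸ hf2 y') (hf2 y))
    have hcard : Nat.card {ψ : IrrCharacter U₁ // Ext ψ θ₁} = K.relIndex U := by
      rw [hidx, ← hψ.card_eq hK₁U₁ hU₁K₁ habK₁, Nat.card_eq_fintype_card, Fintype.card_subtype]
    refine ⟨f ⟨ψ, hψ⟩, (all_ext_of_inj hKU hUK hθU f hinj hcard hf3).1 _, ?_⟩
    refine hG.inj _ _ (fixed_cjI hxU (hWD hxW) hDU (hf1 ⟨ψ, hψ⟩)) (hf1 ⟨ψ, hψ⟩) ψ (hD₁ ψ hψ) ?_
      (hf2 ⟨ψ, hψ⟩)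
    conv => arg 1; arg 2; arg 2; rw [← hψx]
    rw [mult_cjI hU₁U hxU hxU₁]
    exact hf2 ⟨ψ, hψ⟩

end CfsgLib.Char.RelMcKay
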