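import Cfsg.Agent.Lib.Char.RelMcKay.Step

/-!
# The relative Glauberman correspondence for `p`-groups

`L` is normal, `U / L` has order prime to `p` and `Q / L` is a `p`-group acting on it.  A fixed
character of `U` has exactly one fixed constituent below, in the fixed points, of multiplicity prime
to `p`; this is a bijection between the fixed characters.
-/

set_option autoImplicit false
set_option linter.unusedSectionVars false
set_option linter.style.haveILetI false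

namespace CfsgLib.Char.RelMcKay

open Cfsg CfsgLib CfsgLib.Char

universe u

variable {G : Type u} [Group G] [Finite G]

noncomputable local instance instFinSub3 (A : Subgroup G) : Fintype A := Fintype.ofFinite _

noncomputable local instance instFinIrr3 (A : Subgroup G) : Fintype (IrrCharacter A) :=
  Fintype.ofFinite _

/-- A bijection between `Q`-fixed characters given by multiplicities prime to `p`. -/
structure IsCorr (p : ℕ) (U U₁ Q : Subgroup G) : Prop where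
  below : ∀ θ : IrrCharacter U, Fixed Q θ → ∃ φ : IrrCharacter U₁, Fixed Q φ ∧ ¬ p ∣ mult θ φ ∧
    ∀ φ' : IrrCharacter U₁, Fixed Q φ' → ¬ p ∣ mult θ φ' → φ' = φ
  inj : ∀ θ θ' : IrrCharacter U, Fixed Q θ → Fixed Q θ' → ∀ φ : IrrCharacter U₁, Fixed Q φ →
    ¬ p ∣ mult θ φ → ¬ p ∣ mult θ' φ → θ = θ'
  surj : ∀ φ : IrrCharacter U₁, Fixed Q φ → ∃ θ : IrrCharacter U, Fixed Q θ ∧ ¬ p ∣ mult θ φ

theorem IsCorr.eq_of {p : ℕ} {U U₁ Q : Subgroup G} (hc : IsCorr p U U₁ Q) {θ : IrrCharacter U}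
    (hθ : Fixed Q θ) {φ φ' : IrrCharacter U₁} (hφ : Fixed Q φ) (hφ' : Fixed Q φ')
    (h : ¬ p ∣ mult θ φ) (h' : ¬ p ∣ mult θ φ') : φ' = φ := by
  obtain ⟨ψ, -, -, hu⟩ := hc.below θ hθ
  rw [hu φ hφ h, hu φ' hφ' h']

theorem fixed_cjI {U Z : Subgroup G} {g : G} (hgU : g ∈ Subgroup.normalizer (U : Set G))
    (hgZ : g ∈ Subgroup.normalizer (Z : Set G)) (hZ : Z ≤ Subgroup.normalizer (U : Set G))
    {θ : IrrCharacter U} (h : Fixed Z θ) : Fixed Z (cjI g θ) := by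
  intro z hz
  have e : z * g = g * (g⁻¹ * z * g) := by group
  rw [← cjI_mul (hZ hz) hgU, e, cjI_mul hgU (hZ (inv_conj_mem hgZ hz)), h _ (inv_conj_mem hgZ hz)]

/-- A set stable under `Q` with exactly one point fixed by a subgroup has it fixed by `Q`. -/
theorem fixed_of_unique {p : ℕ} [hp : Fact p.Prime] {U L Q X : Subgroup G}
    (hQ : Q ≤ Subgroup.normalizer (U : Set G)) (hPQ : PMod p L Q) (hLU : L ≤ U) (hXQ : X ≤ Q)
    (S : IrrCharacter U → Prop) (hS : ∀ x ∈ Q, ∀ θ, S (cjI x θ) ↔ S θ) {θ : IrrCharacter U}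
    (hθX : Fixed X θ) (hθ : S θ) (huniq : ∀ θ', Fixed X θ' → S θ' → θ' = θ) : Fixed Q θ := by
  classical
  by_contra hno
  set f : IrrCharacter U → ℕ := fun θ' => if S θ' then 1 else 0
  have hf : ∀ x ∈ Q, ∀ θ', f (cjI x θ') = f θ' := fun x hx θ' => if_congr (hS x hx θ') rfl rfl
  have h1 := sum_modEq hQ hPQ hLU f hf
  have h2 := sum_modEq (hXQ.trans hQ) (hPQ.mono hXQ) hLU f fun x hx => hf x (hXQ hx)
  have e1 : ∑ θ' ∈ Finset.univ.filter (fun θ' : IrrCharacter U => Fixed Q θ'), f θ' = 0 :=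
    Finset.sum_eq_zero fun θ' hθ' => if_neg fun hs => hno
      (huniq θ' ((Finset.mem_filter.1 hθ').2.mono hXQ) hs ▸ (Finset.mem_filter.1 hθ').2)
  have e2 : ∑ θ' ∈ Finset.univ.filter (fun θ' : IrrCharacter U => Fixed X θ'), f θ' = 1 := by
    rw [Finset.sum_eq_single_of_mem θ (Finset.mem_filter.2 ⟨Finset.mem_univ _, hθX⟩)
      fun θ' hθ' hne => if_neg fun hs => hne (huniq θ' (Finset.mem_filter.1 hθ').2 hs)]
    exact if_pos hθ
  rw [e1] at h1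
  rw [e2] at h2
  have : Nat.ModEq p 0 1 := h1.symm.trans h2
  exact hp.out.not_dvd_one ((Nat.modEq_zero_iff_dvd).1 this.symm)

namespace CycStep

variable {p : ℕ} [hp : Fact p.Prime] {L R : Subgroup G} [L.Normal] {x : G} (h : CycStep p L R x)
include h

/-- The correspondence for a cyclic step. -/
theorem isCorr : IsCorr p R (fixMod L R (Subgroup.zpowers x)) (Subgroup.zpowers x) := by
  classical
  set R₁ := fixMod L R (Subgroup.zpowers x) with hR₁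
  set Bp : Subgroup G := R ⊔ Subgroup.zpowers (x ^ p) with hBp
  set Ap : Subgroup G := R₁ ⊔ Subgroup.zpowers (x ^ p) with hAp
  have hxN := h.hxR
  have hxN1 := h.x_mem_normalizer_R₁
  have hRB : R ≤ Bp := le_sup_left
  have hR1A : R₁ ≤ Ap := le_sup_left
  have hres : ∀ {θ : IrrCharacter R} {θ' : IrrCharacter Bp}, Ext θ' θ →
      ∀ φ : IrrCharacter R₁, mult θ' φ = mult θ φ := fun {θ θ'} he φ => by
    rw [mult_trans (fixMod_le _ _ _) hRB, Finset.sum_eq_single θ (fun ω _ hne => by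
      rw [show mult θ' ω = 0 from by_contra fun hm => hne (he.eq_of_mult_ne_zero hRB hm), zero_mul])
      (by simp), he.mult_eq_one hRB, one_mul]
  -- one level up, the congruence
  have key : ∀ {θ : IrrCharacter R} {θ' : IrrCharacter Bp} {ψ : IrrCharacter Ap} {φ₀ : IrrCharacter R₁},
      cjI x θ' = θ' → Ext θ' θ → cjI x ψ = ψ → ¬ p ∣ mult θ' ψ → Ext ψ φ₀ →
      ∀ φ : IrrCharacter R₁, cjI x φ = φ → (¬ p ∣ mult θ φ ↔ φ = φ₀) := by
    intro θ θ' ψ φ₀ hθ' he hψ hm hψe φ hφ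
    obtain ⟨ψ₁, -, -, hu⟩ := h.exists_unique_below hθ'
    have hcong := mult_modEq_of_unique (U := Bp) (V := Ap) (W := R₁) hR1A h.A'_le_B'
      (Subgroup.zpowers_le.2 h.x_mem_normalizer_B') (Subgroup.zpowers_le.2 h.x_mem_normalizer_A')
      (Subgroup.zpowers_le.2 hxN1) (PMod.sup_zpowers h.hxk) h.L_le_A'
      (fixed_zpowers h.x_mem_normalizer_B' hθ') (fixed_zpowers hxN1 hφ) ψ
      (fixed_zpowers h.x_mem_normalizer_A' hψ) fun ψ' hψ' hne => by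
        refine Dvd.dvd.mul_right (by_contra fun hnd => hne ?_) _
        rw [hu ψ hψ hm, hu ψ' (hψ' x (Subgroup.mem_zpowers x)) hnd]
    rw [hres he] at hcong
    constructor
    · intro hnd
      by_contra hne
      refine hnd ((hcong.dvd_iff dvd_rfl).2 ?_)
      rw [show mult ψ φ = 0 from by_contra fun hm' => hne (hψe.eq_of_mult_ne_zero hR1A hm'), mul_zero]
      exact dvd_zero p
    · rintro rfl hd
      have := (hcong.dvd_iff dvd_rfl).1 hd
      rw [hψe.mult_eq_one hR1A, mul_one] at this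
      exact hm this
  have hext : ∀ {θ : IrrCharacter R}, cjI x θ = θ → ∃ θ' : IrrCharacter Bp, Ext θ' θ := by
    intro θ hθ
    have hc := (h.exts_of_fixed h.zpowers_le_normalizer_R hθ).2
    have hne : Nonempty {θ' : IrrCharacter Bp // Ext θ' θ} :=
      (Nat.card_ne_zero.1 (hc.trans_ne Subgroup.index_ne_zero_of_finite)).1
    exact ⟨hne.some.1, hne.some.2⟩
  have hfix : ∀ {θ : IrrCharacter R} {θ' : IrrCharacter Bp}, cjI x θ = θ → Ext θ' θ →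
      cjI x θ' = θ' := fun hθ he => (h.exts_of_fixed h.zpowers_le_normalizer_R hθ).1 _ he
  have below : ∀ θ : IrrCharacter R, cjI x θ = θ → ∃ φ : IrrCharacter R₁, cjI x φ = φ ∧
      ¬ p ∣ mult θ φ ∧ ∀ φ' : IrrCharacter R₁, cjI x φ' = φ' → ¬ p ∣ mult θ φ' → φ' = φ := by
    intro θ hθ
    obtain ⟨θ', he⟩ := hext hθ
    have hθ' := hfix hθ he
    obtain ⟨ψ, hψ, hm, -⟩ := h.exists_unique_below hθ'
    obtain ⟨φ, hφ, hψe⟩ := h.exists_ext_below h.zpowers_le_normalizer_R₁ (le_fixMod h.hLR) hψ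
    exact ⟨φ, hφ, (key hθ' he hψ hm hψe φ hφ).2 rfl,
      fun φ' hφ' hnd => (key hθ' he hψ hm hψe φ' hφ').1 hnd⟩
  refine ⟨fun θ hθ => ?_, fun θ₁ θ₂ hθ₁ hθ₂ φ hφ h1 h2 => ?_, fun φ hφ => ?_⟩
  · obtain ⟨φ, hφ, hm, hu⟩ := below θ (hθ x (Subgroup.mem_zpowers x))
    exact ⟨φ, fixed_zpowers hxN1 hφ, hm, fun φ' hφ' => hu φ' (hφ' x (Subgroup.mem_zpowers x))⟩
  · -- the extensions of two characters go injectively to those of `φ`
    have hφx := hφ x (Subgroup.mem_zpowers x)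
    have hto : ∀ {θ : IrrCharacter R}, cjI x θ = θ → ¬ p ∣ mult θ φ →
        ∀ {θ' : IrrCharacter Bp}, Ext θ' θ → ∀ {ψ : IrrCharacter Ap}, cjI x ψ = ψ →
        ¬ p ∣ mult θ' ψ → Ext ψ φ := by
      intro θ hθ hm θ' he ψ hψ hmψ
      obtain ⟨φ₀, -, hψe⟩ := h.exists_ext_below h.zpowers_le_normalizer_R₁ (le_fixMod h.hLR) hψ
      rwa [(key (hfix hθ he) he hψ hmψ hψe φ hφx).1 hm]
    have hx1 := hθ₁ x (Subgroup.mem_zpowers x)
    have hx2 := hθ₂ x (Subgroup.mem_zpowers x)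
    by_contra hne
    let D := {θ' : IrrCharacter Bp // Ext θ' θ₁} ⊕ {θ' : IrrCharacter Bp // Ext θ' θ₂}
    let emb : D → IrrCharacter Bp := Sum.elim Subtype.val Subtype.val
    have hemb : Function.Injective emb := by
      rintro (⟨a, ha⟩ | ⟨a, ha⟩) (⟨b, hb⟩ | ⟨b, hb⟩) e <;> simp only [emb, Sum.elim_inl, Sum.elim_inr] at e
      · subst e; rfl
      · exact absurd (Subtype.ext (ha.symm.trans (e ▸ hb))) hne
      · exact absurd (Subtype.ext (hb.symm.trans (e ▸ ha))) hne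
      · subst e; rfl
    have hex : ∀ d : D, cjI x (emb d) = emb d ∧ ∃ ψ : IrrCharacter Ap,
        cjI x ψ = ψ ∧ ¬ p ∣ mult (emb d) ψ ∧ Ext ψ φ := by
      rintro (⟨a, ha⟩ | ⟨a, ha⟩)
      · obtain ⟨ψ, hψ, hm, -⟩ := h.exists_unique_below (hfix hx1 ha)
        exact ⟨hfix hx1 ha, ψ, hψ, hm, hto hx1 h1 ha hψ hm⟩
      · obtain ⟨ψ, hψ, hm, -⟩ := h.exists_unique_below (hfix hx2 ha)
        exact ⟨hfix hx2 ha, ψ, hψ, hm, hto hx2 h2 ha hψ hm⟩
    choose hD ψ hψ hψm hψe using hex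
    have hinj : Function.Injective fun d => (⟨ψ d, hψe d⟩ : {ψ : IrrCharacter Ap // Ext ψ φ}) := by
      intro d d' e
      have e' : ψ d = ψ d' := congrArg Subtype.val e
      exact hemb (h.below_injective (hD d) (hD d') (hψ d) (hψm d) (e' ▸ hψm d'))
    have hle := Nat.card_le_card_of_injective _ hinj
    rw [Nat.card_sum, (h.exts_of_fixed h.zpowers_le_normalizer_R hx1).2,
      (h.exts_of_fixed h.zpowers_le_normalizer_R hx2).2,
      (h.exts_of_fixed h.zpowers_le_normalizer_R₁ hφx).2, ← h.relIndex_eq] at hle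
    have hpos : 0 < R.relIndex (R ⊔ Subgroup.zpowers (x ^ p)) :=
      Nat.pos_of_ne_zero Subgroup.index_ne_zero_of_finite
    omega
  · have hφx := hφ x (Subgroup.mem_zpowers x)
    have hc := (h.exts_of_fixed h.zpowers_le_normalizer_R₁ hφx).2
    obtain ⟨⟨ψ, hψe⟩⟩ : Nonempty {ψ : IrrCharacter Ap // Ext ψ φ} :=
      (Nat.card_ne_zero.1 (hc.trans_ne Subgroup.index_ne_zero_of_finite)).1
    have hψ := (h.exts_of_fixed h.zpowers_le_normalizer_R₁ hφx).1 ψ hψe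
    obtain ⟨θ', hθ', hm⟩ := h.exists_above hψ
    obtain ⟨θ, hθ, he⟩ := h.exists_ext_below h.zpowers_le_normalizer_R h.hLR hθ'
    exact ⟨θ, fixed_zpowers hxN hθ, (key hθ' he hψ hm hψe φ hφx).2 rfl⟩

end CycStep

theorem exists_maximal {p : ℕ} [hp : Fact p.Prime] {L Q : Subgroup G} [L.Normal] (hLQ : L ≤ Q)
    (hPQ : PMod p L Q) (hne : ¬ Q ≤ L) :
    ∃ Z : Subgroup G, L ≤ Z ∧ Z ≤ Q ∧ Q ≤ Subgroup.normalizer (Z : Set G) ∧
      ∃ x ∈ Q, x ∉ Z ∧ x ^ p ∈ Z ∧ Q ≤ Z ⊔ Subgroup.zpowers x := by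
  set N := L.subgroupOf Q
  have hpg : IsPGroup p (Q ⧸ N) := by
    intro q
    obtain ⟨y, rfl⟩ := QuotientGroup.mk_surjective q
    obtain ⟨k, hk⟩ := hPQ y y.2
    exact ⟨k, by rw [← QuotientGroup.mk_pow, QuotientGroup.eq_one_iff]; exact Subgroup.mem_subgroupOf.2 (by simpa using hk)⟩
  haveI : Nontrivial (Q ⧸ N) := by
    rw [QuotientGroup.nontrivial_iff]
    intro e
    exact hne fun y hy => Subgroup.mem_subgroupOf.1 (e ▸ Subgroup.mem_top (⟨y, hy⟩ : Q))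
  obtain ⟨M, hM⟩ : ∃ M : Subgroup (Q ⧸ N), IsCoatom M := by
    obtain ⟨M, hM, -⟩ := (eq_top_or_exists_le_coatom (⊥ : Subgroup (Q ⧸ N))).resolve_left bot_ne_top
    exact ⟨M, hM⟩
  haveI : Group.IsNilpotent (Q ⧸ N) := hpg.isNilpotent
  haveI hMn : M.Normal :=
    Subgroup.NormalizerCondition.normal_of_coatom M (Group.normalizerCondition_of_isNilpotent (G := Q ⧸ N)) hM
  set M' : Subgroup Q := M.comap (QuotientGroup.mk' N)
  have hMN : N ≤ M' := fun y hy => by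
    show (y : Q ⧸ N) ∈ M
    rw [(QuotientGroup.eq_one_iff y).2 hy]; exact one_mem _
  refine ⟨M'.map Q.subtype, fun y hy => ⟨⟨y, hLQ hy⟩, hMN (Subgroup.mem_subgroupOf.2 hy), rfl⟩,
    Subgroup.map_subtype_le _, ?_, ?_⟩
  · intro q hq
    rw [Subgroup.mem_normalizer_iff]
    intro y
    constructor
    · rintro ⟨m, hm, rfl⟩
      exact ⟨⟨q, hq⟩ * m * (⟨q, hq⟩ : Q)⁻¹, (inferInstance : M'.Normal).conj_mem m hm _, by simp⟩
    · rintro ⟨m, hm, e⟩
      refine ⟨(⟨q, hq⟩ : Q)⁻¹ * m * ⟨q, hq⟩, ?_, ?_⟩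
      · have := (inferInstance : M'.Normal).conj_mem m hm (⟨q, hq⟩ : Q)⁻¹
        simpa using this
      · simp only [map_mul, map_inv, e]
        simp [mul_assoc]
  have hM'top : M' ≠ ⊤ := fun e => hM.1 (top_unique fun q _ => by
    obtain ⟨y, rfl⟩ := QuotientGroup.mk_surjective q
    have hy' : y ∈ M' := e.symm ▸ Subgroup.mem_top y
    exact hy')
  obtain ⟨y, -, hy⟩ : ∃ y ∈ (⊤ : Subgroup Q), y ∉ M' := SetLike.exists_of_lt hM'top.lt_top
  -- a last power outside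
  obtain ⟨k, hk⟩ := hPQ y y.2
  have hex : ∃ j : ℕ, y ^ p ^ j ∈ M' := ⟨k, hMN (Subgroup.mem_subgroupOf.2 (by simpa using hk))⟩
  classical
  set j := Nat.find hex
  have hj0 : j ≠ 0 := fun e => hy (by
    have h' : y ^ p ^ j ∈ M' := Nat.find_spec hex
    rwa [e, pow_zero, pow_one] at h')
  set x : Q := y ^ p ^ (j - 1)
  have hxM : x ∉ M' := Nat.find_min hex (by omega)
  have hxp : x ^ p ∈ M' := by
    show (y ^ p ^ (j - 1)) ^ p ∈ M'
    rw [← pow_mul, ← pow_succ, Nat.sub_add_cancel (Nat.one_le_iff_ne_zero.2 hj0)]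
    exact Nat.find_spec hex
  refine ⟨x, x.2, fun ⟨m, hm, e⟩ => hxM ((Subtype.ext e : m = x) ▸ hm), ⟨x ^ p, hxp, by simp⟩, ?_⟩
  have hsup : M ⊔ Subgroup.zpowers (x : Q ⧸ N) = ⊤ :=
    hM.2 _ (left_lt_sup.2 (by rw [Subgroup.zpowers_le]; exact hxM))
  intro q hq
  have hq' : ((⟨q, hq⟩ : Q) : Q ⧸ N) ∈ M ⊔ Subgroup.zpowers (x : Q ⧸ N) := hsup ▸ Subgroup.mem_top _
  obtain ⟨m, hm, z, hz, e⟩ := Subgroup.mem_sup_of_normal_left.1 hq'
  obtain ⟨i, rfl⟩ := Subgroup.mem_zpowers_iff.1 hz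
  have hmem : (⟨q, hq⟩ : Q) * (x ^ i)⁻¹ ∈ M' := by
    show (((⟨q, hq⟩ : Q) * (x ^ i)⁻¹ : Q) : Q ⧸ N) ∈ M
    rw [QuotientGroup.mk_mul, QuotientGroup.mk_inv, QuotientGroup.mk_zpow, ← e, mul_inv_cancel_right]
    exact hm
  have hq2 : q = (((⟨q, hq⟩ : Q) * (x ^ i)⁻¹ : Q) : G) * (x : G) ^ i := by simp
  rw [hq2]
  exact Subgroup.mul_mem_sup ⟨_, hmem, rfl⟩ (Subgroup.zpow_mem_zpowers _ i)

/-- The relative Glauberman correspondence. -/
theorem glauberman {p : ℕ} [hp : Fact p.Prime] {L U : Subgroup G} [L.Normal] (hLU : L ≤ U)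
    (hcop : ¬ p ∣ L.relIndex U) :
    ∀ Q : Subgroup G, Q ≤ Subgroup.normalizer (U : Set G) → L ≤ Q → PMod p L Q →
      IsCorr p U (fixMod L U Q) Q := by
  classical
  intro Q
  induction hn : Nat.card Q using Nat.strong_induction_on generalizing Q with
  | _ n ih => ?_
  intro hQU hLQ hPQ
  subst hn
  by_cases hne : Q ≤ L
  · obtain rfl : Q = L := le_antisymm hne hLQ
    rw [fixMod_bot]
    have hm : ∀ θ φ : IrrCharacter U, ¬ p ∣ mult θ φ ↔ θ = φ := fun θ φ => by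
      rw [mult_self]
      split_ifs with e
      · simp [e, hp.out.ne_one]
      · simp [e]
    exact ⟨fun θ hθ => ⟨θ, hθ, (hm θ θ).2 rfl, fun φ _ h => ((hm θ φ).1 h).symm⟩,
      fun θ θ' _ _ φ _ h h' => ((hm θ φ).1 h).trans ((hm θ' φ).1 h').symm,
      fun φ hφ => ⟨φ, hφ, (hm φ φ).2 rfl⟩⟩
  obtain ⟨Z, hLZ, hZQ, hQZ, x, hxQ, hxZ, hxp, hgen⟩ := exists_maximal hLQ hPQ hne
  have hlt : Nat.card Z < Nat.card Q := by
    refine Set.Finite.card_lt_card (Set.toFinite (Q : Set G)) (lt_of_le_of_ne hZQ ?_)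
    intro e
    exact hxZ (SetLike.coe_injective e ▸ hxQ)
  have hPZ := hPQ.mono hZQ
  have hZU := hZQ.trans hQU
  have hcZ := ih _ hlt Z rfl hZU hLZ hPZ
  set R := fixMod L U Z with hR
  have hQR : Q ≤ Subgroup.normalizer (R : Set G) := le_normalizer_fixMod hQU hQZ
  have hLR : L ≤ R := le_fixMod hLU
  have hst : CycStep p L R x :=
    { hLR := hLR
      cop := fun hd => hcop (hd.trans (by
        rw [← Subgroup.relIndex_mul_relIndex L R U hLR (fixMod_le _ _ _)]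
        exact dvd_mul_right _ _))
      hxR := hQR hxQ
      hxp := fun r hr => by
        rw [← QuotientGroup.mk_pow]
        exact (mem_fixMod.1 hr).2 _ hxp
      hxk := hPQ x hxQ
      hxL := fun hxL => hxZ (hLZ hxL) }
  have hU₁ : fixMod L U Q = fixMod L R (Subgroup.zpowers x) := by
    refine le_antisymm (fun u hu => mem_fixMod.2 ⟨fixMod_mono hZQ hu, fun q hq => ?_⟩) fun u hu => ?_
    · exact (mem_fixMod.1 hu).2 q (Subgroup.zpowers_le.2 hxQ hq)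
    · obtain ⟨huR, hux⟩ := mem_fixMod.1 hu
      obtain ⟨huU, huZ⟩ := mem_fixMod.1 huR
      refine mem_fixMod.2 ⟨huU, fun q hq => ?_⟩
      obtain ⟨z, hz, y, hy, rfl⟩ := CfsgLib.Coprime.mem_sup_exists
        ((Subgroup.zpowers_le.2 hxQ).trans hQZ) (hgen hq)
      rw [QuotientGroup.mk_mul]
      exact (huZ z hz).mul_left (hux y hy)
  rw [hU₁]
  set U₁ := fixMod L R (Subgroup.zpowers x)
  have hstep := hst.isCorr
  have hQU₁ : Q ≤ Subgroup.normalizer (U₁ : Set G) := by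
    rw [← hU₁]
    exact le_normalizer_fixMod hQU Subgroup.le_normalizer
  have hxle : Subgroup.zpowers x ≤ Q := Subgroup.zpowers_le.2 hxQ
  have hU₁R : U₁ ≤ R := fixMod_le _ _ _
  have hRU : R ≤ U := fixMod_le _ _ _
  have hLU₁ : L ≤ U₁ := le_fixMod hLR
  -- the middle character of a `Q`-fixed one
  have mid : ∀ θ : IrrCharacter U, Fixed Q θ → ∃ θ' : IrrCharacter R, Fixed Q θ' ∧
      ¬ p ∣ mult θ θ' ∧ ∀ φ : IrrCharacter U₁, Fixed Q φ →
        (p ∣ mult θ φ ↔ p ∣ mult θ' φ) := by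
    intro θ hθ
    obtain ⟨θ', hθ', hm, hu⟩ := hcZ.below θ (hθ.mono hZQ)
    have hQθ' : Fixed Q θ' := fun q hq =>
      hu _ (fixed_cjI (hQR hq) (hQZ hq) (hZQ.trans hQR) hθ') (by
        conv => arg 1; arg 2; arg 1; rw [← hθ q hq]
        rwa [mult_cjI hRU (hQU hq) (hQR hq)])
    refine ⟨θ', hQθ', hm, fun φ hφ => ?_⟩
    rw [(mult_modEq_of_unique hU₁R hRU hQU hQR hQU₁ hPQ hLR hθ hφ θ' hQθ' fun θ'' h'' hne =>
      Dvd.dvd.mul_right (by_contra fun hnd => hne (hu θ'' (h''.mono hZQ) hnd)) _).dvd_iff dvd_rfl,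
      hp.out.dvd_mul, or_iff_right hm]
  refine ⟨fun θ hθ => ?_, fun θ₁ θ₂ hθ₁ hθ₂ φ hφ h1 h2 => ?_, fun φ hφ => ?_⟩
  · obtain ⟨θ', hθ', -, hiff⟩ := mid θ hθ
    obtain ⟨φ, hφ, hm, hu⟩ := hstep.below θ' (hθ'.mono hxle)
    have hQφ : Fixed Q φ := fixed_of_unique hQU₁ hPQ hLU₁ hxle (fun φ => ¬ p ∣ mult θ' φ)
      (fun q hq φ' => by
        conv_lhs => rw [← hθ' q hq]
        rw [mult_cjI hU₁R (hQR hq) (hQU₁ hq)]) hφ hm hu
    exact ⟨φ, hQφ, fun hd => hm ((hiff φ hQφ).1 hd),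
      fun φ' hφ' hnd => hu φ' (hφ'.mono hxle) fun hd => hnd ((hiff φ' hφ').2 hd)⟩
  · obtain ⟨θ₁', hθ₁', hm₁, hiff₁⟩ := mid θ₁ hθ₁
    obtain ⟨θ₂', hθ₂', hm₂, hiff₂⟩ := mid θ₂ hθ₂
    have e : θ₁' = θ₂' := hstep.inj θ₁' θ₂' (hθ₁'.mono hxle) (hθ₂'.mono hxle) φ (hφ.mono hxle)
      (fun hd => h1 ((hiff₁ φ hφ).2 hd)) (fun hd => h2 ((hiff₂ φ hφ).2 hd))
    exact hcZ.inj θ₁ θ₂ (hθ₁.mono hZQ) (hθ₂.mono hZQ) θ₁' (hθ₁'.mono hZQ) hm₁ (e ▸ hm₂)
  · obtain ⟨θ', hθ', hm⟩ := hstep.surj φ (hφ.mono hxle)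
    have hQθ' : Fixed Q θ' := fixed_of_unique hQR hPQ hLR hxle (fun θ => ¬ p ∣ mult θ φ)
      (fun q hq θ'' => by
        conv_lhs => rw [← hφ q hq]
        rw [mult_cjI hU₁R (hQR hq) (hQU₁ hq)]) hθ' hm
      fun θ'' hf hm'' => hstep.inj θ'' θ' hf hθ' φ (hφ.mono hxle) hm'' hm
    obtain ⟨θ, hθ, hmθ⟩ := hcZ.surj θ' (hQθ'.mono hZQ)
    have hQθ : Fixed Q θ := fun q hq =>
      hcZ.inj _ θ (fixed_cjI (hQU hq) (hQZ hq) hZU hθ) hθ θ' (hQθ'.mono hZQ) (by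
        conv => arg 1; arg 2; arg 2; rw [← hQθ' q hq]
        rwa [mult_cjI hRU (hQU hq) (hQR hq)]) hmθ
    refine ⟨θ, hQθ, ?_⟩
    obtain ⟨θ₀, hθ₀, hm₀, hiff⟩ := mid θ hQθ
    have e : θ₀ = θ' := hcZ.eq_of hθ (hQθ'.mono hZQ) (hθ₀.mono hZQ) hmθ hm₀
    subst e
    exact fun hd => hm ((hiff φ hφ).1 hd)

end CfsgLib.Char.RelMcKay
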