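import Cfsg.Agent.Lib.Char.RelMcKay.Extends

/-!
# Restricting across a normal subgroup

For `U = V Y` with `V` normal and an invariant character of `V`, multiplicities in `U` factor
through `V ⊓ Y`.
-/

set_option autoImplicit false
set_option linter.unusedSectionVars false
set_option linter.style.haveILetI false

namespace CfsgLib.Char.RelMcKay

open scoped ComplexConjugate
open Cfsg CfsgLib CfsgLib.Char

universe u

variable {G : Type u} [Group G] [Finite G]

noncomputable local instance instFinSub8 (A : Subgroup G) : Fintype A := Fintype.ofFinite _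

noncomputable local instance instFinIrr8 (A : Subgroup G) : Fintype (IrrCharacter A) :=
  Fintype.ofFinite _

theorem relIndex_eq_pow {p : ℕ} [hp : Fact p.Prime] {U V : Subgroup G}
    (hn : U ≤ Subgroup.normalizer (V : Set G)) (hPU : PMod p V U) :
    ∃ k : ℕ, V.relIndex U = p ^ k := by
  haveI := normal_subgroupOf (U := U) (V := V) hn
  have hpg : IsPGroup p (U ⧸ V.subgroupOf U) := by
    intro q
    obtain ⟨x, rfl⟩ := QuotientGroup.mk_surjective q
    obtain ⟨k, hk⟩ := hPU x x.2
    exact ⟨k, by rw [← QuotientGroup.mk_pow, QuotientGroup.eq_one_iff]; exact Subgroup.mem_subgroupOf.2 hk⟩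
  obtain ⟨k, hk⟩ := IsPGroup.iff_card.1 hpg
  exact ⟨k, hk⟩

/-- Over an invariant character with `p`-quotient a multiplicity prime to `p` is one. -/
theorem ext_of_not_dvd_mult {p : ℕ} [hp : Fact p.Prime] {U V : Subgroup G} (h : V ≤ U)
    (hn : U ≤ Subgroup.normalizer (V : Set G)) (hPU : PMod p V U) {χ : IrrCharacter U}
    {φ : IrrCharacter V} (hφ : Fixed U φ) (hm : ¬ p ∣ mult χ φ) : Ext χ φ := by
  have hm0 : mult χ φ ≠ 0 := fun e => hm (e ▸ dvd_zero p)
  obtain ⟨e, he, hdvd⟩ := deg_dvd h hn hm0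
  rw [deg_eq_mult_mul h hn hφ hm0, mul_comm] at he
  rw [← Nat.eq_of_mul_eq_mul_left (deg_pos φ) he] at hdvd
  obtain ⟨k, hk⟩ := relIndex_eq_pow hn hPU
  rw [hk] at hdvd
  obtain ⟨i, -, hi⟩ := (Nat.dvd_prime_pow hp.out).1 hdvd
  refine ext_of_mult_one h hn hφ ?_
  rcases Nat.eq_zero_or_pos i with rfl | hi0
  · rw [hi, pow_zero]
  · exact (hm (hi ▸ dvd_pow_self p hi0.ne')).elim

/-- A character of degree prime to `p` restricts irreducibly along a `p`-quotient to an invariant
character. -/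
theorem ext_of_not_dvd_deg {p : ℕ} [hp : Fact p.Prime] {U V : Subgroup G} (h : V ≤ U)
    (hn : U ≤ Subgroup.normalizer (V : Set G)) (hPU : PMod p V U) {χ : IrrCharacter U}
    {φ : IrrCharacter V} (hφ : Fixed U φ) (hm : mult χ φ ≠ 0) (hd : ¬ p ∣ deg χ) : Ext χ φ :=
  ext_of_not_dvd_mult h hn hPU hφ fun hdv => hd (deg_eq_mult_mul h hn hφ hm ▸ hdv.mul_right _)

/-- The sum of the characters over an invariant one, weighted by multiplicity. -/
theorem sum_mult_apply {U V : Subgroup G} (h : V ≤ U) (hn : U ≤ Subgroup.normalizer (V : Set G))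
    {φ : IrrCharacter V} (hφ : Fixed U φ) (u : U) :
    ∑ χ : IrrCharacter U, (mult χ φ : ℂ) * (χ : U → ℂ) u =
      (V.relIndex U : ℂ) * extendByZero V (φ : V → ℂ) (u : G) := by
  by_cases hu : (u : G) ∈ V
  · rw [Char.extendByZero_mem V _ hu, ← sum_sq_eq h hn hφ, Nat.cast_sum, Finset.sum_mul]
    refine Finset.sum_congr rfl fun χ _ => ?_
    rcases eq_or_ne (mult χ φ) 0 with h0 | h0
    · simp [h0]
    · have h1 := congrFun (res_eq_smul h hn hφ h0) ⟨u, hu⟩
      rw [res_apply (v := (⟨u, hu⟩ : V)) (h hu), Pi.smul_apply, smul_eq_mul] at h1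
      rw [show (χ : U → ℂ) u = (χ : U → ℂ) ⟨(u : G), h hu⟩ from rfl, h1, Nat.cast_pow]
      ring
  · haveI := normal_subgroupOf (U := U) (V := V) hn
    set N := V.subgroupOf U
    have h2 := congrFun (classFun_expand (isClassFunction_indFun N (toSub h φ : N → ℂ))) u
    simp only [Finset.sum_apply, Pi.smul_apply, smul_eq_mul] at h2
    have h3 : indFun N (toSub h φ : N → ℂ) u = 0 := by
      rw [indFun, Finset.sum_eq_zero fun x _ => Char.extendByZero_not_mem N _ fun hx => hu
        (Subgroup.mem_subgroupOf.1 (show u ∈ N by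
          have := (inferInstance : N.Normal).conj_mem _ hx x
          simpa [mul_assoc] using this)), mul_zero]
    rw [Char.extendByZero_not_mem V _ hu, mul_zero, ← h3, h2]
    refine Finset.sum_congr rfl fun χ _ => ?_
    rw [classInner_indFun N _ _ (isClassFunction_irr χ), ← classInner_conj, classInner_toSub_mult h,
      map_natCast]

/-- Multiplicities over an invariant character, read on the intersection. -/
theorem sum_mult_mul_mult {U V Y D : Subgroup G} (hVU : V ≤ U) (hYU : Y ≤ U)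
    (hn : U ≤ Subgroup.normalizer (V : Set G)) (hsup : U ≤ V ⊔ Y) (hD : V ⊓ Y = D)
    {θ : IrrCharacter V} (hθ : Fixed U θ) (ψ : IrrCharacter Y) :
    ∑ χ : IrrCharacter U, mult χ θ * mult χ ψ = ∑ ω : IrrCharacter D, mult θ ω * mult ψ ω := by
  classical
  have hDV : D ≤ V := hD ▸ inf_le_left
  have hDY : D ≤ Y := hD ▸ inf_le_right
  have hU : U = V ⊔ Y := le_antisymm hsup (sup_le hVU hYU)
  have hidx : V.relIndex U = D.relIndex Y := by
    rw [hU, relIndex_sup_of_le_normalizer (hYU.trans hn), ← Subgroup.inf_relIndex_right V Y, hD]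
  have hcard : V.relIndex U * Nat.card D = Nat.card Y := by
    rw [hidx, ← Nat.card_congr (Subgroup.subgroupOfEquivOfLe hDY).toEquiv, mul_comm]
    exact (D.subgroupOf Y).card_mul_index
  have hR : ((∑ ω : IrrCharacter D, mult θ ω * mult ψ ω : ℕ) : ℂ) =
      classInner (res D (θ : V → ℂ)) (res D (ψ : Y → ℂ)) := by
    rw [res_expand hDY ψ, classInner_sum_right, Nat.cast_sum]
    refine Finset.sum_congr rfl fun ω _ => ?_
    rw [classInner_smul_right, mult_spec hDV, map_natCast, Nat.cast_mul, mul_comm]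
  have hL : ((∑ χ : IrrCharacter U, mult χ θ * mult χ ψ : ℕ) : ℂ) =
      classInner (fun y : Y => (V.relIndex U : ℂ) * extendByZero V (θ : V → ℂ) (y : G))
        (ψ : Y → ℂ) := by
    have e : (fun y : Y => (V.relIndex U : ℂ) * extendByZero V (θ : V → ℂ) (y : G)) =
        ∑ χ : IrrCharacter U, (mult χ θ : ℂ) • res Y (χ : U → ℂ) := by
      funext y
      rw [← sum_mult_apply hVU hn hθ ⟨y, hYU y.2⟩, Finset.sum_apply]
      exact Finset.sum_congr rfl fun χ _ => by rw [Pi.smul_apply, smul_eq_mul, res_apply (hYU y.2)]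
    rw [e, classInner_sum_left, Nat.cast_sum]
    refine Finset.sum_congr rfl fun χ _ => ?_
    rw [classInner_smul_left, mult_spec hYU, Nat.cast_mul]
  refine Nat.cast_injective (R := ℂ) ?_
  rw [hL, hR, classInner, classInner]
  have hsum : ∑ y : Y, extendByZero V (θ : V → ℂ) (y : G) * conj ((ψ : Y → ℂ) y) =
      ∑ d : D, res D (θ : V → ℂ) d * conj (res D (ψ : Y → ℂ) d) := by
    refine (Finset.sum_bij_ne_zero (fun d _ _ => Subgroup.inclusion hDY d)
      (fun d _ _ => Finset.mem_univ _)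
      (fun a _ _ b _ _ hab => Subgroup.inclusion_injective hDY hab)
      (fun y _ hy => ?_) (fun d _ _ => ?_)).symm
    · have hyV : (y : G) ∈ V := by
        by_contra hc
        exact hy (by rw [Char.extendByZero_not_mem V _ hc, zero_mul])
      have hyD : (y : G) ∈ D := (SetLike.ext_iff.1 hD _).1 (Subgroup.mem_inf.2 ⟨hyV, y.2⟩)
      refine ⟨⟨y, hyD⟩, Finset.mem_univ _, ?_, rfl⟩
      intro h0
      apply hy
      rw [res_apply (v := (⟨y, hyD⟩ : D)) (hDV hyD), res_apply (v := (⟨y, hyD⟩ : D)) (hDY hyD)] at h0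
      rw [Char.extendByZero_mem V _ hyV]
      exact h0
    · rw [res_apply (hDV d.2), res_apply (hDY d.2), Subgroup.coe_inclusion,
        Char.extendByZero_mem V _ (hDV d.2)]
      rfl
  simp only [mul_assoc, ← Finset.mul_sum]
  rw [hsum, ← mul_assoc]
  congr 1
  rw [← hcard, Nat.cast_mul, mul_inv, mul_comm _ (V.relIndex U : ℂ), ← mul_assoc, mul_inv_cancel₀,
    one_mul]
  exact Nat.cast_ne_zero.2 Subgroup.index_ne_zero_of_finite

/-- Extension of an invariant extension across a subgroup meeting the normal one in the bottom. -/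
theorem extTo_sup_iff {U V Y D : Subgroup G} (hVU : V ≤ U) (hYU : Y ≤ U)
    (hn : U ≤ Subgroup.normalizer (V : Set G)) (hsup : U ≤ V ⊔ Y) (hD : V ⊓ Y = D)
    {η : IrrCharacter V} (hη : Fixed U η) {θ : IrrCharacter D} (h : Ext η θ) :
    ExtTo η U ↔ ExtTo θ Y := by
  classical
  have hDV : D ≤ V := hD ▸ inf_le_left
  have hDY : D ≤ Y := hD ▸ inf_le_right
  constructor
  · rintro ⟨χ, hχ⟩
    obtain ⟨ζ, -, hζ⟩ := (hχ.trans hDV h).middle hDY hYU
    exact ⟨ζ, hζ⟩
  · rintro ⟨ζ, hζ⟩
    have h1 := sum_mult_mul_mult hVU hYU hn hsup hD hη ζ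
    rw [Finset.sum_eq_single (s := (Finset.univ : Finset (IrrCharacter D))) θ (fun ω _ hne => by
        rw [show mult η ω = 0 from by_contra fun hc => hne (h.eq_of_mult_ne_zero hDV hc), zero_mul])
      (by simp), h.mult_eq_one hDV, hζ.mult_eq_one hDY, one_mul] at h1
    obtain ⟨χ, -, hχ⟩ := Finset.exists_ne_zero_of_sum_ne_zero (h1.trans_ne one_ne_zero)
    have hle : mult χ η * mult χ ζ ≤ 1 := h1 ▸
      Finset.single_le_sum (f := fun χ' => mult χ' η * mult χ' ζ) (fun _ _ => Nat.zero_le _)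
        (Finset.mem_univ χ)
    have hone : mult χ η * mult χ ζ = 1 := by omega
    exact ⟨χ, ext_of_mult_one hVU hn hη (Nat.eq_one_of_mul_eq_one_right hone)⟩

/-- Extendibility along a `p`-quotient passes to a congruent character of the intersection. -/
theorem extTo_iff_of_not_dvd {p : ℕ} [hp : Fact p.Prime] {U V Y D : Subgroup G} (hVU : V ≤ U)
    (hYU : Y ≤ U) (hn : U ≤ Subgroup.normalizer (V : Set G)) (hsup : U ≤ V ⊔ Y) (hD : V ⊓ Y = D)
    (hPU : PMod p V U) (hPY : PMod p D Y) {θ : IrrCharacter V} (hθ : Fixed U θ)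
    {φ : IrrCharacter D} (hφ : Fixed Y φ) (hm : ¬ p ∣ mult θ φ) :
    ExtTo θ U ↔ ExtTo φ Y := by
  classical
  have hDV : D ≤ V := hD ▸ inf_le_left
  have hDY : D ≤ Y := hD ▸ inf_le_right
  have hnY : Y ≤ Subgroup.normalizer (D : Set G) := by
    intro y hy
    rw [← hD, Subgroup.mem_normalizer_iff]
    intro x
    simp only [Subgroup.mem_inf]
    exact and_congr ((Subgroup.mem_normalizer_iff.1 (hn (hYU hy))) x)
      ((Subgroup.mem_normalizer_iff.1 (Subgroup.le_normalizer hy)) x)
  constructor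
  · rintro ⟨η, hη⟩
    have e : mult η φ = mult θ φ := mult_eq_of_ext hDV hVU hη φ
    rw [← e, mult_trans hDY hYU] at hm
    obtain ⟨ψ, -, hψ⟩ : ∃ ψ ∈ (Finset.univ : Finset (IrrCharacter Y)),
        ¬ p ∣ mult η ψ * mult ψ φ := by
      by_contra hno
      push Not at hno
      exact hm (Finset.dvd_sum hno)
    exact ⟨ψ, ext_of_not_dvd_mult hDY hnY hPY hφ fun hd => hψ (hd.mul_left _)⟩
  · rintro ⟨ψ, hψ⟩
    have h1 := sum_mult_mul_mult hVU hYU hn hsup hD hθ ψ
    rw [Finset.sum_eq_single (s := (Finset.univ : Finset (IrrCharacter D))) φ (fun ω _ hne => by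
        rw [show mult ψ ω = 0 from by_contra fun hc => hne (hψ.eq_of_mult_ne_zero hDY hc), mul_zero])
      (by simp), hψ.mult_eq_one hDY, mul_one] at h1
    rw [← h1] at hm
    obtain ⟨χ, -, hχ⟩ : ∃ χ ∈ (Finset.univ : Finset (IrrCharacter U)),
        ¬ p ∣ mult χ θ * mult χ ψ := by
      by_contra hno
      push Not at hno
      exact hm (Finset.dvd_sum hno)
    exact ⟨χ, ext_of_not_dvd_mult hVU hn hPU hθ fun hd => hχ (hd.mul_right _)⟩

end CfsgLib.Char.RelMcKay
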