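import Cfsg.Agent.Lib.Char.RelMcKay.Base
import Cfsg.Prelude.Def_Local

/-!
# The relative count for `p`-solvable groups

Induction on the index of the normal subgroup along a chain with `p` and `p'` factors.
-/

set_option autoImplicit false
set_option linter.unusedSectionVars false
set_option linter.style.haveILetI false

namespace CfsgLib.Char.RelMcKay

open scoped ComplexConjugate
open Cfsg CfsgLib CfsgLib.Char

universe u

variable {G : Type u} [Group G] [Finite G]

noncomputable local instance instFinSub12 (A : Subgroup G) : Fintype A := Fintype.ofFinite _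

noncomputable local instance instFinIrr12 (A : Subgroup G) : Fintype (IrrCharacter A) :=
  Fintype.ofFinite _

/-- A strictly larger normal subgroup with a `p`- or `p'`-quotient over `L`. -/
theorem exists_step {p : ℕ} [hp : Fact p.Prime] (hG : IsPSolvable p G) (L : Subgroup G) [L.Normal]
    (hL : L ≠ ⊤) : ∃ K : Subgroup G, K.Normal ∧ L ≤ K ∧ K.index < L.index ∧
      ((∃ m : ℕ, L.relIndex K = p ^ m) ∨ ¬ p ∣ L.relIndex K) := by
  obtain ⟨n, H, h0, hlast, hm, hn, hf⟩ := hG
  obtain ⟨i, hi, hi'⟩ : ∃ i : Fin n, H i.castSucc ≤ L ∧ ¬ H i.succ ≤ L := by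
    by_contra hcon
    push Not at hcon
    have hall : ∀ i : Fin (n + 1), H i ≤ L := fun i =>
      Fin.induction (h0.le.trans bot_le) (fun i hi => hcon i hi) i
    exact hL (top_unique (hlast ▸ hall _))
  haveI := hn i.succ
  have hdvd : L.relIndex (L ⊔ H i.succ) ∣ (H i.castSucc).relIndex (H i.succ) := by
    rw [relIndex_sup_of_le_normalizer (Subgroup.normalizer_eq_top L ▸ le_top)]
    exact Subgroup.relIndex_dvd_of_le_left _ hi
  refine ⟨L ⊔ H i.succ, inferInstance, le_sup_left, ?_, ?_⟩
  · have h1 := Subgroup.relIndex_mul_index (le_sup_left : L ≤ L ⊔ H i.succ)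
    have h2 : L.relIndex (L ⊔ H i.succ) ≠ 1 := fun e =>
      hi' (le_sup_right.trans (Subgroup.relIndex_eq_one.1 e))
    have h3 : L.relIndex (L ⊔ H i.succ) ≠ 0 := Subgroup.index_ne_zero_of_finite
    have h4 : 0 < (L ⊔ H i.succ).index := Nat.pos_of_ne_zero Subgroup.index_ne_zero_of_finite
    rw [← h1]
    exact (lt_mul_iff_one_lt_left h4).2 (by omega)
  · rcases hf i with ⟨m, hm'⟩ | hco
    · rw [hm'] at hdvd
      obtain ⟨k, -, hk⟩ := (Nat.dvd_prime_pow hp.out).1 hdvd
      exact Or.inl ⟨k, hk⟩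
    · exact Or.inr ((hp.out.coprime_iff_not_dvd).1 (hco.coprime_dvd_left hdvd).symm)

/-- The relative count. -/
theorem relMcKay {p : ℕ} [hp : Fact p.Prime] (hG : IsPSolvable p G) :
    ∀ (L P : Subgroup G) [L.Normal], L ≤ P → PMod p L P → ¬ p ∣ P.index →
      ∀ ν : IrrCharacter L, Fixed P ν →
        cnt p (⊤ : Subgroup G) ν = cnt p (Subgroup.normalizer (P : Set G)) ν := by
  classical
  intro L
  induction hn : L.index using Nat.strong_induction_on generalizing L with
  | _ n ih => ?_
  intro P _ hLP hPQ hidx ν hν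
  subst hn
  by_cases hL : L = ⊤
  · subst hL
    obtain rfl : P = ⊤ := top_unique hLP
    have e : Subgroup.normalizer ((⊤ : Subgroup G) : Set G) = ⊤ := Subgroup.normalizer_eq_top _
    rw [e]
  obtain ⟨K, hKn, hLK, hKlt, hcase⟩ := exists_step hG L hL
  set N := Subgroup.normalizer (P : Set G)
  have hPN : P ≤ N := Subgroup.le_normalizer
  have hKall : ∀ A : Subgroup G, A ≤ Subgroup.normalizer (K : Set G) := fun A =>
    Subgroup.normalizer_eq_top K ▸ le_top
  have hidxT : ¬ p ∣ P.relIndex ⊤ := by rwa [Subgroup.relIndex_top_right]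
  have hd1 := decompose hLP le_top hPQ hidxT hLK le_top (hKall _) ν hν
  rw [top_inf_eq] at hd1
  rcases hcase with ⟨m, hm⟩ | hcop
  · -- a `p`-factor lies in `P`
    have hKL : PMod p L K := fun x hx =>
      ⟨m, by rw [← hm]; exact (L.subgroupOf K).pow_index_mem (⟨x, hx⟩ : K)⟩
    have hsup : PMod p L (K ⊔ P) := by
      intro x hx
      obtain ⟨a, ha⟩ := pmod_sup hLK (hKall P) hPQ x hx
      obtain ⟨b, hb⟩ := hKL _ ha
      exact ⟨a + b, by rw [pow_add, pow_mul]; exact hb⟩
    obtain ⟨j, hj⟩ := relIndex_eq_pow (Subgroup.normalizer_eq_top L ▸ le_top) hsup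
    have hKP : K ≤ P := by
      refine le_sup_left.trans (Subgroup.relIndex_eq_one.1 (?_ : P.relIndex (K ⊔ P) = 1))
      have h1 : P.relIndex (K ⊔ P) ∣ p ^ j :=
        hj ▸ Dvd.intro_left _ (Subgroup.relIndex_mul_relIndex L P (K ⊔ P) hLP le_sup_right)
      have h2 : P.relIndex (K ⊔ P) ∣ P.index :=
        Dvd.intro _ (Subgroup.relIndex_mul_index (le_sup_right : P ≤ K ⊔ P))
      obtain ⟨i, -, hi⟩ := (Nat.dvd_prime_pow hp.out).1 h1
      rcases Nat.eq_zero_or_pos i with rfl | hi0
      · rw [hi, pow_zero]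
      · exact (hidx ((dvd_pow_self p hi0.ne').trans (hi ▸ h2))).elim
    have hKN : K ≤ N := hKP.trans hPN
    have hidxN : ¬ p ∣ P.relIndex N := fun hd =>
      hidx (hd.trans (Dvd.intro _ (Subgroup.relIndex_mul_index hPN)))
    have hd2 := decompose hLP hPN hPQ hidxN hLK hKN (hKall _) ν hν
    rw [inf_idem] at hd2
    refine Nat.eq_of_mul_eq_mul_left (Nat.card_pos (α := N)) ?_
    rw [hd1, hd2]
    refine Finset.sum_congr rfl fun θ _ => ?_
    split_ifs with hθ
    · haveI := hKn
      rw [ih K.index hKlt K rfl P hKP (fun x hx => by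
        obtain ⟨k, hk⟩ := hPQ x hx
        exact ⟨k, hLK hk⟩) hidx θ hθ.1]
    · rfl
  · -- a `p'`-factor
    set P' := K ⊔ P
    set N' := Subgroup.normalizer (P' : Set G)
    have hP'N' : P' ≤ N' := Subgroup.le_normalizer
    have hNN' : N ≤ N' := CfsgLib.Coprime.sup_le_normalizer (hKall N) le_rfl
    have hgen : N' ≤ K ⊔ N := by
      intro g hg
      obtain ⟨r, hr, hn'⟩ := exists_mem_normalizer_of_conj hLP (le_sup_right : P ≤ P') hPQ
        (fun hd => hidx (hd.trans (Dvd.intro _
          (Subgroup.relIndex_mul_index (le_sup_right : P ≤ P'))))) (g := g)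
        fun q hq => conj_mem hg (Subgroup.mem_sup_right hq)
      have h1 := mul_mem ((sup_le_sup_left hPN K) hr)
        (Subgroup.mem_sup_right hn' : r⁻¹ * g ∈ K ⊔ N)
      rwa [mul_inv_cancel_left] at h1
    have hidxN' : ¬ p ∣ P.relIndex N' := fun hd => hidx (hd.trans
      (Dvd.intro _ (Subgroup.relIndex_mul_index ((le_sup_right : P ≤ P').trans hP'N'))))
    have eN : N' ⊓ N = N := inf_eq_right.2 hNN'
    have hbase : BaseData p L P N' K :=
      { hLK := hLK
        hLP := hLP
        hKΓ := le_sup_left.trans hP'N'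
        hPΓ := le_sup_right.trans hP'N'
        hPQ := hPQ
        hΓK := hKall _
        hidx := hidxN'
        hcop := hcop
        hgen := by
          show N' ≤ K ⊔ (N' ⊓ N)
          rw [eN]
          exact hgen }
    have h2 : cnt p N' ν = cnt p N ν := by
      rw [hbase.base ν hν, eN]
    rw [← h2]
    have hd2 := decompose hLP hbase.hPΓ hPQ hidxN' hLK hbase.hKΓ (hKall _) ν hν
    rw [eN] at hd2
    refine Nat.eq_of_mul_eq_mul_left (Nat.card_pos (α := N)) ?_
    rw [hd1, hd2]
    refine Finset.sum_congr rfl fun θ _ => ?_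
    split_ifs with hθ
    · haveI := hKn
      rw [ih K.index hKlt K rfl P' le_sup_left (pmod_sup hLK (hKall P) hPQ)
        (fun hd => hidx (hd.trans (Subgroup.index_dvd_of_le le_sup_right))) θ
        (fixed_sup Subgroup.le_normalizer (hKall P) (fixed_self θ) hθ.1)]
    · rfl

theorem deg_eq_charDegree {U : Subgroup G} (χ : IrrCharacter U) :
    deg χ = charDegree (χ : U → ℂ) := rfl

/-- The orthogonality condition of a restriction, as a multiplicity. -/
theorem mult_ne_zero_iff_finsum {U L : Subgroup G} (hLU : L ≤ U) (χ : IrrCharacter U)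
    (ν : IrrCharacter L) :
    mult χ ν ≠ 0 ↔
      (∑ᶠ l : L, (χ : U → ℂ) (Subgroup.inclusion hLU l) * conj ((ν : L → ℂ) l)) ≠ 0 := by
  have h := mult_spec hLU χ ν
  rw [classInner, res_eq_comp hLU] at h
  rw [finsum_eq_sum_of_fintype, ← Nat.cast_ne_zero (R := ℂ), ← h, mul_ne_zero_iff]
  exact and_iff_right (inv_ne_zero (Nat.cast_ne_zero.2 Nat.card_pos.ne'))

/-- The characters of the group seen on the whole subgroup. -/
theorem card_top_eq (p : ℕ) {L : Subgroup G} (ν : IrrCharacter L) :
    Nat.card {χ : IrrCharacter G // ¬ p ∣ charDegree (χ : G → ℂ) ∧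
      (∑ᶠ l : L, (χ : G → ℂ) (l : G) * conj ((ν : L → ℂ) l)) ≠ 0} = cnt p (⊤ : Subgroup G) ν := by
  haveI := Fintype.ofFinite G
  let e : (⊤ : Subgroup G) ≃* G := Subgroup.topEquiv
  let F : IrrCharacter G ≃ IrrCharacter (⊤ : Subgroup G) :=
    { toFun := fun χ => ⟨fun x => (χ : G → ℂ) (e x),
        isIrrCharacter_comp_surjective χ.2 e.toMonoidHom e.surjective⟩
      invFun := fun χ => ⟨fun x => (χ : (⊤ : Subgroup G) → ℂ) (e.symm x),
        isIrrCharacter_comp_surjective χ.2 e.symm.toMonoidHom e.symm.surjective⟩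
      left_inv := fun χ => Subtype.ext (funext fun x => by
        show (χ : G → ℂ) (e (e.symm x)) = _
        rw [e.apply_symm_apply])
      right_inv := fun χ => Subtype.ext (funext fun x => by
        show (χ : (⊤ : Subgroup G) → ℂ) (e.symm (e x)) = _
        rw [e.symm_apply_apply]) }
  refine Nat.card_congr (Equiv.subtypeEquiv F fun χ => ?_)
  have hdeg : deg (F χ) = charDegree (χ : G → ℂ) := by
    have h1 := one_eq_deg (F χ)
    have h2 := (Block.charDegree_eq χ).1
    have h3 : (F χ : (⊤ : Subgroup G) → ℂ) 1 = (χ : G → ℂ) 1 := by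
      show (χ : G → ℂ) (e 1) = _
      rw [map_one]
    rw [h3, h2] at h1
    exact_mod_cast h1.symm
  rw [hdeg]
  exact and_congr_right fun _ => (mult_ne_zero_iff_finsum le_top (F χ) ν).symm

end CfsgLib.Char.RelMcKay
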