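import Cfsg.Agent.Lib.Char.RelMcKay.Basic
import Cfsg.Agent.Lib.Coprime.Action

/-!
# Centralizers modulo a normal subgroup and cyclic `p`-steps
-/

set_option autoImplicit false
set_option linter.unusedSectionVars false

namespace CfsgLib.Char.RelMcKay

universe u

variable {G : Type u} [Group G] [Finite G]

/-- The elements of `U` centralizing `Q` modulo `L`. -/
noncomputable def fixMod (L U Q : Subgroup G) [L.Normal] : Subgroup G :=
  U ⊓ (Subgroup.centralizer ((Q.map (QuotientGroup.mk' L) : Subgroup (G ⧸ L)) : Set (G ⧸ L))).comap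
    (QuotientGroup.mk' L)

theorem mem_fixMod {L U Q : Subgroup G} [L.Normal] {u : G} :
    u ∈ fixMod L U Q ↔ u ∈ U ∧ ∀ q ∈ Q, Commute (q : G ⧸ L) (u : G ⧸ L) := by
  simp only [fixMod, Subgroup.mem_inf, Subgroup.mem_comap, QuotientGroup.mk'_apply,
    Subgroup.mem_centralizer_iff, SetLike.mem_coe, Subgroup.mem_map]
  refine and_congr_right fun _ => ⟨fun h q hq => h _ ⟨q, hq, rfl⟩, ?_⟩
  rintro h _ ⟨q, hq, rfl⟩
  exact h q hq

theorem commute_mk_iff {L : Subgroup G} [L.Normal] {a b : G} :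
    Commute (a : G ⧸ L) (b : G ⧸ L) ↔ a * b * a⁻¹ * b⁻¹ ∈ L := by
  rw [← QuotientGroup.eq_one_iff]
  simp only [QuotientGroup.mk_mul, QuotientGroup.mk_inv]
  rw [mul_inv_eq_one, mul_inv_eq_iff_eq_mul]
  exact Iff.rfl

theorem fixMod_le (L U Q : Subgroup G) [L.Normal] : fixMod L U Q ≤ U := inf_le_left

theorem mem_fixMod_of_mem {L U Q : Subgroup G} [L.Normal] {u : G} (hu : u ∈ U) (hL : u ∈ L) :
    u ∈ fixMod L U Q :=
  mem_fixMod.2 ⟨hu, fun q _ => by
    rw [(QuotientGroup.eq_one_iff u).2 hL]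
    exact Commute.one_right _⟩

theorem le_fixMod {L U Q : Subgroup G} [L.Normal] (hLU : L ≤ U) : L ≤ fixMod L U Q :=
  fun _ hu => mem_fixMod_of_mem (hLU hu) hu

theorem fixMod_mono {L U Q R : Subgroup G} [L.Normal] (h : R ≤ Q) :
    fixMod L U Q ≤ fixMod L U R :=
  fun _ hu => mem_fixMod.2 ⟨(mem_fixMod.1 hu).1, fun q hq => (mem_fixMod.1 hu).2 q (h hq)⟩

theorem fixMod_bot {L U : Subgroup G} [L.Normal] : fixMod L U L = U :=
  le_antisymm (fixMod_le _ _ _) fun _ hu => mem_fixMod.2 ⟨hu, fun q hq => by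
    rw [(QuotientGroup.eq_one_iff q).2 hq]
    exact Commute.one_left _⟩

theorem le_normalizer_fixMod {L U Q A : Subgroup G} [L.Normal]
    (hU : A ≤ Subgroup.normalizer (U : Set G)) (hQ : A ≤ Subgroup.normalizer (Q : Set G)) :
    A ≤ Subgroup.normalizer (fixMod L U Q : Set G) := by
  have key : ∀ a ∈ A, ∀ u ∈ fixMod L U Q, a * u * a⁻¹ ∈ fixMod L U Q := by
    intro a ha u hu
    obtain ⟨hu1, hu2⟩ := mem_fixMod.1 hu
    refine mem_fixMod.2 ⟨conj_mem (hU ha) hu1, fun q hq => ?_⟩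
    have h := hu2 _ (inv_conj_mem (hQ ha) hq)
    simp only [QuotientGroup.mk_mul, QuotientGroup.mk_inv] at h ⊢
    have h' := h.map (MulAut.conj ((a : G) : G ⧸ L)).toMonoidHom
    simp only [MulEquiv.coe_toMonoidHom, MulAut.conj_apply] at h'
    rwa [show ((a : G) : G ⧸ L) * ((a : G ⧸ L)⁻¹ * (q : G ⧸ L) * a) * (a : G ⧸ L)⁻¹ = (q : G ⧸ L) by
      group] at h'
  intro a ha
  rw [Subgroup.mem_normalizer_iff]
  refine fun u => ⟨key a ha u, fun hu => ?_⟩
  have := key a⁻¹ (inv_mem ha) _ hu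
  simpa [mul_assoc] using this

theorem relIndex_sup_of_le_normalizer {R H : Subgroup G}
    (h : H ≤ Subgroup.normalizer (R : Set G)) : R.relIndex (R ⊔ H) = R.relIndex H := by
  set N := Subgroup.normalizer (R : Set G)
  have hR : R ≤ N := Subgroup.le_normalizer
  haveI : (R.subgroupOf N).Normal := ⟨fun r hr n => conj_mem n.2 hr⟩
  rw [← Subgroup.relIndex_subgroupOf (sup_le hR h), ← Subgroup.relIndex_subgroupOf (H := R) h,
    Subgroup.subgroupOf_sup hR h, Subgroup.relIndex_sup_left]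

theorem PMod.sup_zpowers {p : ℕ} {L : Subgroup G} {x : G} (hx : ∃ k : ℕ, x ^ p ^ k ∈ L) :
    PMod p L (Subgroup.zpowers x) := by
  obtain ⟨k, hk⟩ := hx
  intro y hy
  obtain ⟨i, rfl⟩ := Subgroup.mem_zpowers_iff.1 hy
  refine ⟨k, ?_⟩
  rw [← zpow_natCast, ← zpow_mul, mul_comm, zpow_mul, zpow_natCast]
  exact L.zpow_mem hk i

theorem commute_of_coprime_pow {M : Type*} [Group M] {a b : M} {m n : ℕ} (hmn : m.Coprime n)
    (hm : Commute a (b ^ m)) (hn : Commute a (b ^ n)) : Commute a b := by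
  have h : (b ^ m) ^ Nat.gcdA m n * (b ^ n) ^ Nat.gcdB m n = b := by
    rw [← zpow_natCast b m, ← zpow_natCast b n, ← zpow_mul, ← zpow_mul, ← zpow_add,
      ← Nat.gcd_eq_gcd_ab, hmn.gcd_eq_one, Nat.cast_one, zpow_one]
  rw [← h]
  exact (hm.zpow_right _).mul_right (hn.zpow_right _)

/-- An element `x` normalizing `R`, of `p`-power order modulo `L`, whose `p`-th power centralizes
`R / L`. -/
structure CycStep (p : ℕ) [Fact p.Prime] (L R : Subgroup G) [L.Normal] (x : G) : Prop where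
  hLR : L ≤ R
  cop : ¬ p ∣ L.relIndex R
  hxR : x ∈ Subgroup.normalizer (R : Set G)
  hxp : ∀ r ∈ R, Commute ((x : G ⧸ L) ^ p) (r : G ⧸ L)
  hxk : ∃ k : ℕ, x ^ p ^ k ∈ L
  hxL : x ∉ L

namespace CycStep

variable {p : ℕ} [hp : Fact p.Prime] {L R : Subgroup G} [L.Normal] {x : G} (h : CycStep p L R x)
include h

/-- The fixed points. -/
local notation "R₁" => (fixMod L R (Subgroup.zpowers x) : Subgroup G)
local notation "B" => (R ⊔ Subgroup.zpowers x : Subgroup G)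
local notation "B'" => (R ⊔ Subgroup.zpowers (x ^ p) : Subgroup G)
local notation "A" => (fixMod L R (Subgroup.zpowers x) ⊔ Subgroup.zpowers x : Subgroup G)
local notation "A'" => (fixMod L R (Subgroup.zpowers x) ⊔ Subgroup.zpowers (x ^ p) : Subgroup G)

theorem eq_one_of_coprime {z : G ⧸ L} {j : ℕ} (h1 : z ^ p ^ j = 1) (h2 : z ^ L.relIndex R = 1) :
    z = 1 := by
  have hc : Nat.Coprime (p ^ j) (L.relIndex R) := ((hp.out.coprime_iff_not_dvd).2 h.cop).pow_left j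
  have := pow_gcd_eq_one.2 (⟨h1, h2⟩ : z ^ p ^ j = 1 ∧ _)
  rwa [hc.gcd_eq_one, pow_one] at this

theorem mk_pow_relIndex {r : G} (hr : r ∈ R) : (r : G ⧸ L) ^ L.relIndex R = 1 := by
  rw [← QuotientGroup.mk_pow, QuotientGroup.eq_one_iff]
  exact (L.subgroupOf R).pow_index_mem (⟨r, hr⟩ : R)

theorem zpow_mem_R_iff {i : ℤ} : x ^ i ∈ R ↔ x ^ i ∈ L := by
  refine ⟨fun hi => ?_, fun hi => h.hLR hi⟩
  obtain ⟨k, hk⟩ := h.hxk
  rw [← QuotientGroup.eq_one_iff]
  refine h.eq_one_of_coprime (j := k) ?_ (h.mk_pow_relIndex hi)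
  rw [← QuotientGroup.mk_pow, QuotientGroup.eq_one_iff, ← zpow_natCast, ← zpow_mul, mul_comm,
    zpow_mul, zpow_natCast]
  exact L.zpow_mem hk i

theorem not_mem_B' : x ∉ B' := by
  intro hx
  have hn : Subgroup.zpowers (x ^ p) ≤ Subgroup.normalizer (R : Set G) :=
    Subgroup.zpowers_le.2 (pow_mem h.hxR p)
  obtain ⟨r, hr, y, hy, e⟩ := CfsgLib.Coprime.mem_sup_exists hn hx
  obtain ⟨i, rfl⟩ := Subgroup.mem_zpowers_iff.1 hy
  have h1 : x ^ (1 - (p : ℤ) * i) ∈ R := by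
    rw [zpow_sub, zpow_one, zpow_mul, zpow_natCast]
    nth_rewrite 1 [← e]
    rwa [mul_inv_cancel_right]
  rw [h.zpow_mem_R_iff] at h1
  obtain ⟨k, hk⟩ := h.hxk
  refine h.hxL ?_
  have hco : IsCoprime ((p : ℤ) ^ k) (1 - (p : ℤ) * i) := IsCoprime.pow_left ⟨i, 1, by ring⟩
  obtain ⟨a, b, hab⟩ := hco
  rw [← zpow_one x, ← hab, zpow_add, mul_comm a, mul_comm b, zpow_mul, zpow_mul]
  refine L.mul_mem (L.zpow_mem ?_ a) (L.zpow_mem h1 b)
  rw [← Nat.cast_pow, zpow_natCast]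
  exact hk

theorem zpowers_le_normalizer_R : Subgroup.zpowers x ≤ Subgroup.normalizer (R : Set G) :=
  Subgroup.zpowers_le.2 h.hxR

theorem zpowers_le_normalizer_R₁ : Subgroup.zpowers x ≤ Subgroup.normalizer (R₁ : Set G) :=
  le_normalizer_fixMod h.zpowers_le_normalizer_R Subgroup.le_normalizer

theorem A'_le_A : A' ≤ A :=
  sup_le_sup_left (Subgroup.zpowers_le.2 (pow_mem (Subgroup.mem_zpowers x) p)) _

theorem B'_le_B : B' ≤ B :=
  sup_le_sup_left (Subgroup.zpowers_le.2 (pow_mem (Subgroup.mem_zpowers x) p)) _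

theorem A_le_B : A ≤ B := sup_le_sup_right (fixMod_le _ _ _) _

theorem A'_le_B' : A' ≤ B' := sup_le_sup_right (fixMod_le _ _ _) _

theorem L_le_A' : L ≤ A' := (le_fixMod h.hLR).trans le_sup_left

theorem x_mem_A : x ∈ A := Subgroup.mem_sup_right (Subgroup.mem_zpowers x)

theorem x_mem_B : x ∈ B := Subgroup.mem_sup_right (Subgroup.mem_zpowers x)

theorem B_le_normalizer_R : B ≤ Subgroup.normalizer (R : Set G) :=
  sup_le Subgroup.le_normalizer h.zpowers_le_normalizer_R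

theorem A_le_normalizer_R₁ : A ≤ Subgroup.normalizer (R₁ : Set G) :=
  sup_le Subgroup.le_normalizer h.zpowers_le_normalizer_R₁

theorem zpowers_le_normalizer_pow :
    Subgroup.zpowers x ≤ Subgroup.normalizer (Subgroup.zpowers (x ^ p) : Set G) := by
  refine le_trans ?_ (Subgroup.centralizer_le_normalizer _)
  rw [Subgroup.zpowers_le, Subgroup.mem_centralizer_iff]
  intro y hy
  obtain ⟨i, rfl⟩ := Subgroup.mem_zpowers_iff.1 hy
  exact ((Commute.self_pow x p).zpow_right i).symm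

theorem B_le_normalizer_B' : B ≤ Subgroup.normalizer (B' : Set G) :=
  sup_le (le_sup_left.trans Subgroup.le_normalizer)
    (CfsgLib.Coprime.sup_le_normalizer h.zpowers_le_normalizer_R h.zpowers_le_normalizer_pow)

theorem A_le_normalizer_A' : A ≤ Subgroup.normalizer (A' : Set G) :=
  sup_le (le_sup_left.trans Subgroup.le_normalizer)
    (CfsgLib.Coprime.sup_le_normalizer h.zpowers_le_normalizer_R₁ h.zpowers_le_normalizer_pow)

theorem R_inf_A' : R ⊓ A' = R₁ := by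
  refine le_antisymm (fun u hu => ?_) (le_inf (fixMod_le _ _ _) le_sup_left)
  obtain ⟨hu1, hu2⟩ := Subgroup.mem_inf.1 hu
  obtain ⟨r, hr, y, hy, rfl⟩ := CfsgLib.Coprime.mem_sup_exists
    ((Subgroup.zpowers_le.2 (pow_mem (Subgroup.mem_zpowers x) p)).trans h.zpowers_le_normalizer_R₁) hu2
  refine mul_mem hr ?_
  have hyR : y ∈ R := by
    have := mul_mem (inv_mem (fixMod_le L R _ hr)) hu1
    rwa [inv_mul_cancel_left] at this
  obtain ⟨i, rfl⟩ := Subgroup.mem_zpowers_iff.1 hy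
  refine le_fixMod h.hLR ?_
  rw [← zpow_natCast, ← zpow_mul] at hyR ⊢
  exact h.zpow_mem_R_iff.1 hyR

theorem relIndex_eq : R.relIndex B' = (R₁).relIndex A' := by
  have e := Subgroup.inf_relIndex_right R A'
  rw [h.R_inf_A'] at e
  rw [e,
    show B' = R ⊔ A' from le_antisymm
      (sup_le le_sup_left (le_sup_right.trans le_sup_right)) (sup_le le_sup_left h.A'_le_B')]
  exact relIndex_sup_of_le_normalizer
    (h.A'_le_B'.trans (h.B'_le_B.trans h.B_le_normalizer_R))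

theorem relIndex_prime {M : Subgroup G} (hR : R₁ ≤ M) (hpM : x ^ p ∈ M) (hxM : x ∉ M)
    (hn : Subgroup.zpowers x ≤ Subgroup.normalizer (M : Set G)) :
    M.relIndex (M ⊔ Subgroup.zpowers x) = p := by
  set U := M ⊔ Subgroup.zpowers x
  have hMU : U ≤ Subgroup.normalizer (M : Set G) := sup_le Subgroup.le_normalizer hn
  haveI := normal_subgroupOf (U := U) (V := M) hMU
  set x' : U := ⟨x, Subgroup.mem_sup_right (Subgroup.mem_zpowers x)⟩
  have hord : orderOf (x' : U ⧸ M.subgroupOf U) = p := by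
    refine orderOf_eq_prime ?_ fun e => hxM ?_
    · rw [← QuotientGroup.mk_pow, QuotientGroup.eq_one_iff]
      exact hpM
    · exact (QuotientGroup.eq_one_iff x').1 e
  have htop : Subgroup.zpowers (x' : U ⧸ M.subgroupOf U) = ⊤ := by
    refine top_unique fun q _ => ?_
    obtain ⟨u, rfl⟩ := QuotientGroup.mk_surjective q
    obtain ⟨m, hm, y, hy, e⟩ := CfsgLib.Coprime.mem_sup_exists hn u.2
    obtain ⟨i, rfl⟩ := Subgroup.mem_zpowers_iff.1 hy
    have hu : u = ⟨m, Subgroup.mem_sup_left hm⟩ * x' ^ i := Subtype.ext (by simp [x', e])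
    rw [hu, QuotientGroup.mk_mul, (QuotientGroup.eq_one_iff _).2 (show (⟨m, Subgroup.mem_sup_left hm⟩ : U) ∈ M.subgroupOf U from Subgroup.mem_subgroupOf.2 hm),
      one_mul, QuotientGroup.mk_zpow]
    exact Subgroup.zpow_mem_zpowers _ i
  show (M.subgroupOf U).index = p
  rw [Subgroup.index_eq_card, ← Nat.card_congr Subgroup.topEquiv.toEquiv, ← htop, Nat.card_zpowers,
    hord]

theorem relIndex_B : (B').relIndex B = p := by
  have e : B = B' ⊔ Subgroup.zpowers x :=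
    le_antisymm (sup_le (le_sup_left.trans le_sup_left) le_sup_right) (sup_le h.B'_le_B le_sup_right)
  rw [e]
  exact h.relIndex_prime ((fixMod_le _ _ _).trans le_sup_left)
    (Subgroup.mem_sup_right (Subgroup.mem_zpowers _)) h.not_mem_B'
    (le_sup_right.trans h.B_le_normalizer_B')

theorem relIndex_A : (A').relIndex A = p := by
  have e : A = A' ⊔ Subgroup.zpowers x :=
    le_antisymm (sup_le (le_sup_left.trans le_sup_left) le_sup_right) (sup_le h.A'_le_A le_sup_right)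
  rw [e]
  exact h.relIndex_prime le_sup_left (Subgroup.mem_sup_right (Subgroup.mem_zpowers _))
    (fun hx => h.not_mem_B' (h.A'_le_B' hx)) (le_sup_right.trans h.A_le_normalizer_A')

theorem mem_A'_of_mem_B' {a : G} (ha : a ∈ A) (ha' : a ∈ B') : a ∈ A' := by
  obtain ⟨c, hc, y, hy, rfl⟩ := CfsgLib.Coprime.mem_sup_exists h.zpowers_le_normalizer_R₁ ha
  refine mul_mem (Subgroup.mem_sup_left hc) ?_
  have hyB : y ∈ B' := by
    have := mul_mem (inv_mem (Subgroup.mem_sup_left (fixMod_le L R _ hc))) ha'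
    rwa [inv_mul_cancel_left] at this
  obtain ⟨i, rfl⟩ := Subgroup.mem_zpowers_iff.1 hy
  by_cases hpi : (p : ℤ) ∣ i
  · obtain ⟨j, rfl⟩ := hpi
    refine Subgroup.mem_sup_right (Subgroup.mem_zpowers_iff.2 ⟨j, ?_⟩)
    rw [zpow_mul, zpow_natCast]
  · exfalso
    refine h.not_mem_B' ?_
    obtain ⟨a, b, hab⟩ := ((Nat.prime_iff_prime_int.1 hp.out).coprime_iff_not_dvd).2 hpi
    have hx1 : x = (x ^ p) ^ a * (x ^ i) ^ b := by
      rw [← zpow_natCast x p, ← zpow_mul, ← zpow_mul, ← zpow_add, mul_comm (p : ℤ), mul_comm i, hab,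
        zpow_one]
    have hmem : (x ^ p) ^ a * (x ^ i) ^ b ∈ B' :=
      mul_mem (Subgroup.zpow_mem _ (Subgroup.mem_sup_right (Subgroup.mem_zpowers _)) a)
        (Subgroup.zpow_mem _ hyB b)
    rwa [← hx1] at hmem

/-- An element of `B` carrying an element of `A \ A'` into `A` lies in `A`. -/
theorem mem_A_of_conj {a b : G} (ha : a ∈ A) (ha' : a ∉ A') (hb : b ∈ B) (hab : b⁻¹ * a * b ∈ A) :
    b ∈ A := by
  have hb0 : b ∈ Subgroup.zpowers x ⊔ R := sup_comm R _ ▸ hb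
  obtain ⟨r, hr, y, hy, e⟩ := CfsgLib.Coprime.mem_sup_exists h.zpowers_le_normalizer_R hb
  -- move the power of `x` to the left
  have hyA : y ∈ A := Subgroup.mem_sup_right hy
  set r' := y⁻¹ * r * y with hr'
  have hr'R : r' ∈ R := inv_conj_mem (h.zpowers_le_normalizer_R hy) hr
  have hb' : b = y * r' := by rw [hr', ← e]; group
  suffices hmain : r' ∈ R₁ from hb' ▸ mul_mem hyA (Subgroup.mem_sup_left hmain)
  set a₁ := y⁻¹ * a * y with ha₁
  have ha₁A : a₁ ∈ A := mul_mem (mul_mem (inv_mem hyA) ha) hyA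
  have ha₁A' : a₁ ∉ A' := fun hm => ha' (by
    have := conj_mem (h.A_le_normalizer_A' hyA) hm
    rwa [ha₁, show y * (y⁻¹ * a * y) * y⁻¹ = a by group] at this)
  have hab' : r'⁻¹ * a₁ * r' ∈ A := by
    rw [ha₁, show r'⁻¹ * (y⁻¹ * a * y) * r' = b⁻¹ * a * b by rw [hb']; group]
    exact hab
  obtain ⟨c, hc, z, hz, ec⟩ := CfsgLib.Coprime.mem_sup_exists h.zpowers_le_normalizer_R₁ ha₁A
  obtain ⟨c', hc', z', hz', ec'⟩ := CfsgLib.Coprime.mem_sup_exists h.zpowers_le_normalizer_R₁ hab'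
  obtain ⟨j, rfl⟩ := Subgroup.mem_zpowers_iff.1 hz
  obtain ⟨j', rfl⟩ := Subgroup.mem_zpowers_iff.1 hz'
  have hpj : ¬ (p : ℤ) ∣ j := by
    rintro ⟨i, rfl⟩
    refine ha₁A' (ec ▸ mul_mem (Subgroup.mem_sup_left hc) (Subgroup.mem_sup_right ?_))
    rw [zpow_mul, zpow_natCast]
    exact Subgroup.zpow_mem_zpowers _ i
  -- work modulo `L`
  have hcom : ∀ c ∈ R₁, Commute (c : G ⧸ L) (x : G ⧸ L) := fun c hc =>
    ((mem_fixMod.1 hc).2 x (Subgroup.mem_zpowers x)).symm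
  set n := L.relIndex R with hn
  have hone : ∀ c ∈ R₁, (c : G ⧸ L) ^ n = 1 := fun c hc => h.mk_pow_relIndex (fixMod_le L R _ hc)
  have hX : Commute (r' : G ⧸ L) ((x : G ⧸ L) ^ (j * (n : ℤ))) := by
    have e1 : (r' : G ⧸ L)⁻¹ * ((c : G ⧸ L) * (x : G ⧸ L) ^ j) * (r' : G ⧸ L) =
        (c' : G ⧸ L) * (x : G ⧸ L) ^ j' := by
      simp only [← QuotientGroup.mk_zpow, ← QuotientGroup.mk_mul, ← QuotientGroup.mk_inv, ec, ec']
    have e2 := congrArg (· ^ n) e1
    rw [show ((r' : G ⧸ L)⁻¹ * ((c : G ⧸ L) * (x : G ⧸ L) ^ j) * (r' : G ⧸ L)) ^ n =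
      (r' : G ⧸ L)⁻¹ * ((c : G ⧸ L) * (x : G ⧸ L) ^ j) ^ n * (r' : G ⧸ L) from by
        simpa using conj_pow (a := (r' : G ⧸ L)⁻¹) (b := (c : G ⧸ L) * (x : G ⧸ L) ^ j) (i := n),
      ((hcom c hc).zpow_right j).mul_pow, ((hcom c' hc').zpow_right j').mul_pow, hone c hc,
      hone c' hc', one_mul, one_mul, ← zpow_natCast, ← zpow_natCast, ← zpow_mul, ← zpow_mul] at e2
    -- the commutator lies in `R / L` and among the powers of `x`
    set y := (x : G ⧸ L) ^ (j * (n : ℤ)) with hy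
    set w := y⁻¹ * (x : G ⧸ L) ^ (j' * (n : ℤ)) with hw
    have hw1 : w = y⁻¹ * ((r' : G ⧸ L)⁻¹ * y * (r' : G ⧸ L)) := by rw [hw, e2]
    obtain ⟨k, hk⟩ := h.hxk
    have hwp : w ^ p ^ k = 1 := by
      rw [hw, hy, ← zpow_neg, ← zpow_add, ← zpow_natCast, ← zpow_mul, mul_comm, zpow_mul,
        zpow_natCast, ← QuotientGroup.mk_pow, (QuotientGroup.eq_one_iff _).2 hk, one_zpow]
    have hxn : x ^ (j * (n : ℤ)) ∈ Subgroup.normalizer (R : Set G) :=
      h.zpowers_le_normalizer_R (Subgroup.zpow_mem_zpowers _ _)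
    have hwR : w ^ n = 1 := by
      rw [hw1, hy, show ((x : G ⧸ L) ^ (j * (n : ℤ)))⁻¹ * ((r' : G ⧸ L)⁻¹ * (x : G ⧸ L) ^ (j * (n : ℤ)) *
        (r' : G ⧸ L)) = (((x ^ (j * (n : ℤ)))⁻¹ * r'⁻¹ * x ^ (j * (n : ℤ)) * r' : G) : G ⧸ L) by
          simp only [QuotientGroup.mk_mul, QuotientGroup.mk_inv, QuotientGroup.mk_zpow]; group]
      exact h.mk_pow_relIndex (mul_mem (inv_conj_mem hxn (inv_mem hr'R)) hr'R)
    have h1 := h.eq_one_of_coprime hwp hwR
    rw [hw1, inv_mul_eq_one, mul_assoc] at h1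
    show (r' : G ⧸ L) * y = y * (r' : G ⧸ L)
    conv_lhs => rw [h1]
    rw [mul_inv_cancel_left]
  have hP : Commute (r' : G ⧸ L) ((x : G ⧸ L) ^ (p : ℤ)) := by
    rw [zpow_natCast]
    exact (h.hxp r' hr'R).symm
  have hco : IsCoprime (p : ℤ) (j * (n : ℤ)) :=
    IsCoprime.mul_right (((Nat.prime_iff_prime_int.1 hp.out).coprime_iff_not_dvd).2 hpj)
      (Nat.Coprime.isCoprime ((hp.out.coprime_iff_not_dvd).2 h.cop))
  obtain ⟨u, v, huv⟩ := hco
  have hfin : Commute (r' : G ⧸ L) (x : G ⧸ L) := by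
    rw [← zpow_one (x : G ⧸ L), ← huv, zpow_add, mul_comm u, mul_comm v, zpow_mul, zpow_mul]
    exact (hP.zpow_right u).mul_right (hX.zpow_right v)
  refine mem_fixMod.2 ⟨hr'R, fun q hq => ?_⟩
  obtain ⟨i, rfl⟩ := Subgroup.mem_zpowers_iff.1 hq
  rw [QuotientGroup.mk_zpow]
  exact hfin.symm.zpow_left i

end CycStep

end CfsgLib.Char.RelMcKay
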