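import Cfsg.Agent.Lib.Char.RelMcKay.Setup

/-!
# The correspondence for one cyclic `p`-step

Everything is read off from `p ‖f‖²_A - ‖f‖²_{A'}`, the norm of `f` on `A \ A'`, an integer.
-/

set_option autoImplicit false
set_option linter.unusedSectionVars false
set_option linter.style.haveILetI false

namespace CfsgLib.Char.RelMcKay

open scoped ComplexConjugate
open Cfsg CfsgLib CfsgLib.Char

universe u

variable {G : Type u} [Group G] [Finite G]

noncomputable local instance instFinSub2 (A : Subgroup G) : Fintype A := Fintype.ofFinite _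

noncomputable local instance instFinIrr2 (A : Subgroup G) : Fintype (IrrCharacter A) :=
  Fintype.ofFinite _

theorem fixed_zpowers {U : Subgroup G} {x : G} (hx : x ∈ Subgroup.normalizer (U : Set G))
    {θ : IrrCharacter U} (h : cjI x θ = θ) : Fixed (Subgroup.zpowers x) θ := by
  let S : Subgroup G :=
    { carrier := {y | y ∈ Subgroup.normalizer (U : Set G) ∧ cjI y θ = θ}
      one_mem' := ⟨one_mem _, cjI_one θ⟩
      mul_mem' := fun {a b} ha hb => ⟨mul_mem ha.1 hb.1, by rw [cjI_mul ha.1 hb.1, hb.2, ha.2]⟩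
      inv_mem' := fun {a} ha => ⟨inv_mem ha.1, by
        conv_lhs => rw [← ha.2]
        exact cjI_inv_cancel ha.1 θ⟩ }
  exact fun y hy => ((Subgroup.zpowers_le.2 (show x ∈ S from ⟨hx, h⟩)) hy).2

/-- Over an abelian quotient, a character over an extendible one is an extension. -/
theorem Ext.of_over {U V : Subgroup G} (hVU : V ≤ U)
    (hab : ∀ a ∈ U, ∀ b ∈ U, a * b * a⁻¹ * b⁻¹ ∈ V) {χ₀ χ : IrrCharacter U} {φ : IrrCharacter V}
    (h0 : Ext χ₀ φ) (hm : mult χ φ ≠ 0) : Ext χ φ := by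
  haveI : (V.subgroupOf U).Normal := ⟨fun v hv u => by
    have h1 := mul_mem (hab _ u.2 _ (v : U).2) (Subgroup.mem_subgroupOf.1 hv)
    rw [Subgroup.mem_subgroupOf]
    simpa [mul_assoc] using h1⟩
  obtain ⟨f, hf, he⟩ := exists_linMul_eq (V.subgroupOf U)
    (fun a b => Subgroup.mem_subgroupOf.2 (by simpa using hab a a.2 b b.2))
    (χ := χ₀) (χ' := χ) (θ := toSub hVU φ)
    (by rw [classInner_toSub_mult hVU, h0.mult_eq_one hVU]; exact Nat.cast_ne_zero.mpr one_ne_zero)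
    (by rw [classInner_toSub_mult hVU]; exact_mod_cast hm)
  refine funext fun v => ?_
  rw [res_apply (hVU v.2), ← he]
  have h1 : (χ₀ : U → ℂ) ⟨v, hVU v.2⟩ = (φ : V → ℂ) v := by
    rw [← res_apply (f := (χ₀ : U → ℂ)) (hVU v.2)]; exact congrFun h0 v
  show (f ⟨v, hVU v.2⟩ : ℂ) * (χ₀ : U → ℂ) ⟨v, hVU v.2⟩ = _
  rw [hf _ (Subgroup.mem_subgroupOf.2 v.2), Units.val_one, one_mul, h1]

theorem Ext.card_eq {U V : Subgroup G} (hVU : V ≤ U) (hn : U ≤ Subgroup.normalizer (V : Set G))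
    (hab : ∀ a ∈ U, ∀ b ∈ U, a * b * a⁻¹ * b⁻¹ ∈ V) {χ₀ : IrrCharacter U} {φ : IrrCharacter V}
    (h0 : Ext χ₀ φ) [DecidablePred fun χ : IrrCharacter U => Ext χ φ] :
    (Finset.univ.filter fun χ : IrrCharacter U => Ext χ φ).card = V.relIndex U := by
  classical
  rw [← sum_sq_eq hVU hn (h0.fixed hVU hn), Finset.card_filter]
  refine Finset.sum_congr rfl fun χ _ => ?_
  split_ifs with he
  · rw [he.mult_eq_one hVU, one_pow]
  · rw [show mult χ φ = 0 from by_contra fun hm => he (h0.of_over hVU hab hm)]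
    rfl

/-- The variance bound. -/
theorem variance_bound {ι : Type*} (s : Finset ι) (v : ι → ℤ) {p : ℕ} (hp : p.Prime)
    (hs : s.card = p) :
    0 ≤ (p : ℤ) * ∑ i ∈ s, v i ^ 2 - (∑ i ∈ s, v i) ^ 2 ∧
      (¬ (p : ℤ) ∣ ∑ i ∈ s, v i →
        (p : ℤ) - 1 ≤ (p : ℤ) * ∑ i ∈ s, v i ^ 2 - (∑ i ∈ s, v i) ^ 2) := by
  set T := ∑ i ∈ s, v i
  set r := T % (p : ℤ)
  set c := T / (p : ℤ)
  have hT : T = r + (p : ℤ) * c := (Int.emod_add_mul_ediv T p).symm
  have h1 : ∑ i ∈ s, (v i - c) = r := by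
    rw [Finset.sum_sub_distrib, Finset.sum_const, hs, nsmul_eq_mul]
    linarith
  have h2 : r ≤ ∑ i ∈ s, (v i - c) ^ 2 := h1 ▸ Finset.sum_le_sum fun i _ => Int.le_self_sq _
  have h3 : ∑ i ∈ s, (v i - c) ^ 2 = ∑ i ∈ s, v i ^ 2 - 2 * c * T + (p : ℤ) * c ^ 2 := by
    simp only [sub_sq, Finset.sum_add_distrib, Finset.sum_sub_distrib, Finset.sum_const, hs,
      nsmul_eq_mul, Finset.mul_sum, T]
    congr 1
    congr 1
    exact Finset.sum_congr rfl fun i _ => by ring
  have h4 : (p : ℤ) * ∑ i ∈ s, v i ^ 2 - T ^ 2 = (p : ℤ) * ∑ i ∈ s, (v i - c) ^ 2 - r ^ 2 := by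
    rw [h3, hT]; ring
  have hr0 : 0 ≤ r := Int.emod_nonneg _ (by exact_mod_cast hp.ne_zero)
  have hr1 : r < p := Int.emod_lt_of_pos _ (by exact_mod_cast hp.pos)
  rw [h4]
  refine ⟨by nlinarith, fun hnd => ?_⟩
  have hr2 : 1 ≤ r := by
    rcases hr0.lt_or_eq with h | h
    · omega
    · exact absurd (Int.dvd_of_emod_eq_zero h.symm) hnd
  nlinarith

theorem card_eq_mul {N M : Subgroup G} (hMN : M ≤ N) {p : ℕ} (hidx : M.relIndex N = p) :
    Nat.card N = Nat.card M * p := by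
  rw [← hidx, ← Nat.card_congr (Subgroup.subgroupOfEquivOfLe hMN).toEquiv]
  exact (M.subgroupOf N).card_mul_index.symm

theorem sum_diff {N M : Subgroup G} (hMN : M ≤ N) (f : G → ℂ) [DecidablePred (· ∈ M)] :
    ∑ n : N, (if (n : G) ∈ M then 0 else f n) = ∑ n : N, f n - ∑ m : M, f m := by
  classical
  rw [eq_sub_iff_add_eq]
  have h : ∑ m : M, f m = ∑ n : N, if (n : G) ∈ M then f n else 0 := by
    rw [← Finset.sum_filter, Finset.sum_subtype (p := fun n : N => (n : G) ∈ M)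
      (Finset.univ.filter fun n : N => (n : G) ∈ M) (fun n => by simp) (fun n => f n)]
    exact Fintype.sum_equiv
      { toFun := fun m => ⟨⟨m, hMN m.2⟩, m.2⟩
        invFun := fun n => ⟨(n.1 : G), n.2⟩
        left_inv := fun m => rfl
        right_inv := fun n => rfl } _ _ fun m => rfl
  rw [h, ← Finset.sum_add_distrib]
  exact Finset.sum_congr rfl fun n _ => by split_ifs <;> ring

/-- The sum over `N \ M` divided by the order of `M`. -/
noncomputable def offInner (M : Subgroup G) {N : Subgroup G} (f g : N → ℂ) : ℂ :=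
  (Nat.card M : ℂ)⁻¹ * ∑ n : N, (open scoped Classical in if (n : G) ∈ M then 0 else f n * conj (g n))

theorem offInner_eq {N M : Subgroup G} (hMN : M ≤ N) {p : ℕ} (hidx : M.relIndex N = p)
    (f g : N → ℂ) :
    offInner M f g = (p : ℂ) * classInner f g - classInner (res M f) (res M g) := by
  classical
  have hc : Nat.card N = Nat.card M * p := by
    rw [← hidx, ← Nat.card_congr (Subgroup.subgroupOfEquivOfLe hMN).toEquiv,
      (M.subgroupOf N).card_mul_index.symm.trans (congrArg _ rfl)]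
    rfl
  have h := sum_diff hMN (fun y => extendByZero N f y * conj (extendByZero N g y))
  simp only [show ∀ n : N, extendByZero N f (n : G) = f n from fun n => Char.extendByZero_mem N f n.2,
    show ∀ n : N, extendByZero N g (n : G) = g n from fun n => Char.extendByZero_mem N g n.2] at h
  have hp : (p : ℂ) ≠ 0 := by
    rw [← hidx]; exact_mod_cast Subgroup.index_ne_zero_of_finite
  rw [offInner, h, classInner, classInner, hc, Nat.cast_mul, mul_inv, mul_sub]
  congr 1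
  · field_simp

namespace CycStep

variable {p : ℕ} [hp : Fact p.Prime] {L R : Subgroup G} [L.Normal] {x : G} (h : CycStep p L R x)
include h

local notation "R₁" => (fixMod L R (Subgroup.zpowers x) : Subgroup G)
local notation "B" => (R ⊔ Subgroup.zpowers x : Subgroup G)
local notation "B'" => (R ⊔ Subgroup.zpowers (x ^ p) : Subgroup G)
local notation "A" => (fixMod L R (Subgroup.zpowers x) ⊔ Subgroup.zpowers x : Subgroup G)
local notation "A'" => (fixMod L R (Subgroup.zpowers x) ⊔ Subgroup.zpowers (x ^ p) : Subgroup G)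

theorem x_mem_normalizer_A' : x ∈ Subgroup.normalizer (A' : Set G) :=
  h.A_le_normalizer_A' h.x_mem_A

theorem x_mem_normalizer_B' : x ∈ Subgroup.normalizer (B' : Set G) :=
  h.B_le_normalizer_B' h.x_mem_B

theorem x_mem_normalizer_R₁ : x ∈ Subgroup.normalizer (R₁ : Set G) :=
  h.zpowers_le_normalizer_R₁ (Subgroup.mem_zpowers x)

theorem fixed_A {ψ : IrrCharacter A'} (hψ : cjI x ψ = ψ) : Fixed A ψ :=
  fixed_sup (le_sup_left.trans h.A_le_normalizer_A') (le_sup_right.trans h.A_le_normalizer_A')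
    (fun y hy => cjI_of_mem (Subgroup.mem_sup_left hy) ψ)
    (fixed_zpowers h.x_mem_normalizer_A' hψ)

theorem fixed_B {θ : IrrCharacter B'} (hθ : cjI x θ = θ) : Fixed B θ :=
  fixed_sup (le_sup_left.trans h.B_le_normalizer_B') (le_sup_right.trans h.B_le_normalizer_B')
    (fun y hy => cjI_of_mem (Subgroup.mem_sup_left hy) θ)
    (fixed_zpowers h.x_mem_normalizer_B' hθ)

theorem A_le_B'_sup : A ≤ A' ⊔ Subgroup.zpowers x :=
  sup_le (le_sup_left.trans le_sup_left) le_sup_right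

theorem B_le_B'_sup : B ≤ B' ⊔ Subgroup.zpowers x :=
  sup_le (le_sup_left.trans le_sup_left) le_sup_right

/-- The derived subgroup of `M ⊔ ⟨x⟩` lies in `M`. -/
theorem comm_mem {M : Subgroup G} (hn : Subgroup.zpowers x ≤ Subgroup.normalizer (M : Set G))
    {a b : G} (ha : a ∈ M ⊔ Subgroup.zpowers x) (hb : b ∈ M ⊔ Subgroup.zpowers x) :
    a * b * a⁻¹ * b⁻¹ ∈ M := by
  set U := M ⊔ Subgroup.zpowers x
  have hMU : U ≤ Subgroup.normalizer (M : Set G) := sup_le Subgroup.le_normalizer hn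
  haveI := normal_subgroupOf (U := U) (V := M) hMU
  have hcyc : ∀ u : U, ∃ i : ℤ, (u : U ⧸ M.subgroupOf U) =
      ((⟨x, Subgroup.mem_sup_right (Subgroup.mem_zpowers x)⟩ : U) : U ⧸ M.subgroupOf U) ^ i := by
    intro u
    obtain ⟨m, hm, y, hy, e⟩ := CfsgLib.Coprime.mem_sup_exists hn u.2
    obtain ⟨i, rfl⟩ := Subgroup.mem_zpowers_iff.1 hy
    refine ⟨i, ?_⟩
    have hu : u = ⟨m, Subgroup.mem_sup_left hm⟩ *
        (⟨x, Subgroup.mem_sup_right (Subgroup.mem_zpowers x)⟩ : U) ^ i := Subtype.ext (by simp [e])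
    rw [hu, QuotientGroup.mk_mul, (QuotientGroup.eq_one_iff _).2
      (show (⟨m, Subgroup.mem_sup_left hm⟩ : U) ∈ M.subgroupOf U from Subgroup.mem_subgroupOf.2 hm),
      one_mul, QuotientGroup.mk_zpow]
  obtain ⟨i, hi⟩ := hcyc ⟨a, ha⟩
  obtain ⟨j, hj⟩ := hcyc ⟨b, hb⟩
  have h1 : (((⟨a, ha⟩ : U) * ⟨b, hb⟩ * (⟨a, ha⟩ : U)⁻¹ * (⟨b, hb⟩ : U)⁻¹ : U) : U ⧸ M.subgroupOf U)
      = 1 := by
    simp only [QuotientGroup.mk_mul, QuotientGroup.mk_inv, hi, hj, ← zpow_neg, ← zpow_add]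
    simp
  exact Subgroup.mem_subgroupOf.1 ((QuotientGroup.eq_one_iff _).1 h1)

theorem comm_A {a b : G} (ha : a ∈ A) (hb : b ∈ A) : a * b * a⁻¹ * b⁻¹ ∈ A' :=
  h.comm_mem (le_sup_right.trans h.A_le_normalizer_A') (h.A_le_B'_sup ha) (h.A_le_B'_sup hb)

theorem comm_B {a b : G} (ha : a ∈ B) (hb : b ∈ B) : a * b * a⁻¹ * b⁻¹ ∈ B' :=
  h.comm_mem (le_sup_right.trans h.B_le_normalizer_B') (h.B_le_B'_sup ha) (h.B_le_B'_sup hb)

theorem exists_ext_A {ψ : IrrCharacter A'} (hψ : cjI x ψ = ψ) :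
    ∃ ξ : IrrCharacter A, Ext ξ ψ :=
  exists_ext_cyclic h.A'_le_A h.A_le_normalizer_A' h.x_mem_A h.A_le_B'_sup hψ

theorem exists_ext_B {θ : IrrCharacter B'} (hθ : cjI x θ = θ) :
    ∃ f : IrrCharacter B, Ext f θ :=
  exists_ext_cyclic h.B'_le_B h.B_le_normalizer_B' h.x_mem_B h.B_le_B'_sup hθ

/-! ### Transfer of sums from `A \\ A'` to `B \\ B'` -/

/-- A function on `A`, kept on `A \\ A'`, induced to `B`. -/
noncomputable def spread (f : A → ℂ) : B → ℂ :=
  indFun ((A).subgroupOf B) fun a =>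
    open scoped Classical in
    if ((a : B) : G) ∈ A' then 0 else f (Subgroup.subgroupOfEquivOfLe h.A_le_B a)

theorem classInner_spread (f : A → ℂ) (g : B → ℂ) (hg : IsClassFunction B g) :
    classInner (h.spread f) g = (p : ℂ)⁻¹ * offInner A' f (res A g) := by
  classical
  have hp0 : (p : ℂ) ≠ 0 := Nat.cast_ne_zero.2 hp.out.ne_zero
  rw [spread, classInner_indFun _ _ _ hg, classInner, offInner]
  have hc : Nat.card ((A).subgroupOf B) = Nat.card (A') * p := by
    rw [Nat.card_congr (Subgroup.subgroupOfEquivOfLe h.A_le_B).toEquiv]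
    exact card_eq_mul h.A'_le_A h.relIndex_A
  rw [hc, Nat.cast_mul, mul_inv, mul_comm (Nat.card (A') : ℂ)⁻¹, mul_assoc]
  congr 1
  congr 1
  refine Fintype.sum_equiv (Subgroup.subgroupOfEquivOfLe h.A_le_B).toEquiv _ _ fun a => ?_
  rw [res_apply (show (((Subgroup.subgroupOfEquivOfLe h.A_le_B).toEquiv a : A) : G) ∈ B from (a : B).2)]
  simp only [MulEquiv.toEquiv_eq_coe, MulEquiv.coe_toEquiv]
  have e : ((Subgroup.subgroupOfEquivOfLe h.A_le_B a : A) : G) = ((a : B) : G) := rfl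
  simp only [e]
  split_ifs
  · simp
  · rfl

theorem spread_apply {f : A → ℂ} (hf : IsClassFunction A f) (a : A) (ha : (a : G) ∉ A') :
    h.spread f ⟨a, h.A_le_B a.2⟩ = f a := by
  classical
  haveI : ((A').subgroupOf A).Normal := normal_subgroupOf h.A_le_normalizer_A'
  set S := (A).subgroupOf B
  have hval : ∀ b : B, extendByZero S (fun a : S =>
      if ((a : B) : G) ∈ A' then 0 else f (Subgroup.subgroupOfEquivOfLe h.A_le_B a))
        (b⁻¹ * ⟨a, h.A_le_B a.2⟩ * b) = if b ∈ S then f a else 0 := by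
    intro b
    by_cases hb : b ∈ S
    · have hbA : (b : G) ∈ A := Subgroup.mem_subgroupOf.1 hb
      have hm : b⁻¹ * ⟨a, h.A_le_B a.2⟩ * b ∈ S :=
        Subgroup.mem_subgroupOf.2 (mul_mem (mul_mem (inv_mem hbA) a.2) hbA)
      rw [Char.extendByZero_mem _ _ hm, if_pos hb, if_neg]
      · have := hf a ⟨b, hbA⟩⁻¹
        rw [← this]
        exact congrArg f (Subtype.ext (by simp))
      · intro hin
        have := conj_mem (h.A_le_normalizer_A' hbA) hin
        exact ha (by simpa [mul_assoc] using this)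
    · rw [if_neg hb]
      by_cases hm : b⁻¹ * ⟨a, h.A_le_B a.2⟩ * b ∈ S
      · exact absurd (Subgroup.mem_subgroupOf.2 (h.mem_A_of_conj a.2 ha b.2
          (by simpa using Subgroup.mem_subgroupOf.1 hm))) hb
      · exact Char.extendByZero_not_mem _ _ hm
  rw [spread, indFun, Finset.sum_congr rfl fun b _ => hval b, ← Finset.sum_filter, Finset.sum_const,
    nsmul_eq_mul, ← Fintype.card_subtype, ← Nat.card_eq_fintype_card, ← mul_assoc,
    inv_mul_cancel₀ (Nat.cast_ne_zero.2 Nat.card_pos.ne'), one_mul]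

/-- The class functions on `B` that are `f` on `A \\ A'` and vanish on `B'`. -/
theorem classInner_spread_self {f : A → ℂ} (hf : IsClassFunction A f) :
    classInner (h.spread f) (h.spread f) = (p : ℂ)⁻¹ * offInner A' f f := by
  classical
  rw [h.classInner_spread f (h.spread f) (isClassFunction_indFun _ _)]
  congr 1
  unfold offInner
  congr 1
  refine Finset.sum_congr rfl fun a _ => ?_
  split_ifs with ha
  · rfl
  · rw [res_apply (h.A_le_B a.2), h.spread_apply hf a ha]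

theorem offInner_transfer {f g : B → ℂ} (hf : IsClassFunction B f) (hg : IsClassFunction B g) :
    offInner A' (res A f) (res A g) = offInner B' f g := by
  classical
  have hp0 : (p : ℂ) ≠ 0 := Nat.cast_ne_zero.2 hp.out.ne_zero
  -- the induced indicator of `A \\ A'` is the indicator of `B \\ B'`
  set one : A → ℂ := fun _ => 1
  set J : B → ℂ := fun b => if (b : G) ∈ B' then 0 else 1 with hJ
  haveI : ((B').subgroupOf B).Normal := normal_subgroupOf h.B_le_normalizer_B'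
  have hJc : IsClassFunction B J := fun a b => by
    simp only [hJ]
    refine if_congr ⟨fun hm => ?_, fun hm => conj_mem (h.B_le_normalizer_B' b.2) hm⟩ rfl rfl
    have := inv_conj_mem (h.B_le_normalizer_B' b.2) hm
    simpa [mul_assoc] using this
  have hone : offInner A' one one = (p : ℂ) - 1 := by
    rw [offInner_eq h.A'_le_A h.relIndex_A]
    have e1 : classInner one one = 1 := classInner_irr_self ⟨one, isIrrCharacter_one⟩
    have e2 : res A' one = fun _ => 1 := funext fun v => res_apply (h.A'_le_A v.2)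
    rw [e1, e2, show classInner (fun _ : (A' : Subgroup G) => (1 : ℂ)) (fun _ => 1) = 1 from
      classInner_irr_self ⟨_, isIrrCharacter_one⟩, mul_one]
  have hJJ : classInner J J = (p : ℂ)⁻¹ * ((p : ℂ) - 1) := by
    have h1 : offInner B' (fun _ : (B : Subgroup G) => (1 : ℂ)) (fun _ => 1) = (p : ℂ) - 1 := by
      rw [offInner_eq h.B'_le_B h.relIndex_B]
      have e2 : res B' (fun _ : (B : Subgroup G) => (1 : ℂ)) = fun _ => 1 :=
        funext fun v => res_apply (h.B'_le_B v.2)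
      rw [e2, show classInner (fun _ : (B' : Subgroup G) => (1 : ℂ)) (fun _ => 1) = 1 from
        classInner_irr_self ⟨_, isIrrCharacter_one⟩,
        show classInner (fun _ : (B : Subgroup G) => (1 : ℂ)) (fun _ => 1) = 1 from
        classInner_irr_self ⟨_, isIrrCharacter_one⟩, mul_one]
    rw [← h1, classInner, offInner]
    have hc : Nat.card (B) = Nat.card (B') * p := card_eq_mul h.B'_le_B h.relIndex_B
    rw [hc, Nat.cast_mul, mul_inv, mul_comm (Nat.card (B') : ℂ)⁻¹, mul_assoc]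
    congr 1
    congr 1
    exact Finset.sum_congr rfl fun b _ => by simp only [hJ]; split_ifs <;> simp
  have hI : h.spread one = J := by
    have hd : classInner (h.spread one - J) (h.spread one - J) = 0 := by
      have e1 : classInner (h.spread one) J = (p : ℂ)⁻¹ * ((p : ℂ) - 1) := by
        rw [h.classInner_spread _ _ hJc, ← hone]
        congr 1
        unfold offInner
        congr 1
        refine Finset.sum_congr rfl fun a _ => ?_
        split_ifs with ha
        · rfl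
        · rw [res_apply (h.A_le_B a.2)]
          simp only [hJ, one]
          rw [if_neg fun hb => ha (h.mem_A'_of_mem_B' a.2 hb)]
      have e2 : classInner J (h.spread one) = (p : ℂ)⁻¹ * ((p : ℂ) - 1) := by
        rw [← classInner_conj, e1]
        simp
      rw [classInner_sub_left, classInner_sub_right, classInner_sub_right, e1, e2, hJJ,
        h.classInner_spread_self (fun _ _ => rfl), hone]
      ring
    exact sub_eq_zero.1 (classInner_self_eq_zero hd)
  -- pair it with `f conj g`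
  set k : B → ℂ := fun b => conj (f b) * g b
  have hk : IsClassFunction B k := fun a b => by simp only [k, hf a b, hg a b]
  have h2 := h.classInner_spread one k hk
  rw [hI] at h2
  have h3 : classInner J k = (p : ℂ)⁻¹ * offInner B' f g := by
    rw [classInner, offInner]
    have hc : Nat.card (B) = Nat.card (B') * p := card_eq_mul h.B'_le_B h.relIndex_B
    rw [hc, Nat.cast_mul, mul_inv, mul_comm (Nat.card (B') : ℂ)⁻¹, mul_assoc]
    congr 1
    congr 1
    exact Finset.sum_congr rfl fun b _ => by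
      simp only [hJ, k]
      split_ifs
      · simp
      · rw [map_mul, Complex.conj_conj, one_mul]
  rw [h3] at h2
  rw [mul_left_cancel₀ (inv_ne_zero hp0) h2]
  unfold offInner
  congr 1
  refine Finset.sum_congr rfl fun a _ => ?_
  split_ifs
  · rfl
  · simp only [res_apply (h.A_le_B a.2), k, one, map_mul, Complex.conj_conj, one_mul]

/-! ### Combinations of irreducible characters of `A` -/

theorem offInner_nonneg (f : A → ℂ) : ∃ r : ℝ, 0 ≤ r ∧ offInner A' f f = (r : ℂ) := by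
  classical
  refine ⟨(Nat.card (A') : ℝ)⁻¹ * ∑ a : A, if (a : G) ∈ A' then 0 else Complex.normSq (f a),
    mul_nonneg (inv_nonneg.2 (Nat.cast_nonneg _))
      (Finset.sum_nonneg fun a _ => by split_ifs <;> [rfl; exact Complex.normSq_nonneg _]), ?_⟩
  rw [offInner]
  push_cast
  congr 1
  refine Finset.sum_congr rfl fun a _ => ?_
  split_ifs
  · rfl
  · exact Complex.mul_conj _

theorem offInner_comb (m n : IrrCharacter A → ℤ) :
    offInner A' (∑ ξ : IrrCharacter A, (m ξ : ℂ) • (ξ : A → ℂ))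
        (∑ ξ : IrrCharacter A, (n ξ : ℂ) • (ξ : A → ℂ)) =
      (((p : ℤ) * ∑ ξ : IrrCharacter A, m ξ * n ξ - ∑ ψ : IrrCharacter A',
        (∑ ξ : IrrCharacter A, m ξ * mult ξ ψ) * (∑ ξ : IrrCharacter A, n ξ * mult ξ ψ) : ℤ) : ℂ) := by
  classical
  rw [offInner_eq h.A'_le_A h.relIndex_A]
  have hres : ∀ m : IrrCharacter A → ℤ, res A' (∑ ξ : IrrCharacter A, (m ξ : ℂ) • (ξ : A → ℂ)) =
      ∑ ψ : IrrCharacter A', ((∑ ξ : IrrCharacter A, m ξ * mult ξ ψ : ℤ) : ℂ) • (ψ : A' → ℂ) := by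
    intro m
    funext v
    rw [res_apply (h.A'_le_A v.2), Finset.sum_apply, Finset.sum_apply]
    simp only [Pi.smul_apply, smul_eq_mul, Int.cast_sum, Int.cast_mul, Int.cast_natCast,
      Finset.sum_mul]
    rw [Finset.sum_comm]
    refine Finset.sum_congr rfl fun ξ _ => ?_
    have e := congrFun (res_expand h.A'_le_A ξ) v
    rw [res_apply (h.A'_le_A v.2), Finset.sum_apply] at e
    rw [e, Finset.mul_sum]
    exact Finset.sum_congr rfl fun ψ _ => by rw [Pi.smul_apply, smul_eq_mul]; ring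
  have horth : ∀ {U : Subgroup G} (a b : IrrCharacter U → ℤ),
      classInner (∑ ξ : IrrCharacter U, (a ξ : ℂ) • (ξ : U → ℂ))
        (∑ ξ : IrrCharacter U, (b ξ : ℂ) • (ξ : U → ℂ)) = ((∑ ξ, a ξ * b ξ : ℤ) : ℂ) := by
    intro U a b
    rw [classInner_sum_left, Int.cast_sum]
    refine Finset.sum_congr rfl fun ξ _ => ?_
    rw [classInner_smul_left, classInner_sum_right, Finset.sum_eq_single ξ]
    · rw [classInner_smul_right, classInner_irr_self, map_intCast, mul_one, Int.cast_mul]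
    · intro η _ hne
      rw [classInner_smul_right, classInner_irr_ne hne.symm, mul_zero]
    · simp
  rw [hres m, hres n, horth, horth]
  push_cast
  ring

/-- The norm on `A \\ A'` dominates the variances over the fixed characters of `A'`. -/
theorem variance_le (m : IrrCharacter A → ℕ) [DecidablePred fun ψ : IrrCharacter A' => cjI x ψ = ψ]
    [∀ ψ : IrrCharacter A', DecidablePred fun ξ : IrrCharacter A => Ext ξ ψ] :
    ∑ ψ ∈ Finset.univ.filter (fun ψ : IrrCharacter A' => cjI x ψ = ψ),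
        ((p : ℤ) * ∑ ξ ∈ Finset.univ.filter (fun ξ : IrrCharacter A => Ext ξ ψ), (m ξ : ℤ) ^ 2 -
          (∑ ξ ∈ Finset.univ.filter (fun ξ : IrrCharacter A => Ext ξ ψ), (m ξ : ℤ)) ^ 2) ≤
      (p : ℤ) * ∑ ξ : IrrCharacter A, (m ξ : ℤ) ^ 2 -
        ∑ ψ : IrrCharacter A', (∑ ξ : IrrCharacter A, (m ξ : ℤ) * mult ξ ψ) ^ 2 := by
  classical
  set F := Finset.univ.filter fun ψ : IrrCharacter A' => cjI x ψ = ψ
  set E := Finset.univ.filter fun ξ : IrrCharacter A => ∃ ψ ∈ F, Ext ξ ψ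
  have hov : ∀ ψ ∈ F, ∀ ξ : IrrCharacter A, mult ξ ψ ≠ 0 → Ext ξ ψ := fun ψ hψ ξ hm =>
    let ⟨_, hξ⟩ := h.exists_ext_A (Finset.mem_filter.1 hψ).2
    hξ.of_over h.A'_le_A (fun _ ha _ hb => h.comm_A ha hb) hm
  set n : IrrCharacter A → ℤ := fun ξ => if ξ ∈ E then 0 else (m ξ : ℤ) with hn
  have h0 : 0 ≤ (p : ℤ) * ∑ ξ, n ξ * n ξ -
      ∑ ψ : IrrCharacter A', (∑ ξ, n ξ * mult ξ ψ) * (∑ ξ, n ξ * mult ξ ψ) := by
    obtain ⟨r, hr, e⟩ := h.offInner_nonneg (∑ ξ : IrrCharacter A, (n ξ : ℂ) • (ξ : A → ℂ))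
    rw [h.offInner_comb, ← Complex.ofReal_intCast, Complex.ofReal_inj] at e
    exact_mod_cast e ▸ hr
  have hM : ∀ ψ ∈ F, ∑ ξ : IrrCharacter A, (m ξ : ℤ) * mult ξ ψ =
      ∑ ξ ∈ Finset.univ.filter (fun ξ : IrrCharacter A => Ext ξ ψ), (m ξ : ℤ) := by
    intro ψ hψ
    rw [Finset.sum_filter]
    refine Finset.sum_congr rfl fun ξ _ => ?_
    split_ifs with he
    · rw [he.mult_eq_one h.A'_le_A, Nat.cast_one, mul_one]
    · rw [show mult ξ ψ = 0 from by_contra fun hm => he (hov ψ hψ ξ hm), Nat.cast_zero, mul_zero]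
  have hN : ∀ ψ, ψ ∉ F → ∑ ξ : IrrCharacter A, n ξ * mult ξ ψ = ∑ ξ, (m ξ : ℤ) * mult ξ ψ := by
    intro ψ hψ
    refine Finset.sum_congr rfl fun ξ _ => ?_
    simp only [hn]
    split_ifs with he
    · obtain ⟨ψ', hψ', he'⟩ := (Finset.mem_filter.1 he).2
      rw [show mult ξ ψ = 0 from by_contra fun hm =>
        hψ (he'.eq_of_mult_ne_zero h.A'_le_A hm ▸ hψ'), Nat.cast_zero, mul_zero, mul_zero]
    · rfl
  have hN0 : ∀ ψ ∈ F, ∑ ξ : IrrCharacter A, n ξ * mult ξ ψ = 0 := by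
    intro ψ hψ
    refine Finset.sum_eq_zero fun ξ _ => ?_
    simp only [hn]
    split_ifs with he
    · rw [zero_mul]
    · rw [show mult ξ ψ = 0 from by_contra fun hm =>
        he (Finset.mem_filter.2 ⟨Finset.mem_univ _, ψ, hψ, hov ψ hψ ξ hm⟩), Nat.cast_zero, mul_zero]
  have hsq : ∑ ξ : IrrCharacter A, (m ξ : ℤ) ^ 2 =
      ∑ ψ ∈ F, ∑ ξ ∈ Finset.univ.filter (fun ξ : IrrCharacter A => Ext ξ ψ), (m ξ : ℤ) ^ 2 +
        ∑ ξ, n ξ * n ξ := by
    rw [← Finset.sum_biUnion fun ψ hψ ψ' hψ' hne => Finset.disjoint_left.2 fun ξ h1 h2 => hne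
      (Subtype.ext ((Finset.mem_filter.1 h1).2.symm.trans (Finset.mem_filter.1 h2).2))]
    rw [show (F.biUnion fun ψ => Finset.univ.filter fun ξ : IrrCharacter A => Ext ξ ψ) = E by
      ext ξ; simp [E], show (∑ ξ, n ξ * n ξ) = ∑ ξ, (if ξ ∈ E then 0 else (m ξ : ℤ) ^ 2) from
        Finset.sum_congr rfl fun ξ _ => by simp only [hn]; split_ifs <;> ring,
      ← Finset.sum_ite_mem_eq E fun ξ => (m ξ : ℤ) ^ 2, ← Finset.sum_add_distrib]
    exact Finset.sum_congr rfl fun ξ _ => by split_ifs <;> ring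
  have hψsq : ∑ ψ : IrrCharacter A', (∑ ξ : IrrCharacter A, (m ξ : ℤ) * mult ξ ψ) ^ 2 =
      ∑ ψ ∈ F, (∑ ξ ∈ Finset.univ.filter (fun ξ : IrrCharacter A => Ext ξ ψ), (m ξ : ℤ)) ^ 2 +
        ∑ ψ : IrrCharacter A', (∑ ξ, n ξ * mult ξ ψ) * (∑ ξ, n ξ * mult ξ ψ) := by
    rw [← Finset.sum_ite_mem_eq F, ← Finset.sum_add_distrib]
    refine Finset.sum_congr rfl fun ψ _ => ?_
    split_ifs with hψ
    · rw [hN0 ψ hψ, hM ψ hψ]; ring
    · rw [hN ψ hψ]; ring
  rw [hsq, hψsq, Finset.sum_sub_distrib, ← Finset.mul_sum]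
  linarith

/-! ### The correspondence between fixed characters of `B'` and of `A'` -/

theorem mult_eq_sum (f : IrrCharacter B) (ψ : IrrCharacter A') :
    (∑ ξ : IrrCharacter A, (mult f ξ : ℤ) * mult ξ ψ) = (mult f ψ : ℤ) := by
  rw [mult_trans h.A'_le_A h.A_le_B f ψ]
  push_cast
  rfl

theorem mult_ext {θ : IrrCharacter B'} {f : IrrCharacter B} (hf : Ext f θ) (ψ : IrrCharacter A') :
    mult f ψ = mult θ ψ := by
  rw [mult_trans h.A'_le_B' h.B'_le_B, Finset.sum_eq_single θ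
    (fun ω _ hne => by
      rw [show mult f ω = 0 from by_contra fun hm => hne (hf.eq_of_mult_ne_zero h.B'_le_B hm),
        zero_mul]) (by simp), hf.mult_eq_one h.B'_le_B, one_mul]

theorem norm_ext {θ θ' : IrrCharacter B'} {f f' : IrrCharacter B} (hf : Ext f θ) (hf' : Ext f' θ')
    [Decidable (f = f')] [Decidable (θ = θ')] :
    (p : ℤ) * ∑ ξ : IrrCharacter A, (mult f ξ : ℤ) * mult f' ξ -
        ∑ ψ : IrrCharacter A', (mult θ ψ : ℤ) * mult θ' ψ =
      (p : ℤ) * (if f = f' then 1 else 0) - if θ = θ' then 1 else 0 := by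
  classical
  have hm : ∀ (g : IrrCharacter B), res A (g : B → ℂ) =
      ∑ ξ : IrrCharacter A, ((mult g ξ : ℤ) : ℂ) • (ξ : A → ℂ) := fun g => by
    rw [res_expand h.A_le_B]
    exact Finset.sum_congr rfl fun ξ _ => by rw [Int.cast_natCast]
  have h1 := h.offInner_transfer (isClassFunction_irr f) (isClassFunction_irr f')
  rw [hm f, hm f', h.offInner_comb, offInner_eq h.B'_le_B h.relIndex_B,
    show res B' (f : B → ℂ) = _ from hf, show res B' (f' : B → ℂ) = _ from hf', classInner_irr,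
    classInner_irr] at h1
  simp only [h.mult_eq_sum, h.mult_ext hf, h.mult_ext hf'] at h1
  split_ifs at h1 ⊢ <;> exact_mod_cast h1

/-- Above a fixed character exactly one fixed character below has multiplicity prime to `p`. -/
theorem exists_unique_below {θ : IrrCharacter B'} (hθ : cjI x θ = θ) :
    ∃ ψ : IrrCharacter A', cjI x ψ = ψ ∧ ¬ p ∣ mult θ ψ ∧
      ∀ ψ' : IrrCharacter A', cjI x ψ' = ψ' → ¬ p ∣ mult θ ψ' → ψ' = ψ := by
  classical
  obtain ⟨f, hf⟩ := h.exists_ext_B hθ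
  set M : IrrCharacter A' → ℕ := fun ψ => mult θ ψ
  set F := Finset.univ.filter fun ψ : IrrCharacter A' => cjI x ψ = ψ
  have hn1 := h.norm_ext hf hf
  rw [if_pos rfl, if_pos rfl, mul_one] at hn1
  have hle := h.variance_le (fun ξ => mult f ξ)
  simp only [h.mult_eq_sum, h.mult_ext hf, sq] at hle
  rw [hn1] at hle
  set var : IrrCharacter A' → ℤ := fun ψ => (p : ℤ) *
      ∑ ξ ∈ Finset.univ.filter (fun ξ : IrrCharacter A => Ext ξ ψ), (mult f ξ : ℤ) * mult f ξ -
    (∑ ξ ∈ Finset.univ.filter (fun ξ : IrrCharacter A => Ext ξ ψ), (mult f ξ : ℤ)) *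
      (∑ ξ ∈ Finset.univ.filter (fun ξ : IrrCharacter A => Ext ξ ψ), (mult f ξ : ℤ)) with hvar
  have hfib : ∀ ψ ∈ F, 0 ≤ var ψ ∧ (¬ p ∣ M ψ → (p : ℤ) - 1 ≤ var ψ) := by
    intro ψ hψ
    obtain ⟨ξ₀, hξ₀⟩ := h.exists_ext_A (Finset.mem_filter.1 hψ).2
    have hc : (Finset.univ.filter fun ξ : IrrCharacter A => Ext ξ ψ).card = p := by
      rw [hξ₀.card_eq h.A'_le_A h.A_le_normalizer_A' (fun _ ha _ hb => h.comm_A ha hb), h.relIndex_A]
    obtain ⟨h1, h2⟩ := variance_bound _ (fun ξ : IrrCharacter A => (mult f ξ : ℤ)) hp.out hc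
    simp only [sq] at h1 h2
    refine ⟨h1, fun hM => h2 fun hdvd => hM ?_⟩
    have : (M ψ : ℤ) = ∑ ξ ∈ Finset.univ.filter (fun ξ : IrrCharacter A => Ext ξ ψ), (mult f ξ : ℤ) := by
      show (mult θ ψ : ℤ) = _
      rw [← h.mult_ext hf, ← h.mult_eq_sum, Finset.sum_filter]
      refine Finset.sum_congr rfl fun ξ _ => ?_
      split_ifs with he
      · rw [he.mult_eq_one h.A'_le_A, Nat.cast_one, mul_one]
      · rw [show mult ξ ψ = 0 from by_contra fun hm =>
          he (hξ₀.of_over h.A'_le_A (fun _ ha _ hb => h.comm_A ha hb) hm), Nat.cast_zero, mul_zero]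
    rw [← this] at hdvd
    exact_mod_cast hdvd
  -- existence: the squares add up to `1` modulo `p`
  have hall : Nat.ModEq p (∑ ψ, M ψ * M ψ) (∑ ψ ∈ Finset.univ.filter
      (fun ψ : IrrCharacter A' => Fixed (Subgroup.zpowers x) ψ), M ψ * M ψ) :=
    sum_modEq (Subgroup.zpowers_le.2 h.x_mem_normalizer_A') (PMod.sup_zpowers h.hxk) h.L_le_A' _
      fun y hy ψ => by
        have hyθ : cjI y θ = θ := fixed_zpowers h.x_mem_normalizer_B' hθ y hy
        simp only [M]
        conv_lhs => rw [← hyθ]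
        rw [mult_cjI h.A'_le_B' (Subgroup.zpowers_le.2 h.x_mem_normalizer_B' hy)
          (Subgroup.zpowers_le.2 h.x_mem_normalizer_A' hy)]
  obtain ⟨ψ, hψF, hψ⟩ : ∃ ψ ∈ F, ¬ p ∣ M ψ := by
    by_contra hno
    push Not at hno
    have hd : (p : ℕ) ∣ ∑ ψ, M ψ * M ψ := (hall.dvd_iff dvd_rfl).2 (Finset.dvd_sum fun ψ hψ =>
      (hno ψ (Finset.mem_filter.2 ⟨Finset.mem_univ _,
        (Finset.mem_filter.1 hψ).2 x (Subgroup.mem_zpowers x)⟩)).mul_right _)
    have hd' : (p : ℤ) ∣ ∑ ψ : IrrCharacter A', (mult θ ψ : ℤ) * mult θ ψ := by exact_mod_cast hd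
    have h1 : (p : ℤ) ∣ 1 := by
      have e := sub_sub_cancel ((p : ℤ) * ∑ ξ : IrrCharacter A, (mult f ξ : ℤ) * mult f ξ)
        (∑ ψ : IrrCharacter A', (mult θ ψ : ℤ) * mult θ ψ)
      rw [hn1] at e
      rw [← e] at hd'
      have := (dvd_sub (dvd_mul_right (p : ℤ) (∑ ξ : IrrCharacter A, (mult f ξ : ℤ) * mult f ξ - 1))
        hd')
      rwa [show (p : ℤ) * (∑ ξ : IrrCharacter A, (mult f ξ : ℤ) * mult f ξ - 1) -
        ((p : ℤ) * ∑ ξ : IrrCharacter A, (mult f ξ : ℤ) * mult f ξ - ((p : ℤ) - 1)) = -1 by ring,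
        dvd_neg] at this
    exact hp.out.not_dvd_one (by exact_mod_cast h1)
  refine ⟨ψ, (Finset.mem_filter.1 hψF).2, hψ, fun ψ' hψ' hM' => ?_⟩
  by_contra hne
  have hψ'F : ψ' ∈ F := Finset.mem_filter.2 ⟨Finset.mem_univ _, hψ'⟩
  have hsub : var ψ' + var ψ ≤ ∑ φ ∈ F, var φ := by
    rw [← Finset.sum_pair hne]
    exact Finset.sum_le_sum_of_subset_of_nonneg (by simp [Finset.insert_subset_iff, hψF, hψ'F])
      fun φ hφ _ => (hfib φ hφ).1
  have hp2 : (2 : ℤ) ≤ p := by exact_mod_cast hp.out.two_le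
  linarith [(hfib ψ hψF).2 hψ, (hfib ψ' hψ'F).2 hM']

/-- The correspondence on the level of `B'` and `A'` is injective. -/
theorem below_injective {θ θ' : IrrCharacter B'} (hθ : cjI x θ = θ) (hθ' : cjI x θ' = θ')
    {ψ : IrrCharacter A'} (hψ : cjI x ψ = ψ) (hm : ¬ p ∣ mult θ ψ) (hm' : ¬ p ∣ mult θ' ψ) :
    θ = θ' := by
  classical
  by_contra hne
  obtain ⟨f, hf⟩ := h.exists_ext_B hθ
  obtain ⟨f', hf'⟩ := h.exists_ext_B hθ'
  have hff : f ≠ f' := fun e => hne (Subtype.ext (hf.symm.trans (e ▸ hf')))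
  have h1 := h.norm_ext hf hf'
  rw [if_neg hne, if_neg hff, mul_zero, sub_zero, sub_eq_zero] at h1
  have hdvd : (p : ℕ) ∣ ∑ φ : IrrCharacter A', mult θ φ * mult θ' φ := by
    have : (p : ℤ) ∣ ∑ φ : IrrCharacter A', (mult θ φ : ℤ) * mult θ' φ := h1 ▸ dvd_mul_right _ _
    exact_mod_cast this
  have hall := sum_modEq (Subgroup.zpowers_le.2 h.x_mem_normalizer_A') (PMod.sup_zpowers h.hxk)
    h.L_le_A' (fun φ : IrrCharacter A' => mult θ φ * mult θ' φ) fun y hy φ => by
      have hy1 : cjI y θ = θ := fixed_zpowers h.x_mem_normalizer_B' hθ y hy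
      have hy2 : cjI y θ' = θ' := fixed_zpowers h.x_mem_normalizer_B' hθ' y hy
      conv_lhs => rw [← hy1, ← hy2]
      rw [mult_cjI h.A'_le_B' (Subgroup.zpowers_le.2 h.x_mem_normalizer_B' hy)
          (Subgroup.zpowers_le.2 h.x_mem_normalizer_A' hy),
        mult_cjI h.A'_le_B' (Subgroup.zpowers_le.2 h.x_mem_normalizer_B' hy)
          (Subgroup.zpowers_le.2 h.x_mem_normalizer_A' hy)]
  obtain ⟨ψ₁, hψ₁, -, hu⟩ := h.exists_unique_below hθ
  have hψF : ψ ∈ Finset.univ.filter fun φ : IrrCharacter A' => Fixed (Subgroup.zpowers x) φ :=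
    Finset.mem_filter.2 ⟨Finset.mem_univ _, fixed_zpowers h.x_mem_normalizer_A' hψ⟩
  rw [← Finset.add_sum_erase _ _ hψF] at hall
  have hrest : p ∣ ∑ φ ∈ (Finset.univ.filter fun φ : IrrCharacter A' =>
      Fixed (Subgroup.zpowers x) φ).erase ψ, mult θ φ * mult θ' φ := by
    refine Finset.dvd_sum fun φ hφ => Dvd.dvd.mul_right ?_ _
    obtain ⟨hne', hφ'⟩ := Finset.mem_erase.1 hφ
    have hφx : cjI x φ = φ := (Finset.mem_filter.1 hφ').2 x (Subgroup.mem_zpowers x)
    by_contra hnd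
    exact hne' ((hu φ hφx hnd).trans (hu ψ hψ hm).symm)
  have := (hall.dvd_iff dvd_rfl).1 hdvd
  exact (hp.out.dvd_mul.1 ((Nat.dvd_add_left hrest).1 this)).elim hm hm'

/-- Below every fixed character of `A'` lies a fixed character of `B'`. -/
theorem exists_above {ψ : IrrCharacter A'} (hψ : cjI x ψ = ψ) :
    ∃ θ : IrrCharacter B', cjI x θ = θ ∧ ¬ p ∣ mult θ ψ := by
  classical
  obtain ⟨ξ, hξ⟩ := h.exists_ext_A hψ
  have hp0 : (p : ℂ) ≠ 0 := Nat.cast_ne_zero.2 hp.out.ne_zero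
  have hcl : IsClassFunction B (h.spread (ξ : A → ℂ)) := isClassFunction_indFun _ _
  -- a constituent with multiplicity prime to `p`
  obtain ⟨f, hf⟩ : ∃ f : IrrCharacter B, ¬ p ∣ mult f ψ := by
    by_contra hno
    push Not at hno
    set c : IrrCharacter B → ℤ := fun f => (p : ℤ) * mult f ξ - mult f ψ with hc
    have hin : ∀ f : IrrCharacter B, classInner (h.spread (ξ : A → ℂ)) (f : B → ℂ) =
        (p : ℂ)⁻¹ * (c f : ℂ) := by
      intro f
      rw [h.classInner_spread _ _ (isClassFunction_irr f), offInner_eq h.A'_le_A h.relIndex_A,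
        res_res h.A'_le_A, show res A' (ξ : A → ℂ) = _ from hξ, ← classInner_conj,
        mult_spec h.A_le_B, map_natCast, ← classInner_conj (ψ := (ψ : A' → ℂ)),
        mult_spec (h.A'_le_A.trans h.A_le_B), map_natCast]
      simp [hc]
    have hn := h.classInner_spread_self (isClassFunction_irr ξ)
    rw [offInner_eq h.A'_le_A h.relIndex_A, show res A' (ξ : A → ℂ) = _ from hξ, classInner_irr_self,
      classInner_irr_self, mul_one] at hn
    rw [classInner_expand hcl, Finset.sum_congr rfl (g := fun f : IrrCharacter B =>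
        (p : ℂ)⁻¹ * (p : ℂ)⁻¹ * ((c f * c f : ℤ) : ℂ)) fun f _ => by
      rw [hin, map_mul, map_inv₀, map_natCast, map_intCast, Int.cast_mul]; ring,
      ← Finset.mul_sum, mul_assoc] at hn
    have hn' := mul_left_cancel₀ (inv_ne_zero hp0) hn
    rw [inv_mul_eq_iff_eq_mul₀ hp0, ← Int.cast_sum] at hn'
    have hn2 : (∑ f : IrrCharacter B, c f * c f : ℤ) = (p : ℤ) * ((p : ℤ) - 1) := by
      exact_mod_cast hn'
    have hdvd : (p : ℤ) * p ∣ (p : ℤ) * ((p : ℤ) - 1) := hn2 ▸ Finset.dvd_sum fun f _ =>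
      mul_dvd_mul (dvd_sub (dvd_mul_right _ _) (Int.natCast_dvd_natCast.2 (hno f)))
        (dvd_sub (dvd_mul_right _ _) (Int.natCast_dvd_natCast.2 (hno f)))
    have h1 : (p : ℤ) ∣ 1 := by
      have := Int.dvd_of_mul_dvd_mul_left (by exact_mod_cast hp.out.ne_zero) hdvd
      simpa using dvd_sub (dvd_refl (p : ℤ)) this
    exact hp.out.not_dvd_one (by exact_mod_cast h1)
  -- pass through `B'`
  have hall := sum_modEq (Subgroup.zpowers_le.2 h.x_mem_normalizer_B') (PMod.sup_zpowers h.hxk)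
    (h.L_le_A'.trans h.A'_le_B') (fun θ : IrrCharacter B' => mult f θ * mult θ ψ) fun y hy θ => by
      have hy1 : cjI y f = f := cjI_of_mem (Subgroup.mem_sup_right hy) f
      have hy2 : cjI y ψ = ψ := fixed_zpowers h.x_mem_normalizer_A' hψ y hy
      conv_lhs => rw [← hy1, ← hy2]
      rw [mult_cjI h.B'_le_B (Subgroup.le_normalizer (Subgroup.mem_sup_right hy))
          (Subgroup.zpowers_le.2 h.x_mem_normalizer_B' hy),
        mult_cjI h.A'_le_B' (Subgroup.zpowers_le.2 h.x_mem_normalizer_B' hy)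
          (Subgroup.zpowers_le.2 h.x_mem_normalizer_A' hy)]
  rw [← mult_trans h.A'_le_B' h.B'_le_B] at hall
  by_contra hno
  push Not at hno
  refine hf ((hall.dvd_iff dvd_rfl).2 (Finset.dvd_sum fun θ hθ => Dvd.dvd.mul_left ?_ _))
  exact hno θ ((Finset.mem_filter.1 hθ).2 x (Subgroup.mem_zpowers x))

/-! ### Descending to `R` and `R₁` -/

/-- A fixed character of `M ⊔ ⟨x ^ p⟩` restricts irreducibly to `M`. -/
theorem exists_ext_below {M : Subgroup G} (hn : Subgroup.zpowers x ≤ Subgroup.normalizer (M : Set G))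
    (hLM : L ≤ M) {ψ : IrrCharacter (M ⊔ Subgroup.zpowers (x ^ p) : Subgroup G)}
    (hψ : cjI x ψ = ψ) : ∃ φ : IrrCharacter M, cjI x φ = φ ∧ Ext ψ φ := by
  classical
  have hxM : x ∈ Subgroup.normalizer (M : Set G) := hn (Subgroup.mem_zpowers x)
  have hU : (M ⊔ Subgroup.zpowers (x ^ p)) ≤ Subgroup.normalizer (M : Set G) :=
    sup_le Subgroup.le_normalizer (Subgroup.zpowers_le.2 (pow_mem hxM p))
  have hxU : x ∈ Subgroup.normalizer ((M ⊔ Subgroup.zpowers (x ^ p) : Subgroup G) : Set G) := by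
    have := CfsgLib.Coprime.sup_le_normalizer hn h.zpowers_le_normalizer_pow
    exact this (Subgroup.mem_zpowers x)
  obtain ⟨φ, hφ⟩ := exists_mult_ne_zero (le_sup_left : M ≤ (M ⊔ Subgroup.zpowers (x ^ p))) ψ
  have hx' : mult ψ (cjI x φ) ≠ 0 := by
    conv => arg 1; rw [← hψ]
    rwa [mult_cjI le_sup_left hxU hxM]
  obtain ⟨u, hu, hue⟩ := exists_conj le_sup_left hU hφ hx'
  obtain ⟨r, hr, y, hy, rfl⟩ := CfsgLib.Coprime.mem_sup_exists
    (Subgroup.zpowers_le.2 (pow_mem hxM p)) hu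
  obtain ⟨i, rfl⟩ := Subgroup.mem_zpowers_iff.1 hy
  have hyN : (x ^ p) ^ i ∈ Subgroup.normalizer (M : Set G) := zpow_mem (pow_mem hxM p) i
  rw [cjI_mul (Subgroup.le_normalizer hr) hyN, cjI_of_mem hr] at hue
  -- a power of `x` with exponent prime to `p` fixes `φ`
  set z := x ^ ((p : ℤ) * i - 1)
  have hz : cjI z φ = φ := by
    have e : z = x⁻¹ * (x ^ p) ^ i := by
      show x ^ ((p : ℤ) * i - 1) = _
      rw [← zpow_natCast x p, ← zpow_mul, ← zpow_neg_one, ← zpow_add]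
      congr 1; ring
    rw [e, cjI_mul (inv_mem hxM) hyN, hue, cjI_inv_cancel hxM]
  have hzN : z ∈ Subgroup.normalizer (M : Set G) := zpow_mem hxM _
  obtain ⟨k, hk⟩ := h.hxk
  obtain ⟨a, b, hab⟩ : IsCoprime ((p : ℤ) ^ k) ((p : ℤ) * i - 1) :=
    IsCoprime.pow_left ⟨i, -1, by ring⟩
  have hxφ : cjI x φ = φ := by
    have hw : cjI (x ^ (p ^ k)) φ = φ := cjI_of_mem (hLM hk) φ
    have hx1 : x = (x ^ p ^ k) ^ a * z ^ b := by
      show x = _ * (x ^ ((p : ℤ) * i - 1)) ^ b
      rw [← zpow_natCast x (p ^ k), ← zpow_mul, ← zpow_mul, ← zpow_add, Nat.cast_pow,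
        mul_comm ((p : ℤ) ^ k), mul_comm ((p : ℤ) * i - 1), hab, zpow_one]
    rw [hx1, cjI_mul (zpow_mem (pow_mem hxM _) a) (zpow_mem hzN b),
      (fixed_zpowers hzN hz) _ (Subgroup.zpow_mem_zpowers _ b),
      (fixed_zpowers (pow_mem hxM _) hw) _ (Subgroup.zpow_mem_zpowers _ a)]
  have hpow : cjI (x ^ p) φ = φ :=
    fixed_zpowers hxM hxφ _ (pow_mem (Subgroup.mem_zpowers x) p)
  obtain ⟨χ₀, hχ₀⟩ := exists_ext_cyclic (le_sup_left : M ≤ (M ⊔ Subgroup.zpowers (x ^ p))) hU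
    (Subgroup.mem_sup_right (Subgroup.mem_zpowers _)) le_rfl hpow
  refine ⟨φ, hxφ, hχ₀.of_over le_sup_left (fun a ha b hb => ?_) hφ⟩
  exact h.comm_mem hn
    (sup_le_sup_left (Subgroup.zpowers_le.2 (pow_mem (Subgroup.mem_zpowers x) p)) M ha)
    (sup_le_sup_left (Subgroup.zpowers_le.2 (pow_mem (Subgroup.mem_zpowers x) p)) M hb)

/-- A fixed character of `M` has `|M ⊔ ⟨x ^ p⟩ : M|` fixed extensions, which are all its extensions. -/
theorem exts_of_fixed {M : Subgroup G} (hn : Subgroup.zpowers x ≤ Subgroup.normalizer (M : Set G))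
    {φ : IrrCharacter M} (hφ : cjI x φ = φ) :
    (∀ ψ : IrrCharacter (M ⊔ Subgroup.zpowers (x ^ p) : Subgroup G), Ext ψ φ → cjI x ψ = ψ) ∧
      Nat.card {ψ : IrrCharacter (M ⊔ Subgroup.zpowers (x ^ p) : Subgroup G) // Ext ψ φ} =
        M.relIndex (M ⊔ Subgroup.zpowers (x ^ p)) := by
  classical
  set U := M ⊔ Subgroup.zpowers (x ^ p)
  set T := M ⊔ Subgroup.zpowers x
  have hxM : x ∈ Subgroup.normalizer (M : Set G) := hn (Subgroup.mem_zpowers x)
  have hT : T ≤ Subgroup.normalizer (M : Set G) := sup_le Subgroup.le_normalizer hn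
  have hUT : U ≤ T := sup_le_sup_left (Subgroup.zpowers_le.2 (pow_mem (Subgroup.mem_zpowers x) p)) M
  have hab : ∀ a ∈ T, ∀ b ∈ T, a * b * a⁻¹ * b⁻¹ ∈ M := fun a ha b hb => h.comm_mem hn ha hb
  have hxU : x ∈ Subgroup.normalizer (U : Set G) :=
    CfsgLib.Coprime.sup_le_normalizer hn h.zpowers_le_normalizer_pow (Subgroup.mem_zpowers x)
  obtain ⟨χ, hχ⟩ := exists_ext_cyclic (le_sup_left : M ≤ T) hT
    (Subgroup.mem_sup_right (Subgroup.mem_zpowers x)) le_rfl hφ
  refine ⟨fun ψ hψ => ?_, ?_⟩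
  · haveI : (M.subgroupOf U).Normal := normal_subgroupOf (hUT.trans hT)
    haveI : (U.subgroupOf T).Normal := ⟨fun u hu t => by
      have h1 := mul_mem (Subgroup.mem_sup_left (S := M) (T := Subgroup.zpowers (x ^ p))
        (hab _ t.2 _ (u : T).2)) (Subgroup.mem_subgroupOf.1 hu)
      rw [Subgroup.mem_subgroupOf]
      simpa [mul_assoc] using h1⟩
    -- `ψ` differs from the conjugate by a linear character trivial on `M`
    obtain ⟨ω, hω, hω'⟩ : ∃ ω : IrrCharacter U, mult χ ω ≠ 0 ∧ mult ω φ ≠ 0 :=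
      exists_mult_between le_sup_left hUT (by rw [hχ.mult_eq_one le_sup_left]; exact one_ne_zero)
    have hωe : Ext ω φ := hψ.of_over le_sup_left (fun a ha b hb => hab a (hUT ha) b (hUT hb)) hω'
    have hωx : cjI x ω = ω := by
      have hUn : T ≤ Subgroup.normalizer (U : Set G) :=
        sup_le (le_sup_left.trans Subgroup.le_normalizer) (Subgroup.zpowers_le.2 hxU)
      have hd : deg χ = deg ω := by rw [hχ.deg_eq le_sup_left, hωe.deg_eq le_sup_left]
      have hres : res U (χ : T → ℂ) = (ω : U → ℂ) := by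
        have hexp := deg_eq_sum hUT χ
        rw [← Finset.add_sum_erase _ _ (Finset.mem_univ ω), hd] at hexp
        have hpos := deg_pos ω
        have hm1 : mult χ ω = 1 ∧ ∑ φ' ∈ Finset.univ.erase ω, mult χ φ' * deg φ' = 0 := by
          have h5 : deg ω ≤ mult χ ω * deg ω := Nat.le_mul_of_pos_left _ (Nat.pos_of_ne_zero hω)
          refine ⟨le_antisymm (Nat.le_of_mul_le_mul_right (?_ : mult χ ω * deg ω ≤ 1 * deg ω) hpos)
            (Nat.one_le_iff_ne_zero.2 hω), by omega⟩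
          omega
        rw [res_expand hUT, Finset.sum_eq_single ω (fun φ' _ hne => by
          have := Finset.sum_eq_zero_iff.1 hm1.2 φ' (Finset.mem_erase.2 ⟨hne, Finset.mem_univ _⟩)
          rw [(Nat.mul_eq_zero.1 this).resolve_right (deg_pos φ').ne', Nat.cast_zero, zero_smul])
          (by simp), hm1.1, Nat.cast_one, one_smul]
      exact Ext.cjI_eq (χ := χ) hUT (Subgroup.le_normalizer (Subgroup.mem_sup_right
        (Subgroup.mem_zpowers x))) hxU hres (cjI_of_mem (Subgroup.mem_sup_right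
          (Subgroup.mem_zpowers x)) χ)
    obtain ⟨f, hf, he⟩ := exists_linMul_eq (M.subgroupOf U)
      (fun a b => Subgroup.mem_subgroupOf.2 (by simpa using hab a (hUT a.2) b (hUT b.2)))
      (χ := ω) (χ' := ψ) (θ := toSub le_sup_left φ)
      (by rw [classInner_toSub_mult le_sup_left, hωe.mult_eq_one le_sup_left]; exact Nat.cast_ne_zero.mpr one_ne_zero)
      (by rw [classInner_toSub_mult le_sup_left, hψ.mult_eq_one le_sup_left]; exact Nat.cast_ne_zero.mpr one_ne_zero)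
    refine Subtype.ext (funext fun u => ?_)
    rw [cjI_coe hxU, cj_apply hxU, ← he]
    show (f _ : ℂ) * (ω : U → ℂ) _ = (f u : ℂ) * (ω : U → ℂ) u
    have h1 : (ω : U → ℂ) ⟨x⁻¹ * u * x, inv_conj_mem hxU u.2⟩ = (ω : U → ℂ) u := by
      rw [← cj_apply hxU (ω : U → ℂ) u, ← cjI_coe hxU, hωx]
    have h2 : f ⟨x⁻¹ * u * x, inv_conj_mem hxU u.2⟩ = f u := by
      rw [← mul_inv_eq_one, ← map_inv, ← map_mul]
      refine hf _ (Subgroup.mem_subgroupOf.2 ?_)
      have := hab x⁻¹ (inv_mem (Subgroup.mem_sup_right (Subgroup.mem_zpowers x))) u (hUT u.2)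
      simpa using this
    rw [h1, h2]
  · obtain ⟨χ₀, hχ₀⟩ := exists_ext_cyclic (le_sup_left : M ≤ U) (hUT.trans hT)
      (Subgroup.mem_sup_right (Subgroup.mem_zpowers _)) le_rfl
      (fixed_zpowers hxM hφ _ (pow_mem (Subgroup.mem_zpowers x) p))
    rw [Nat.card_eq_fintype_card, Fintype.card_subtype]
    exact hχ₀.card_eq le_sup_left (hUT.trans hT) fun a ha b hb => hab a (hUT ha) b (hUT hb)

end CycStep

end CfsgLib.Char.RelMcKay
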